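import Cfsg.Agent.Lib.Classical.AschGen.Semisimple

/-!
# The centre of the algebra of a normal subgroup

A centre with a non-trivial idempotent gives an imprimitivity system; a field centre larger than
the scalars gives the normaliser of a field extension of prime degree.
-/

set_option autoImplicit false
set_option linter.unusedSectionVars false

namespace CfsgLib.Classical.AschGen

open Matrix Cfsg Cfsg.Geo CfsgLib.Classical.AschPrime
open scoped MatrixGroups

variable {F : Type*} [Field F] {n : ℕ}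

/-- The centre of a subalgebra, inside the ambient algebra. -/
noncomputable def centre (A : Subalgebra F (Mat n F)) : Subalgebra F (Mat n F) :=
  A ⊓ Subalgebra.centralizer F (A : Set (Mat n F))

theorem mem_centre {A : Subalgebra F (Mat n F)} {z : Mat n F} :
    z ∈ centre A ↔ z ∈ A ∧ ∀ a ∈ A, a * z = z * a := by
  simp [centre, Subalgebra.mem_centralizer_iff]

theorem centre_comm {A : Subalgebra F (Mat n F)} : ∀ x ∈ centre A, ∀ y ∈ centre A, x * y = y * x :=
  fun x hx y hy => ((mem_centre.mp hy).2 x (mem_centre.mp hx).1)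

theorem conj_inv_cancel (h : GL (Fin n) F) (x : Mat n F) : conjHom h (conjHom h⁻¹ x) = x := by
  simp [conjHom_apply, mul_assoc]

theorem centre_normalised {A : Subalgebra F (Mat n F)} {H : Subgroup (GL (Fin n) F)}
    (hA : NormalisedBy A H) : NormalisedBy (centre A) H := by
  intro h hh z hz
  rw [mem_centre] at hz ⊢
  refine ⟨hA h hh z hz.1, fun a ha => ?_⟩
  have e := congrArg (conjHom h) (hz.2 _ (hA _ (H.inv_mem hh) a ha))
  rwa [map_mul, map_mul, conj_inv_cancel] at e

theorem le_normalizer_of_normalised {A : Subalgebra F (Mat n F)} {H : Subgroup (GL (Fin n) F)}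
    (hA : NormalisedBy A H) : H ≤ subalgebraNormalizer A := fun h hh k =>
  ⟨fun hk => hA h hh k hk, fun hk => by
    have := hA h⁻¹ (H.inv_mem hh) _ hk
    simpa [conjHom_apply, mul_assoc] using this⟩

/-- An element that is neither zero nor invertible has a non-trivial idempotent power, unless it is
nilpotent. -/
theorem exists_idempotent {α : Type*} [Monoid α] [Finite α] (x : α) :
    ∃ k, 0 < k ∧ IsIdempotentElem (x ^ k) := by
  obtain ⟨a, b, hab, hne⟩ : ∃ a b, x ^ a = x ^ b ∧ a < b := by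
    obtain ⟨a, b, hne, hab⟩ := Finite.exists_ne_map_eq_of_infinite fun k : ℕ => x ^ k
    rcases lt_or_gt_of_ne hne with h | h
    · exact ⟨a, b, hab, h⟩
    · exact ⟨b, a, hab.symm, h⟩
  set p := b - a with hp
  have hstep : ∀ m, a ≤ m → x ^ (m + p) = x ^ m := fun m hm => by
    obtain ⟨c, rfl⟩ := Nat.exists_eq_add_of_le hm
    rw [show a + c + p = b + c by omega, pow_add, ← hab, ← pow_add]
  have hmul : ∀ j m, a ≤ m → x ^ (m + j * p) = x ^ m := by
    intro j
    induction j with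
    | zero => simp
    | succ j ih =>
      intro m hm
      rw [show m + (j + 1) * p = (m + j * p) + p by ring, hstep _ (le_trans hm (Nat.le_add_right _ _)),
        ih m hm]
  refine ⟨(a + 1) * p, Nat.mul_pos (by omega) (by omega), ?_⟩
  show x ^ ((a + 1) * p) * x ^ ((a + 1) * p) = _
  rw [← pow_add, hmul (a + 1) _ (by
    calc a ≤ a + 1 := Nat.le_succ a
      _ = (a + 1) * 1 := (mul_one _).symm
      _ ≤ _ := Nat.mul_le_mul_left _ (by omega))]

/-- Nilpotent central elements of the algebra of a normalised subalgebra vanish. -/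
theorem centre_reduced [Finite F] {A : Subalgebra F (Mat n F)} [IsSemisimpleRing A]
    {z : Mat n F} (hz : z ∈ centre A) {k : ℕ} (hk : z ^ k = 0) : z = 0 := by
  classical
  obtain ⟨hzA, hzc⟩ := mem_centre.mp hz
  set zA : A := ⟨z, hzA⟩
  have hcen : ∀ a : A, a * zA = zA * a := fun a => Subtype.ext (hzc a a.2)
  haveI : Finite A := Subtype.finite
  haveI : IsArtinianRing A := isArtinian_of_tower F (inferInstance : IsArtinian F A)
  have hJ : Ring.jacobson A = ⊥ := IsArtinianRing.isSemisimpleRing_iff_jacobson.mp inferInstance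
  have hmem : zA ∈ (⊥ : Ideal A).jacobson := by
    rw [Ideal.mem_jacobson_iff]
    intro y
    have hnil : IsNilpotent (y * zA) := by
      refine ⟨k, ?_⟩
      rw [Commute.mul_pow (hcen y), show zA ^ k = 0 from Subtype.ext (by simpa [zA] using hk),
        mul_zero]
    obtain ⟨u, hu⟩ := hnil.isUnit_one_add
    refine ⟨(↑u⁻¹ : A), ?_⟩
    rw [Ideal.mem_bot, mul_assoc, show (↑u⁻¹ : A) * (y * zA) + ↑u⁻¹ = ↑u⁻¹ * (1 + y * zA) by
      rw [mul_add, mul_one, add_comm], ← hu, Units.inv_mul, sub_self]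
  rw [Ideal.jacobson_bot, hJ, Submodule.mem_bot] at hmem
  exact congrArg Subtype.val hmem

/-- A centre with a non-trivial idempotent gives an imprimitivity system. -/
theorem decomp_idempotents [Finite F] {H : Subgroup (GL (Fin n) F)}
    (hirr : ActsIrreducibly (matrixSet H)) {A : Subalgebra F (Mat n F)} (hA : NormalisedBy A H)
    {e₀ : Mat n F} (he₀ : e₀ ∈ centre A) (hid : e₀ * e₀ = e₀) (h0 : e₀ ≠ 0) (h1 : e₀ ≠ 1) :
    ∃ (t m : ℕ) (D : Fin t → Submodule F (Fin n → F)), IsMDecomposition m D ∧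
      H ≤ decompositionStabilizer D ∧
      (∀ a ∈ A, ∀ i, ∀ v ∈ D i, a *ᵥ v ∈ D i) ∧
      ∃ E : Fin t → Mat n F, (∀ i, E i ∈ centre A) ∧ (∀ i, ∀ v ∈ D i, E i *ᵥ v = v) ∧
        (∀ i j, i ≠ j → ∀ v ∈ D j, E i *ᵥ v = 0) ∧
        ∀ z ∈ centre A, z * z = z → ∀ i,
          (∀ v ∈ D i, z *ᵥ v = v) ∨ ∀ v ∈ D i, z *ᵥ v = 0 := by
  classical
  set Z := centre A
  have hfin : {e : Mat n F | e ∈ Z ∧ e * e = e ∧ e ≠ 0}.Finite := Set.toFinite _
  set S := hfin.toFinset with hSdef
  have hS : ∀ e, e ∈ S ↔ e ∈ Z ∧ e * e = e ∧ e ≠ 0 := fun e => by rw [hSdef, Set.Finite.mem_toFinset]; rfl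
  -- primitive idempotents: the minimal elements
  set T := S.filter fun e => ∀ f ∈ S, f * e = f → f = e with hTdef
  have hprim : ∀ e ∈ S, ∃ f ∈ T, f * e = f := by
    intro e he
    obtain ⟨f, hf, hmin⟩ := Finset.exists_min_image (S.filter fun f => f * e = f)
      (fun f => (S.filter fun g => g * f = g).card) ⟨e, by simp [he, ((hS e).mp he).2.1]⟩
    rw [Finset.mem_filter] at hf
    refine ⟨f, Finset.mem_filter.mpr ⟨hf.1, fun g hg hgf => ?_⟩, hf.2⟩
    by_contra hne
    have hge : g * e = g := by rw [← hgf, mul_assoc, hf.2]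
    refine absurd (hmin g (Finset.mem_filter.mpr ⟨hg, hge⟩)) (not_le_of_gt (Finset.card_lt_card ?_))
    refine Finset.ssubset_iff_of_subset (fun x hx => ?_) |>.mpr ⟨f, ?_, ?_⟩
    · rw [Finset.mem_filter] at hx ⊢
      exact ⟨hx.1, by rw [← hx.2, mul_assoc, hgf]⟩
    · exact Finset.mem_filter.mpr ⟨hf.1, ((hS f).mp hf.1).2.1⟩
    · intro hx
      rw [Finset.mem_filter] at hx
      apply hne
      rw [← hgf, centre_comm g ((hS g).mp hg).1 f ((hS f).mp hf.1).1, hx.2]
  have horth : ∀ e ∈ T, ∀ f ∈ T, e ≠ f → e * f = 0 := by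
    intro e he f hf hne
    rw [Finset.mem_filter] at he hf
    obtain ⟨heZ, hee, -⟩ := (hS e).mp he.1
    obtain ⟨hfZ, hff, -⟩ := (hS f).mp hf.1
    by_contra h
    have hef : e * f ∈ S := (hS _).mpr ⟨Z.mul_mem heZ hfZ, by
      rw [mul_assoc, ← mul_assoc f, centre_comm f hfZ e heZ, mul_assoc e f f, hff, ← mul_assoc, hee],
      h⟩
    have h1' := he.2 _ hef (by rw [mul_assoc, centre_comm f hfZ e heZ, ← mul_assoc, hee])
    have h2' := hf.2 _ hef (by rw [mul_assoc, hff])
    exact hne (h1'.symm.trans h2')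
  have hTS : ∀ e ∈ T, e ∈ S := fun e he => (Finset.mem_filter.mp he).1
  have hsum : ∑ e ∈ T, e = 1 := by
    by_contra hne
    set s := ∑ e ∈ T, e
    have hsT : ∀ e ∈ T, e * s = e := fun e he => by
      rw [Finset.mul_sum, Finset.sum_eq_single e (fun f hf hfe => horth e he f hf (Ne.symm hfe))
        (fun h => absurd he h), ((hS e).mp (hTS e he)).2.1]
    have hsZ : s ∈ Z := Z.sum_mem fun e he => ((hS e).mp (hTS e he)).1
    have hss : s * s = s := by
      conv_lhs => rw [Finset.sum_mul]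
      exact Finset.sum_congr rfl hsT
    have hc : 1 - s ∈ S := (hS _).mpr ⟨Z.sub_mem Z.one_mem hsZ, by
      rw [sub_mul, mul_sub, mul_sub, one_mul, mul_one, one_mul, hss, sub_self, sub_zero],
      sub_ne_zero.mpr (Ne.symm hne)⟩
    obtain ⟨f, hf, hfc⟩ := hprim _ hc
    rw [mul_sub, mul_one, hsT f hf, sub_self] at hfc
    exact ((hS f).mp (hTS f hf)).2.2 hfc.symm
  have hperm : ∀ h ∈ H, ∀ e ∈ T, conjHom h e ∈ T := by
    intro h hh e he
    have hcS : ∀ g ∈ H, ∀ f ∈ S, conjHom g f ∈ S := fun g hg f hf => by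
      obtain ⟨a, b, c⟩ := (hS f).mp hf
      refine (hS _).mpr ⟨centre_normalised hA g hg f a, by rw [← map_mul, b], fun h0 => c ?_⟩
      have := congrArg (conjHom g⁻¹) h0
      simpa [conjHom_apply, mul_assoc] using this
    rw [Finset.mem_filter] at he ⊢
    refine ⟨hcS h hh e he.1, fun f hf hfe => ?_⟩
    have h1' := he.2 _ (hcS h⁻¹ (H.inv_mem hh) f hf) (by
      have e' := congrArg (conjHom h⁻¹) hfe
      rwa [map_mul, show conjHom h⁻¹ (conjHom h e) = e by simp [conjHom_apply, mul_assoc]] at e')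
    rw [← h1', conj_inv_cancel]
  set t := T.card
  let E : Fin t → Mat n F := fun i => (T.equivFin.symm i).1
  have hET : ∀ i, E i ∈ T := fun i => (T.equivFin.symm i).2
  have hEinj : Function.Injective E := fun i j h => T.equivFin.symm.injective (Subtype.ext h)
  have hEsum : ∑ i, E i = 1 := by
    rw [← hsum, ← T.sum_coe_sort (fun e => e)]
    exact T.equivFin.symm.sum_comp (fun e : T => (e : Mat n F))
  have hEE : ∀ i, E i * E i = E i := fun i => ((hS _).mp (hTS _ (hET i))).2.1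
  have hEij : ∀ i j, i ≠ j → E i * E j = 0 := fun i j h =>
    horth _ (hET i) _ (hET j) (hEinj.ne h)
  let D : Fin t → Submodule F (Fin n → F) := fun i => LinearMap.range (Matrix.toLin' (E i))
  have hDmem : ∀ i, ∀ v ∈ D i, E i *ᵥ v = v := by
    rintro i _ ⟨w, rfl⟩
    rw [Matrix.toLin'_apply, Matrix.mulVec_mulVec, hEE]
  have hDj : ∀ i j, i ≠ j → ∀ v ∈ D j, E i *ᵥ v = 0 := by
    rintro i j hij _ ⟨w, rfl⟩
    rw [Matrix.toLin'_apply, Matrix.mulVec_mulVec, hEij i j hij, Matrix.zero_mulVec]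
  have hD0 : ∀ i, D i ≠ ⊥ := fun i h => ((hS _).mp (hTS _ (hET i))).2.2 (Matrix.toLin'.injective (by
    rw [map_zero]; exact LinearMap.range_eq_bot.mp h))
  have hstab : ∀ h ∈ H, ∃ τ : Equiv.Perm (Fin t),
      ∀ i, (D i).map (Matrix.toLin' (h : Mat n F)) = D (τ i) := by
    intro h hh
    let τ : Fin t → Fin t := fun i => T.equivFin ⟨conjHom h (E i), hperm h hh _ (hET i)⟩
    have hτE : ∀ i, E (τ i) = conjHom h (E i) := fun i => by simp [E, τ]
    have hτ : Function.Injective τ := fun i j hij => hEinj (by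
      have := congrArg E hij
      rw [hτE, hτE] at this
      have e2 := congrArg (conjHom h⁻¹) this
      simpa [conjHom_apply, mul_assoc] using e2)
    refine ⟨Equiv.ofBijective τ ⟨hτ, Finite.surjective_of_injective hτ⟩, fun i => ?_⟩
    show _ = D (τ i)
    have hmul : (h : Mat n F) * E i = E (τ i) * (h : Mat n F) := by
      rw [hτE, conjHom_apply, mul_assoc, Units.inv_mul, mul_one]
    ext v
    constructor
    · rintro ⟨_, ⟨w, rfl⟩, rfl⟩
      refine ⟨(h : Mat n F) *ᵥ w, ?_⟩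
      simp [Matrix.mulVec_mulVec, hmul]
    · rintro ⟨w, rfl⟩
      refine ⟨E i *ᵥ (((h⁻¹ : GL (Fin n) F) : Mat n F) *ᵥ w), ⟨_, rfl⟩, ?_⟩
      simp [Matrix.mulVec_mulVec, ← mul_assoc, hmul]
  have hsup : iSup D = ⊤ := eq_top_iff.mpr fun v _ => by
    rw [← Matrix.one_mulVec v, ← hEsum, Matrix.sum_mulVec]
    exact Submodule.sum_mem _ fun i _ => Submodule.mem_iSup_of_mem i ⟨v, rfl⟩
  have hindep : iSupIndep D := by
    intro i
    rw [Submodule.disjoint_def]
    intro v hv hv'
    rw [← hDmem i v hv]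
    have hle : (⨆ j, ⨆ _ : j ≠ i, D j) ≤ LinearMap.ker (Matrix.toLin' (E i)) :=
      iSup₂_le fun j hj w hw => by
        rw [LinearMap.mem_ker, Matrix.toLin'_apply]
        exact hDj i j (Ne.symm hj) w hw
    exact LinearMap.mem_ker.mp (hle hv')
  have ht2 : 2 ≤ t := by
    by_contra hlt
    push Not at hlt
    obtain ⟨f, hf, hfe⟩ := hprim e₀ ((hS _).mpr ⟨he₀, hid, h0⟩)
    obtain ⟨g, hg, hgc⟩ := hprim (1 - e₀) ((hS _).mpr ⟨Z.sub_mem Z.one_mem he₀, by
      rw [sub_mul, mul_sub, mul_sub, one_mul, mul_one, one_mul, hid, sub_self, sub_zero],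
      sub_ne_zero.mpr (Ne.symm h1)⟩)
    have hfg : f = g := Finset.card_le_one.mp (by omega) f hf g hg
    subst hfg
    rw [mul_sub, mul_one, hfe, sub_self] at hgc
    exact ((hS f).mp (hTS f hf)).2.2 hgc.symm
  let i₀ : Fin t := ⟨0, by omega⟩
  have htrans : ∀ j, Module.finrank F (D j) = Module.finrank F (D i₀) := by
    let W : Submodule F (Fin n → F) :=
      ⨆ i : {i // Module.finrank F (D i) = Module.finrank F (D i₀)}, D i.1
    have hW := irr_iff.mp hirr W (by
      rintro _ ⟨h, hh, rfl⟩ v hv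
      obtain ⟨τ, hτ⟩ := hstab h hh
      induction hv using Submodule.iSup_induction' with
      | mem i v hv =>
        have hrk : Module.finrank F (D (τ i.1)) = Module.finrank F (D i₀) := by
          rw [← hτ]
          refine Eq.trans ?_ i.2
          exact (Submodule.equivMapOfInjective _
            (Matrix.mulVec_injective_iff_isUnit.2 h.isUnit) _).finrank_eq.symm
        refine Submodule.mem_iSup_of_mem ⟨τ i.1, hrk⟩ ?_
        change _ ∈ D (τ i.1)
        rw [← hτ]
        exact ⟨v, hv, by simp⟩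
      | zero => simp
      | add a b _ _ iha ihb => rw [Matrix.mulVec_add]; exact add_mem iha ihb)
    intro j
    by_contra hj
    have htop : W = ⊤ := hW.resolve_left fun e => hD0 i₀ (eq_bot_iff.mpr (e ▸
      le_iSup (fun i : {i // Module.finrank F (D i) = Module.finrank F (D i₀)} => D i.1) ⟨i₀, rfl⟩))
    have hle' : W ≤ ⨆ k, ⨆ _ : k ≠ j, D k :=
      iSup_le fun i => le_iSup₂ (f := fun k (_ : k ≠ j) => D k) i.1 fun e => hj (e ▸ i.2)
    exact hD0 j (eq_bot_iff.mpr ((le_inf le_rfl (le_top.trans (htop.ge.trans hle'))).trans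
      (disjoint_iff.mp (hindep j)).le))
  have hprim2 : ∀ z ∈ Z, z * z = z → ∀ i,
      (∀ v ∈ D i, z *ᵥ v = v) ∨ ∀ v ∈ D i, z *ᵥ v = 0 := by
    intro z hz hzz i
    obtain ⟨hTi, hmin⟩ := Finset.mem_filter.mp (hET i)
    obtain ⟨hEZ, hEi, -⟩ := (hS _).mp hTi
    by_cases h0' : z * E i = 0
    · exact .inr fun v hv => by rw [← hDmem i v hv, Matrix.mulVec_mulVec, h0', Matrix.zero_mulVec]
    · left
      have hmemS : z * E i ∈ S := (hS _).mpr ⟨Z.mul_mem hz hEZ, by
        rw [mul_assoc, ← mul_assoc (E i), centre_comm _ hEZ z hz, mul_assoc z (E i), hEi,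
          ← mul_assoc, hzz], h0'⟩
      have hzE := hmin _ hmemS (by rw [mul_assoc, hEi])
      intro v hv
      conv_lhs => rw [← hDmem i v hv]
      rw [Matrix.mulVec_mulVec, hzE, hDmem i v hv]
  refine ⟨t, Module.finrank F (D i₀), D, ⟨ht2, ?_, htrans, hindep, hsup⟩, fun h hh => hstab h hh,
    fun a ha i v hv => ⟨a *ᵥ v, ?_⟩, E, fun i => ((hS _).mp (hTS _ (hET i))).1, hDmem, hDj, hprim2⟩
  · by_contra h'
    exact hD0 i₀ (Submodule.finrank_eq_zero.mp (by omega))
  · rw [Matrix.toLin'_apply]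
    conv_rhs => rw [← hDmem i v hv]
    rw [Matrix.mulVec_mulVec, Matrix.mulVec_mulVec, ((mem_centre.mp ((hS _).mp (hTS _ (hET i))).1).2 a ha)]

/-- A non-trivial central idempotent gives a decomposition. -/
theorem decomp_of_idempotent [Finite F] {H : Subgroup (GL (Fin n) F)}
    (hirr : ActsIrreducibly (matrixSet H)) {A : Subalgebra F (Mat n F)} (hA : NormalisedBy A H)
    {e₀ : Mat n F} (he₀ : e₀ ∈ centre A) (hid : e₀ * e₀ = e₀) (h0 : e₀ ≠ 0) (h1 : e₀ ≠ 1) :
    ∃ (t m : ℕ) (D : Fin t → Submodule F (Fin n → F)), IsMDecomposition m D ∧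
      H ≤ decompositionStabilizer D ∧
      ∀ a ∈ A, ∀ i, ∀ v ∈ D i, a *ᵥ v ∈ D i := by
  obtain ⟨t, m, D, hD, hle, hA', -⟩ := decomp_idempotents hirr hA he₀ hid h0 h1
  exact ⟨t, m, D, hD, hle, hA'⟩

/-- A field subalgebra contains one of prime degree over the scalars, invariant under every
normalising element. -/
theorem prime_subfield [Fintype F] {H : Subgroup (GL (Fin n) F)} {Z : Subalgebra F (Mat n F)}
    (hZ : NormalisedBy Z H) (hcomm : ∀ x ∈ Z, ∀ y ∈ Z, x * y = y * x)
    (hinv : ∀ x ∈ Z, x ≠ 0 → ∃ y ∈ Z, x * y = 1) (hn : 0 < n)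
    (hne : ∃ z ∈ Z, ∀ c : F, z ≠ c • 1) :
    ∃ (r : ℕ) (K : Subalgebra F (Mat n F)), r.Prime ∧ IsFieldSubalgebra r K ∧ K ≤ Z ∧
      H ≤ subalgebraNormalizer K := by
  classical
  haveI : Finite Z := Subtype.finite
  haveI : NeZero n := ⟨hn.ne'⟩
  have hf : IsField Z :=
    { exists_pair_ne := ⟨0, 1, fun h => zero_ne_one (congrArg Subtype.val h)⟩
      mul_comm := fun x y => Subtype.ext (hcomm x x.2 y y.2)
      mul_inv_cancel := fun {x} hx => by
        obtain ⟨y, hy, h⟩ := hinv x x.2 fun h => hx (Subtype.ext h)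
        exact ⟨⟨y, hy⟩, Subtype.ext h⟩ }
  letI : Field Z := hf.toField
  haveI : Module.Finite F Z := Module.Finite.of_finite
  set d := Module.finrank F Z with hd
  obtain ⟨z, hz, hzc⟩ := hne
  have hd1 : d ≠ 1 := fun h1 => by
    have hbot := Subalgebra.eq_bot_of_finrank_one (S := Z) h1
    rw [hbot, Algebra.mem_bot] at hz
    obtain ⟨c, hc⟩ := hz
    exact hzc c (hc.symm.trans (one_smul_eq c))
  set r := d.minFac with hr
  have hrp : r.Prime := Nat.minFac_prime hd1
  haveI : Fact r.Prime := ⟨hrp⟩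
  have haut : Nat.card (Z ≃ₐ[F] Z) = d := IsGalois.card_aut_eq_finrank F Z
  haveI hcyc : IsCyclic (Z ≃ₐ[F] Z) := inferInstance
  obtain ⟨j, hj⟩ := hr ▸ Nat.minFac_dvd d
  -- the subgroup of index `r` in the cyclic Galois group
  obtain ⟨s, hs⟩ := IsCyclic.exists_generator (α := Z ≃ₐ[F] Z)
  set Hj := Subgroup.zpowers (s ^ r)
  have hos : orderOf s = d := (orderOf_eq_card_of_forall_mem_zpowers hs).trans haut
  have hfix : Module.finrank F (IntermediateField.fixedField Hj) = r := by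
    have h1 : Module.finrank (IntermediateField.fixedField Hj) Z = Nat.card Hj :=
      IntermediateField.finrank_fixedField_eq_card Hj
    have h2 : Nat.card Hj = j := by
      rw [Nat.card_zpowers, orderOf_pow' s hrp.ne_zero, hos, hj,
        Nat.gcd_eq_right (dvd_mul_right r j), Nat.mul_div_cancel_left _ hrp.pos]
    have h3 := Module.finrank_mul_finrank F (IntermediateField.fixedField Hj) Z
    rw [h1, h2, ← hd, hj] at h3
    exact Nat.eq_of_mul_eq_mul_right (Nat.pos_of_ne_zero fun h => by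
      have := Module.finrank_pos (R := F) (M := Z)
      rw [← hd, hj, h, mul_zero] at this
      omega) h3
  set K₀ : Subalgebra F Z := (IntermediateField.fixedField Hj).toSubalgebra
  set K := K₀.map Z.val
  have hKr : Module.finrank F K = r := by
    rw [← hfix]
    exact ((Subalgebra.equivMapOfInjective K₀ Z.val Subtype.val_injective).toLinearEquiv.finrank_eq).symm
  have hKZ : K ≤ Z := by rintro _ ⟨x, -, rfl⟩; exact x.2
  have hKmem : ∀ x : Z, (x : Mat n F) ∈ K ↔ (s ^ r) x = x := by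
    intro x
    have h1 : (x : Mat n F) ∈ K ↔ x ∈ IntermediateField.fixedField Hj :=
      ⟨fun ⟨y, hy, hyx⟩ => (Subtype.ext hyx : y = x) ▸ hy, fun h => ⟨x, h, rfl⟩⟩
    rw [h1, IntermediateField.mem_fixedField_iff]
    refine ⟨fun h => h _ (Subgroup.mem_zpowers _), fun h g hg => ?_⟩
    obtain ⟨i, rfl⟩ := Subgroup.mem_zpowers_iff.mp hg
    have : (s ^ r) ∈ MulAction.stabilizer (Z ≃ₐ[F] Z) x := h
    exact MulAction.mem_stabilizer_iff.mp (Subgroup.zpow_mem _ this i)
  refine ⟨r, K, hrp, ⟨fun x hx y hy => hcomm x (hKZ hx) y (hKZ hy), fun x hx hx0 => ?_, hKr⟩, hKZ,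
    le_normalizer_of_normalised fun h hh k hk => ?_⟩
  · obtain ⟨x', hx', rfl⟩ := hx
    refine ⟨((x'⁻¹ : Z) : Mat n F), ⟨_, (IntermediateField.fixedField Hj).inv_mem hx', rfl⟩, ?_⟩
    exact congrArg Subtype.val (mul_inv_cancel₀ (a := x') fun e => hx0 (by rw [e]; rfl))
  · let c : Z ≃ₐ[F] Z :=
      { toFun := fun x => ⟨conjHom h x, hZ h hh x x.2⟩
        invFun := fun x => ⟨conjHom h⁻¹ x, hZ h⁻¹ (H.inv_mem hh) x x.2⟩
        left_inv := fun x => Subtype.ext (by simp [conjHom_apply, mul_assoc])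
        right_inv := fun x => Subtype.ext (conj_inv_cancel h x)
        map_mul' := fun x y => Subtype.ext (map_mul (conjHom h) _ _)
        map_add' := fun x y => Subtype.ext (map_add (conjHom h) _ _)
        commutes' := fun a => Subtype.ext ((conjHom h).commutes a) }
    have hk' := (hKmem ⟨k, hKZ hk⟩).mp hk
    refine (hKmem ⟨_, hZ h hh k (hKZ hk)⟩).mpr ?_
    change (s ^ r) (c ⟨k, hKZ hk⟩) = c ⟨k, hKZ hk⟩
    obtain ⟨i, hi⟩ := Subgroup.mem_zpowers_iff.mp (hs c)
    have hcs : (s ^ r) * c = c * (s ^ r) := by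
      rw [← hi]; exact ((Commute.refl s).pow_left r).zpow_right i
    calc (s ^ r) (c ⟨k, hKZ hk⟩) = ((s ^ r) * c) ⟨k, hKZ hk⟩ := rfl
      _ = c ((s ^ r) ⟨k, hKZ hk⟩) := by rw [hcs]; rfl
      _ = c ⟨k, hKZ hk⟩ := by rw [hk']

/-- The three possibilities for a subalgebra normalised by an irreducible group. -/
theorem centre_trichotomy [Fintype F] (hn : 0 < n) {H : Subgroup (GL (Fin n) F)}
    (hirr : ActsIrreducibly (matrixSet H)) {A : Subalgebra F (Mat n F)} (hA : NormalisedBy A H) :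
    (∃ (t m : ℕ) (D : Fin t → Submodule F (Fin n → F)), IsMDecomposition m D ∧
        H ≤ decompositionStabilizer D ∧ ∀ a ∈ A, ∀ i, ∀ v ∈ D i, a *ᵥ v ∈ D i) ∨
    (∃ (r : ℕ) (K : Subalgebra F (Mat n F)), r.Prime ∧ IsFieldSubalgebra r K ∧ K ≤ centre A ∧
        H ≤ subalgebraNormalizer K) ∨
    (∃ (m : ℕ) (Φ : Mat m F →ₐ[F] Mat n F), 0 < m ∧ Function.Injective Φ ∧ Φ.range = A) := by
  classical
  haveI := isSemisimple hirr hA
  haveI : Finite (centre A) := Subtype.finite
  by_cases hidem : ∃ e ∈ centre A, e * e = e ∧ e ≠ 0 ∧ e ≠ 1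
  · obtain ⟨e, he, hee, he0, he1⟩ := hidem
    exact .inl (decomp_of_idempotent hirr hA he hee he0 he1)
  push Not at hidem
  by_cases hsc : ∀ z ∈ centre A, ∃ c : F, z = c • 1
  · exact .inr (.inr (exists_matrixHom hn fun z hz hzc =>
      hsc z (mem_centre.mpr ⟨hz, fun a ha => (hzc a ha).symm⟩)))
  push Not at hsc
  refine .inr (.inl (prime_subfield (centre_normalised hA) centre_comm (fun x hx hx0 => ?_) hn hsc))
  obtain ⟨k, hk, hid⟩ := exists_idempotent (⟨x, hx⟩ : centre A)
  have hid' : x ^ k * x ^ k = x ^ k := by simpa using congrArg Subtype.val hid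
  have h1 : x ^ k = 1 := hidem _ ((centre A).pow_mem hx k) hid' fun h => hx0 (centre_reduced hx h)
  refine ⟨x ^ (k - 1), (centre A).pow_mem hx _, ?_⟩
  rw [← pow_succ', Nat.sub_add_cancel hk, h1]

end CfsgLib.Classical.AschGen
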