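import Cfsg.Agent.Lib.Classical.AschGen.SymTypeProps
import Cfsg.Agent.Lib.Classical.AschPrime.Linear

/-!
# Forms fixed by a group of symplectic type
-/

set_option autoImplicit false
set_option linter.unusedSectionVars false

namespace CfsgLib.Classical.AschGen

open Matrix Cfsg Cfsg.Geo CfsgLib.Classical.AschPrime
open scoped MatrixGroups

variable {F : Type*} [Field F] {n r : ℕ} {R : Subgroup (GL (Fin n) F)}

/-- The form with Gram matrix `G`, semilinear in the second argument. -/
def mForm (σ : F →+* F) (G : Mat n F) (u v : Fin n → F) : F := u ⬝ᵥ (G *ᵥ (σ ∘ v))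

theorem mForm_sesq (σ : F →+* F) (G : Mat n F) : IsSesq σ (mForm σ G) where
  add_left x y v := add_dotProduct x y _
  smul_left c x v := by simp only [mForm, smul_dotProduct, smul_eq_mul]
  add_right v x y := by
    have : σ ∘ (x + y) = σ ∘ x + σ ∘ y := funext fun i => map_add σ _ _
    simp only [mForm, this, Matrix.mulVec_add, dotProduct_add]
  smul_right c v x := by
    have : σ ∘ (c • x) = σ c • (σ ∘ x) := funext fun i => map_mul σ _ _
    simp only [mForm, this, Matrix.mulVec_smul, dotProduct_smul, smul_eq_mul]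

theorem mForm_gram (σ : F →+* F) (G : Mat n F) : gramMatrix (mForm σ G) = G := by
  ext a b
  have hs : σ ∘ (Pi.single b 1 : Fin n → F) = Pi.single b 1 := by
    funext i; by_cases hi : i = b <;> simp [hi]
  simp [gramMatrix, mForm, hs, single_one_dotProduct, Matrix.mulVec_single_one]

theorem mForm_nondeg [Finite F] (σ : F →+* F) {G : Mat n F} (hG : IsUnit G) :
    IsNondegenerateForm (mForm σ G) := by
  classical
  intro v hv
  constructor
  · have h1 : σ ∘ v ≠ 0 := fun h => hv (funext fun i => σ.injective (by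
      rw [Pi.zero_apply, map_zero]; exact congrFun h i))
    have h2 : G *ᵥ (σ ∘ v) ≠ 0 := fun h => h1 (Matrix.mulVec_injective_iff_isUnit.mpr hG
      (h.trans (Matrix.mulVec_zero G).symm))
    obtain ⟨j, hj⟩ := Function.ne_iff.mp h2
    exact ⟨Pi.single j 1, by rw [mForm, single_one_dotProduct]; exact hj⟩
  · have h2 : v ᵥ* G ≠ 0 := fun h => hv (Matrix.vecMul_injective_iff_isUnit.mpr hG
      (h.trans (Matrix.zero_vecMul G).symm))
    obtain ⟨j, hj⟩ := Function.ne_iff.mp h2
    refine ⟨Pi.single j 1, ?_⟩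
    have hs : σ ∘ (Pi.single j 1 : Fin n → F) = Pi.single j 1 := by
      funext i; by_cases hi : i = j <;> simp [hi]
    rw [mForm, hs, Matrix.dotProduct_mulVec, dotProduct_single, mul_one]
    exact hj

theorem SymType.mForm_fixes (σ : F →+* F) {G : Mat n F}
    (hG : ∀ g ∈ R, (g : Mat n F)ᵀ * G * (g : Mat n F).map σ = G) :
    FixesForm (matrixSet R) (mForm σ G) := by
  rintro _ ⟨g, hg, rfl⟩ u v
  have h := (mForm_sesq σ G).isometry (A := (g : Mat n F)) (c := 1)
  rw [mForm_gram, one_smul] at h
  have := h.mpr (hG g hg) u v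
  rwa [one_mul] at this

theorem SymType.exists_invariant [Finite F] (hR : SymType r R) (hn : 0 < n) (σ : F →+* F)
    (hσ : ∀ x ∈ R, ∀ c : F, (x : Mat n F) = c • 1 → c * σ c = 1) :
    ∃ G : Mat n F, IsUnit G ∧ ∀ g ∈ R, (g : Mat n F)ᵀ * G * (g : Mat n F).map σ = G := by
  classical
  haveI : Finite (GL (Fin n) F) := inferInstance
  haveI := Fintype.ofFinite R
  haveI := Fact.mk hR.prime
  let avg : Mat n F → Mat n F := fun X => ∑ g : R, (g.1 : Mat n F)ᵀ * X * (g.1 : Mat n F).map σ
  have hinv : ∀ X, ∀ h ∈ R, (h : Mat n F)ᵀ * avg X * (h : Mat n F).map σ = avg X := by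
    intro X h hh
    simp only [avg, Finset.mul_sum, Finset.sum_mul]
    refine Fintype.sum_equiv (Equiv.mulRight (⟨h, hh⟩ : R)) _ _ fun g => ?_
    simp only [Equiv.coe_mulRight, Subgroup.coe_mul, Units.val_mul, Matrix.transpose_mul,
      Matrix.map_mul, Matrix.mul_assoc]
  obtain ⟨X, hX⟩ : ∃ X, avg X ≠ 0 := by
    by_contra hall
    push Not at hall
    have key : ∑ g : R, (g.1 : Mat n F).trace * σ (g.1 : Mat n F).trace = 0 := by
      simp only [Matrix.trace, map_sum, Matrix.diag_apply, Finset.sum_mul, Finset.mul_sum]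
      rw [Finset.sum_comm]
      refine Finset.sum_eq_zero fun a _ => ?_
      rw [Finset.sum_comm]
      refine Finset.sum_eq_zero fun b _ => ?_
      have h := congrFun (congrFun (hall (Matrix.single b a 1)) b) a
      simp only [avg, Matrix.sum_apply, Matrix.zero_apply] at h
      rw [← h]
      refine Finset.sum_congr rfl fun g _ => ?_
      rw [Matrix.mul_apply, Finset.sum_eq_single a]
      · rw [Matrix.mul_apply, Finset.sum_eq_single b]
        · simp
        · intro c _ hc; simp [hc.symm]
        · simp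
      · intro c _ hc
        rw [Matrix.mul_apply, Finset.sum_eq_zero fun d _ => ?_, zero_mul]
        simp [hc.symm]
      · simp
    have hterm : ∀ g : R, (g.1 : Mat n F).trace * σ (g.1 : Mat n F).trace =
        if g ∈ Subgroup.center R then (n : F) * n else 0 := by
      intro g
      have hmem : g ∈ Subgroup.center R ↔ g.1 ∈ scalars (Fin n) F := by
        rw [hR.center_eq hn, Subgroup.mem_subgroupOf]
      by_cases hs : g.1 ∈ scalars (Fin n) F
      · rw [if_pos (hmem.mpr hs)]
        obtain ⟨c, hc⟩ := (mem_scalars_iff g.1).mp hs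
        rw [trace_scalar hc, map_mul, map_natCast, mul_mul_mul_comm, hσ g.1 g.2 c hc, one_mul]
      · rw [if_neg (fun h => hs (hmem.mp h))]
        rw [hR.trace_eq_zero hn g.2 hs, zero_mul]
    rw [Finset.sum_congr rfl fun g _ => hterm g, Finset.sum_ite, Finset.sum_const_zero, add_zero,
      Finset.sum_const, nsmul_eq_mul] at key
    have hcard : ((Finset.univ.filter fun g : R => g ∈ Subgroup.center R).card : F) ≠ 0 := by
      have h1 : (Finset.univ.filter fun g : R => g ∈ Subgroup.center R).card =
          Nat.card (Subgroup.center R) := by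
        rw [Nat.card_eq_fintype_card, Fintype.card_subtype]
      obtain ⟨d, hd⟩ := IsPGroup.iff_card.mp (hR.isPGroup.to_subgroup (Subgroup.center R))
      rw [h1, hd, Nat.cast_pow]
      exact pow_ne_zero _ hR.natCast_ne
    rcases mul_eq_zero.mp key with h | h
    · exact hcard h
    · exact hR.natCast_n_ne hn (mul_self_eq_zero.mp h)
  refine ⟨avg X, ?_, hinv X⟩
  rw [← Matrix.vecMul_injective_iff_isUnit]
  have hker := irr_iff.mp (full_absIrred hn hR.full).1 (LinearMap.ker (Matrix.vecMulLinear (avg X))) (by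
    rintro _ ⟨s, hs, rfl⟩ v hv
    rw [LinearMap.mem_ker, Matrix.vecMulLinear_apply] at hv ⊢
    have hu : IsUnit ((s : Mat n F).map σ) := s.isUnit.map (RingHom.mapMatrix σ)
    refine Matrix.vecMul_injective_iff_isUnit.mpr hu ?_
    show ((s : Mat n F) *ᵥ v) ᵥ* avg X ᵥ* _ = 0 ᵥ* _
    rw [← Matrix.vecMul_transpose, Matrix.vecMul_vecMul, Matrix.vecMul_vecMul, ← Matrix.mul_assoc, hinv X s hs, hv,
      Matrix.zero_vecMul])
  rcases hker with h | h
  · intro v w hvw
    have : v - w ∈ LinearMap.ker (Matrix.vecMulLinear (avg X)) := by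
      rw [LinearMap.mem_ker, map_sub, sub_eq_zero]
      exact hvw
    rw [h, Submodule.mem_bot] at this
    exact sub_eq_zero.mp this
  · exfalso
    refine hX (Matrix.ext fun i j => ?_)
    have h1 : (Pi.single i 1 : Fin n → F) ∈ LinearMap.ker (Matrix.vecMulLinear (avg X)) :=
      h ▸ Submodule.mem_top
    rw [LinearMap.mem_ker, Matrix.vecMulLinear_apply, Matrix.single_one_vecMul] at h1
    exact congrFun h1 j

theorem SymType.invariant_unique (hR : SymType r R) (hn : 0 < n) (σ : F →+* F) {G G' : Mat n F}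
    (hGu : IsUnit G) (hG : ∀ g ∈ R, (g : Mat n F)ᵀ * G * (g : Mat n F).map σ = G)
    (hG' : ∀ g ∈ R, (g : Mat n F)ᵀ * G' * (g : Mat n F).map σ = G') : ∃ c : F, G' = c • G := by
  obtain ⟨Gu, hGu⟩ := hGu
  set X := G' * ((Gu⁻¹ : (Mat n F)ˣ) : Mat n F)
  have hXG : X * G = G' := by rw [← hGu, mul_assoc, Units.inv_mul, mul_one]
  obtain ⟨c, hc⟩ := full_commutant hn hR.full (M := Xᵀ) fun s hs => by
    have hunit : IsUnit (G * (s : Mat n F).map σ) := by
      rw [← hGu]; exact Gu.isUnit.mul (s.isUnit.map (RingHom.mapMatrix σ))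
    have e : (s : Mat n F)ᵀ * X * (G * (s : Mat n F).map σ) =
        X * (s : Mat n F)ᵀ * (G * (s : Mat n F).map σ) := by
      calc (s : Mat n F)ᵀ * X * (G * (s : Mat n F).map σ)
          = (s : Mat n F)ᵀ * (X * G) * (s : Mat n F).map σ := by simp only [mul_assoc]
        _ = X * G := by rw [hXG, hG' s hs]
        _ = X * ((s : Mat n F)ᵀ * G * (s : Mat n F).map σ) := by rw [hG s hs]
        _ = _ := by simp only [mul_assoc]
    have := congrArg Matrix.transpose (hunit.mul_left_injective e)
    simpa [Matrix.transpose_mul] using this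
  refine ⟨c, ?_⟩
  have hX : X = c • 1 := by simpa using congrArg Matrix.transpose hc
  rw [← hXG, hX, Matrix.smul_mul, one_mul]

end CfsgLib.Classical.AschGen
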