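import Cfsg.Agent.Lib.Classical.AschGen.Pure
import Cfsg.Agent.Lib.Classical.AschPrime.Proper
import Cfsg.Agent.Lib.Classical.DecompNonMax

/-!
# The special linear group lies in no member of the geometric classes
-/

set_option autoImplicit false
set_option linter.unusedSectionVars false

namespace CfsgLib.Classical.AschGen

open Matrix Cfsg Cfsg.Geo CfsgLib.Classical.AschPrime
open scoped MatrixGroups Kronecker

variable {F : Type*} [Field F] {n t m : ℕ}

theorem decomp_card {D : Fin t → Submodule F (Fin n → F)} (hD : IsMDecomposition m D) : t * m = n := by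
  obtain ⟨E, -, -⟩ := DecompNonMax.exists_adapted hD
  have := E.finrank_eq
  simpa [Module.finrank_fintype_fun_eq_card] using this.symm

theorem not_sl_le_decomp' (hn : 2 ≤ n) {D : Fin t → Submodule F (Fin n → F)}
    (hD : IsMDecomposition m D) : ¬ specialLinear (Fin n) F ≤ decompositionStabilizer D := by
  classical
  intro hle
  have ht := hD.two_le
  have hbot : ∀ i, D i ≠ ⊥ := fun i e => by
    have := hD.finrank_eq i
    rw [e, finrank_bot] at this
    exact absurd this.symm hD.pos.ne'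
  have hcover : ∀ k : Fin n, ∀ v : Fin n → F, v k ≠ 0 → (∃ l, v ∈ D l) →
      ∀ w : Fin n → F, w k ≠ 0 → ∃ l, w ∈ D l := by
    rintro k v hv ⟨l, hl⟩ w hw
    set c := w k / v k with hc
    have hc0 : c ≠ 0 := div_ne_zero hw hv
    set w' := (v k)⁻¹ • (c⁻¹ • w - v) with hw'
    have hw'k : w' k = 0 := by
      simp only [hw', hc, Pi.smul_apply, Pi.sub_apply, smul_eq_mul]
      field_simp
      ring
    obtain ⟨g, hg, hgv⟩ := exists_push hw'k
    obtain ⟨σ, hσ⟩ := hle hg
    refine ⟨σ l, ?_⟩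
    have hmem : (g : Mat n F) *ᵥ v ∈ D (σ l) := by
      rw [← hσ l]; exact ⟨v, hl, by simp⟩
    rw [hgv, hw', smul_smul, mul_inv_cancel₀ hv, one_smul, add_sub_cancel] at hmem
    have := (D (σ l)).smul_mem c hmem
    rwa [smul_smul, mul_inv_cancel₀ hc0, one_smul] at this
  obtain ⟨v, hv, hv0⟩ := Submodule.exists_mem_ne_zero_of_ne_bot (hbot ⟨0, by omega⟩)
  obtain ⟨k₀, hk₀⟩ := Function.ne_iff.mp hv0
  have hall : ∀ k : Fin n, ∀ w : Fin n → F, w k ≠ 0 → ∃ l, w ∈ D l := by
    intro k w hw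
    by_cases hk : k = k₀
    · subst hk; exact hcover k v hk₀ ⟨_, hv⟩ w hw
    · have hu := hcover k₀ v hk₀ ⟨_, hv⟩ (Pi.single k₀ 1 + Pi.single k 1) (by simp [Ne.symm hk])
      exact hcover k _ (by simp [hk]) hu w hw
  let i₀ : Fin t := ⟨0, by omega⟩
  let i₁ : Fin t := ⟨1, by omega⟩
  have h01 : i₀ ≠ i₁ := by simp [i₀, i₁, Fin.ext_iff]
  obtain ⟨a, ha, ha0⟩ := Submodule.exists_mem_ne_zero_of_ne_bot (hbot i₀)
  obtain ⟨b, hb, hb0⟩ := Submodule.exists_mem_ne_zero_of_ne_bot (hbot i₁)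
  have hab : a + b ≠ 0 := by
    intro h
    have h1 : a ∈ D i₁ := by
      rw [eq_neg_of_add_eq_zero_left h]; exact neg_mem hb
    exact ha0 (Submodule.disjoint_def.mp (hD.indep.pairwiseDisjoint h01) a ha h1)
  obtain ⟨k, hk⟩ := Function.ne_iff.mp hab
  obtain ⟨l, hl⟩ := hall k (a + b) hk
  by_cases hl0 : l = i₀
  · subst hl0
    have : b ∈ D i₀ := by
      have := sub_mem hl ha
      rwa [add_sub_cancel_left] at this
    exact hb0 (Submodule.disjoint_def.mp (hD.indep.pairwiseDisjoint h01) b this hb)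
  · have h1 : a ∈ ⨆ (j) (_ : j ≠ i₀), D j := by
      rw [show a = (a + b) - b by abel]
      exact sub_mem (Submodule.mem_iSup_of_mem l (Submodule.mem_iSup_of_mem hl0 hl))
        (Submodule.mem_iSup_of_mem i₁ (Submodule.mem_iSup_of_mem h01.symm hb))
    exact ha0 (Submodule.disjoint_def.mp (hD.indep i₀) a ha h1)

theorem not_sl_le_field' (hn : 3 ≤ n) {r : ℕ} (hr : 2 ≤ r) {K : Subalgebra F (Mat n F)}
    (hK : IsFieldSubalgebra r K) : ¬ specialLinear (Fin n) F ≤ subalgebraNormalizer K := by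
  classical
  intro hle
  have hcomm : ∀ k ∈ K, ∀ i j : Fin n, i ≠ j → Commute (Matrix.single i j (1 : F)) k := by
    intro k hk i j hij
    set E : Mat n F := Matrix.single i j 1
    set u := tr hij (1 : F)
    have htk := (hle (tr_mem hij (1 : F)) k).mp hk
    set d := (u : Mat n F) * k * ((u⁻¹ : GL (Fin n) F) : Mat n F) - k
    have hd : d ∈ K := K.sub_mem htk hk
    have hdt : d * (u : Mat n F) = E * k - k * E := by
      rw [sub_mul, mul_assoc, Units.inv_mul, mul_one, tr_val]
      simp only [add_mul, mul_add, one_mul, mul_one, E]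
      abel
    suffices d = 0 by
      rw [this, zero_mul] at hdt
      exact (sub_eq_zero.mp hdt.symm)
    by_contra hd0
    obtain ⟨y, hy, hdy⟩ := hK.inv d hd hd0
    have hu : IsUnit (E * k - k * E) := by
      rw [← hdt]
      exact (IsUnit.of_mul_eq_one y hdy).mul u.isUnit
    have hdet : (E * k - k * E).det ≠ 0 := ((Matrix.isUnit_iff_isUnit_det _).mp hu).ne_zero
    refine hdet (det_eq_zero_of_support hn (i := i) (j := j) fun a b ha hb => ?_)
    simp only [E, Matrix.sub_apply, Matrix.single_mul_apply_of_ne _ _ _ _ _ ha,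
      Matrix.mul_single_apply_of_ne _ _ _ _ _ hb, sub_zero]
  have hbot : K ≤ ⊥ := fun k hk => by
    obtain ⟨c, rfl⟩ := scalar_of_comm_single fun i j hij => hcomm k hk i j hij
    exact Algebra.mem_bot.mpr ⟨c, one_smul_eq c⟩
  have h1 : Module.finrank F K = 1 := by
    haveI : Nonempty (Fin n) := ⟨⟨0, by omega⟩⟩
    rw [le_bot_iff.mp hbot, Subalgebra.finrank_bot]
  rw [hK.finrank_eq] at h1
  omega

theorem reindex_entry {κ : Type} [Fintype κ] [DecidableEq κ] {e : Fin n ≃ κ} {P T : GL (Fin n) F}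
    {w : GL κ F} (h : (MulAut.conj P).toMonoidHom ((glReindex e.symm).toMonoidHom w) = P * T * P⁻¹)
    (x y : κ) : (w : Matrix κ κ F) x y = (T : Mat n F) (e.symm x) (e.symm y) := by
  have h1 : glReindex e.symm w = T := (MulAut.conj P).injective h
  rw [← h1]
  show _ = (w : Matrix κ κ F) (e (e.symm x)) (e (e.symm y))
  rw [e.apply_symm_apply, e.apply_symm_apply]

theorem not_sl_le_tensor {n₁ n₂ : ℕ} (h1 : 2 ≤ n₁) (h2 : 2 ≤ n₂) (e : Fin n ≃ Fin n₁ × Fin n₂)
    (P : GL (Fin n) F) : ¬ specialLinear (Fin n) F ≤ tensorProductSubgroup n₁ n₂ e P := by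
  classical
  intro hle
  let x : Fin n₁ × Fin n₂ := (⟨0, by omega⟩, ⟨0, by omega⟩)
  let y : Fin n₁ × Fin n₂ := (⟨1, by omega⟩, ⟨1, by omega⟩)
  let z : Fin n₁ × Fin n₂ := (x.1, y.2)
  have hxy : x ≠ y := by simp [x, y, Prod.ext_iff, Fin.ext_iff]
  have hzx : z ≠ x := by simp [x, y, z, Prod.ext_iff, Fin.ext_iff]
  have hzy : z ≠ y := by simp [x, y, z, Prod.ext_iff, Fin.ext_iff]
  have hij : e.symm x ≠ e.symm y := e.symm.injective.ne hxy
  obtain ⟨_, ⟨w, ⟨a, b, hab⟩, rfl⟩, hw⟩ := hle (sl_conj (tr_mem hij (1 : F)) P)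
  have ent : ∀ p q, (w : Matrix _ _ F) p q = (tr hij (1 : F) : Mat n F) (e.symm p) (e.symm q) :=
    fun p q => reindex_entry hw p q
  have hxx := ent x x
  have hxy' := ent x y
  have hxz := ent x z
  rw [hab, Matrix.kroneckerMap_apply, tr_val] at hxx hxy' hxz
  simp [Matrix.one_apply, hij, hij.symm, hxy, hxy.symm, hzx.symm, hzy.symm, hzy, hzx, e.symm.injective.eq_iff,
    Matrix.single_apply] at hxx hxy' hxz
  rcases hxz with h | h
  · exact (by rw [h, zero_mul] at hxx; exact zero_ne_one hxx : False)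
  · exact (by rw [h, mul_zero] at hxy'; exact zero_ne_one hxy' : False)

/-- A pure tensor vector. -/
def IsPureVec (v : (Fin t → Fin m) → F) : Prop := ∃ u : Fin t → Fin m → F, ∀ x, v x = ∏ i, u i (x i)

theorem pureVec_pureUnit (a : Fin t → GL (Fin m) F) {v : (Fin t → Fin m) → F} (hv : IsPureVec v) :
    IsPureVec ((pureUnit a : Matrix (Fin t → Fin m) (Fin t → Fin m) F) *ᵥ v) := by
  obtain ⟨u, hu⟩ := hv
  refine ⟨fun i => (a i : Mat m F) *ᵥ u i, fun x => ?_⟩
  show ∑ y, pureT (fun i => (a i : Mat m F)) x y * v y = ∏ i, ∑ j, (a i : Mat m F) (x i) j * u i j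
  simp only [pureT_apply, hu, ← Finset.prod_mul_distrib, Finset.prod_univ_sum, Fintype.piFinset_univ]

theorem pureVec_permUnit (σ : Equiv.Perm (Fin t)) {v : (Fin t → Fin m) → F} (hv : IsPureVec v) :
    IsPureVec ((permUnit (m := m) (F := F) σ : Matrix (Fin t → Fin m) (Fin t → Fin m) F) *ᵥ v) := by
  obtain ⟨u, hu⟩ := hv
  refine ⟨fun i => u (σ.symm i), fun x => ?_⟩
  show ∑ y, (if y = x ∘ σ then (1 : F) else 0) * v y = _
  simp only [ite_mul, one_mul, zero_mul, Finset.sum_ite_eq', Finset.mem_univ, if_true, hu]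
  rw [← Equiv.prod_comp σ fun i => u (σ.symm i) (x i)]
  simp

theorem pureVec_standard {w : GL (Fin t → Fin m) F} (hw : w ∈ tensorWreathStandard m t F) :
    ∀ v, (IsPureVec v → IsPureVec ((w : Matrix (Fin t → Fin m) (Fin t → Fin m) F) *ᵥ v)) := by
  suffices h : (∀ v, IsPureVec v → IsPureVec ((w : Matrix (Fin t → Fin m) (Fin t → Fin m) F) *ᵥ v)) ∧
      ∀ v, IsPureVec v → IsPureVec (((w⁻¹ : GL (Fin t → Fin m) F) : Matrix (Fin t → Fin m) (Fin t → Fin m) F) *ᵥ v) from h.1
  induction hw using Subgroup.closure_induction with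
  | mem g hg =>
    rcases hg with ⟨gs, hgs⟩ | ⟨σ, hσ⟩
    · obtain rfl : g = pureUnit gs := Units.ext (Matrix.ext fun x y => hgs x y)
      refine ⟨fun v => pureVec_pureUnit gs, fun v hv => ?_⟩
      exact pureVec_pureUnit (fun i => (gs i)⁻¹) hv
    · obtain rfl : g = permUnit σ := Units.ext (Matrix.ext fun x y => hσ x y)
      refine ⟨fun v => pureVec_permUnit σ, fun v hv => ?_⟩
      exact pureVec_permUnit σ.symm hv
  | one => simp
  | mul a b _ _ ha hb =>
    refine ⟨fun v hv => ?_, fun v hv => ?_⟩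
    · rw [Units.val_mul, ← Matrix.mulVec_mulVec]; exact ha.1 _ (hb.1 v hv)
    · rw [_root_.mul_inv_rev, Units.val_mul, ← Matrix.mulVec_mulVec]; exact hb.2 _ (ha.2 v hv)
  | inv a _ ha => exact ⟨ha.2, fun v hv => by rw [inv_inv]; exact ha.1 v hv⟩

theorem not_sl_le_wreath (hm : 2 ≤ m) (ht : 2 ≤ t) (e : Fin n ≃ (Fin t → Fin m)) (P : GL (Fin n) F) :
    ¬ specialLinear (Fin n) F ≤ tensorWreathSubgroup m t e P := by
  classical
  intro hle
  let i₀ : Fin t := ⟨0, by omega⟩
  let i₁ : Fin t := ⟨1, by omega⟩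
  let o : Fin m := ⟨0, by omega⟩
  let l : Fin m := ⟨1, by omega⟩
  have h01 : i₀ ≠ i₁ := by simp [i₀, i₁, Fin.ext_iff]
  have hol : o ≠ l := by simp [o, l, Fin.ext_iff]
  let a : Fin t → Fin m := fun _ => o
  let b : Fin t → Fin m := Function.update (Function.update a i₀ l) i₁ l
  let c : Fin t → Fin m := Function.update a i₀ l
  let d : Fin t → Fin m := Function.update a i₁ l
  have hab : a ≠ b := fun h => hol (by
    have := congrFun h i₁
    simpa [a, b] using this)
  have hca : c ≠ a := fun h => hol (by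
    have := congrFun h i₀
    simpa [a, c, h01] using this.symm)
  have hcb : c ≠ b := fun h => hol (by
    have := congrFun h i₁
    simpa [a, b, c, h01.symm] using this)
  have hij : e.symm a ≠ e.symm b := e.symm.injective.ne hab
  obtain ⟨_, ⟨w, hwmem, rfl⟩, hw⟩ := hle (sl_conj (tr_mem hij (1 : F)) P)
  have ent : ∀ p q, (w : Matrix _ _ F) p q = (tr hij (1 : F) : Mat n F) (e.symm p) (e.symm q) :=
    fun p q => reindex_entry hw p q
  have hb : IsPureVec (Pi.single b (1 : F) : (Fin t → Fin m) → F) :=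
    ⟨fun i => Pi.single (b i) 1, fun x => by
      by_cases h : x = b
      · subst h; simp
      · obtain ⟨i, hi⟩ := Function.ne_iff.mp h
        rw [Pi.single_eq_of_ne h]
        exact (Finset.prod_eq_zero (Finset.mem_univ i) (Pi.single_eq_of_ne hi _)).symm⟩
  obtain ⟨u, hu⟩ := pureVec_standard hwmem _ hb
  simp only [Matrix.mulVec_single_one, Matrix.col_apply, ent, tr_val, Matrix.add_apply] at hu
  have ha := hu a
  have hbb := hu b
  have hc := hu c
  simp [Matrix.one_apply, Matrix.single_apply, hab, hab.symm, hca.symm, hcb, hca,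
    e.symm.injective.eq_iff] at ha hbb hc
  have hprod : (∏ i, u i (a i)) * (∏ i, u i (b i)) = (∏ i, u i (c i)) * ∏ i, u i (d i) := by
    rw [← Finset.prod_mul_distrib, ← Finset.prod_mul_distrib]
    refine Finset.prod_congr rfl fun i _ => ?_
    by_cases h0 : i = i₀
    · subst h0; simp [b, c, d, h01, mul_comm]
    · by_cases h1 : i = i₁
      · subst h1; simp [b, c, d, h01.symm]
      · simp [b, c, d, h0, h1]
  rw [← ha, ← hbb, ← hc, zero_mul, mul_one] at hprod
  exact one_ne_zero hprod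

theorem field_dvd (hn : 0 < n) {r : ℕ} {K : Subalgebra F (Mat n F)} (hK : IsFieldSubalgebra r K) : r ∣ n := by
  classical
  haveI : NeZero n := ⟨hn.ne'⟩
  have hf : IsField K :=
    { exists_pair_ne := ⟨0, 1, fun h => zero_ne_one (congrArg Subtype.val h)⟩
      mul_comm := fun x y => Subtype.ext (hK.comm x x.2 y y.2)
      mul_inv_cancel := fun {x} hx => by
        obtain ⟨y, hy, h⟩ := hK.inv x x.2 fun h => hx (Subtype.ext h)
        exact ⟨⟨y, hy⟩, Subtype.ext h⟩ }
  letI : Field K := hf.toField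
  letI : Module K (Fin n → F) :=
    { smul := fun k v => (k : Mat n F) *ᵥ v
      one_smul := fun v => Matrix.one_mulVec v
      mul_smul := fun k l v => (Matrix.mulVec_mulVec v (k : Mat n F) (l : Mat n F)).symm
      smul_zero := fun k => Matrix.mulVec_zero _
      smul_add := fun k v w => Matrix.mulVec_add _ v w
      add_smul := fun k l v => Matrix.add_mulVec _ _ v
      zero_smul := fun v => Matrix.zero_mulVec v }
  haveI : IsScalarTower F K (Fin n → F) := ⟨fun c k v => Matrix.smul_mulVec c (k : Mat n F) v⟩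
  have h := Module.finrank_mul_finrank F K (Fin n → F)
  rw [hK.finrank_eq, Module.finrank_fintype_fun_eq_card, Fintype.card_fin] at h
  exact ⟨_, h.symm⟩

end CfsgLib.Classical.AschGen
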