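import Cfsg.Agent.Lib.Classical.AschGen.SimpleProd
import Cfsg.Agent.Lib.Classical.AschPrime.Linear

/-!
# A tensor power of the plane carries a form
-/

set_option autoImplicit false
set_option linter.unusedSectionVars false

namespace CfsgLib.Classical.AschGen

open Matrix Cfsg Cfsg.Geo CfsgLib.Classical.AschPrime
open scoped MatrixGroups

variable {F : Type*} [Field F] {n t : ℕ}

/-- The Gram matrix of the form of a plane. -/
def planeGram : Mat 2 F := !![0, 1; -1, 0]

theorem plane_sim (a : Mat 2 F) : aᵀ * planeGram * a = a.det • planeGram := by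
  ext i j
  fin_cases i <;> fin_cases j <;>
    simp [planeGram, Matrix.mul_apply, Fin.sum_univ_two, Matrix.det_fin_two] <;> ring

theorem plane_transpose : (planeGram : Mat 2 F)ᵀ = (-1 : F) • planeGram := by
  ext i j
  fin_cases i <;> fin_cases j <;> simp [planeGram]

theorem plane_mul_neg : (planeGram : Mat 2 F) * ((-1 : F) • planeGram) = 1 := by
  ext i j
  fin_cases i <;> fin_cases j <;> simp [planeGram, Matrix.mul_apply, Fin.sum_univ_two]

theorem pureT_transpose {m : ℕ} (a : Fin t → Mat m F) : (pureT a)ᵀ = pureT fun i => (a i)ᵀ := by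
  ext x y
  simp [pureT_apply]

/-- The Gram matrix of the tensor power. -/
def powGram (F : Type*) [Field F] (t : ℕ) : Matrix (Fin t → Fin 2) (Fin t → Fin 2) F :=
  pureT fun _ => planeGram

theorem powGram_transpose : (powGram F t)ᵀ = (-1 : F) ^ t • powGram F t := by
  rw [powGram, pureT_transpose, show (fun _ => (planeGram : Mat 2 F)ᵀ) =
    fun _ : Fin t => (-1 : F) • (planeGram : Mat 2 F) from funext fun _ => plane_transpose, pureT_smul]
  simp

theorem powGram_diag (ht : 0 < t) (x : Fin t → Fin 2) : powGram F t x x = 0 := by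
  refine Finset.prod_eq_zero (Finset.mem_univ (⟨0, ht⟩ : Fin t)) ?_
  generalize x ⟨0, ht⟩ = i
  fin_cases i <;> simp [planeGram]

theorem powGram_unit : IsUnit (powGram F t) :=
  .of_mul_eq_one (pureT fun _ => (-1 : F) • planeGram) (by
    rw [powGram, ← pureT_mul, show ((fun _ => planeGram) * fun _ : Fin t => (-1 : F) • (planeGram : Mat 2 F))
      = 1 from funext fun _ => plane_mul_neg, pureT_one])

theorem pure_sim (a : Fin t → GL (Fin 2) F) :
    (pureUnit a : Matrix _ _ F)ᵀ * powGram F t * (pureUnit a : Matrix _ _ F) =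
      (∏ i, (a i : Mat 2 F).det) • powGram F t := by
  show (pureT _)ᵀ * _ * pureT _ = _
  rw [pureT_transpose, powGram, ← pureT_mul, ← pureT_mul, ← pureT_smul]
  congr 1
  funext i
  exact plane_sim _

theorem perm_sim (σ : Equiv.Perm (Fin t)) :
    (permUnit (m := 2) (F := F) σ : Matrix _ _ F)ᵀ * powGram F t *
      (permUnit (m := 2) (F := F) σ : Matrix _ _ F) = powGram F t := by
  have htr : (permUnit (m := 2) (F := F) σ : Matrix _ _ F)ᵀ =
      (((permUnit σ)⁻¹ : GL (Fin t → Fin 2) F) : Matrix (Fin t → Fin 2) (Fin t → Fin 2) F) := by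
    ext x y
    show (if x = y ∘ σ then (1 : F) else 0) = if y = x ∘ σ.symm then 1 else 0
    refine if_congr ⟨?_, ?_⟩ rfl rfl <;> rintro rfl <;> simp [Function.comp_assoc]
  rw [htr, mul_assoc, powGram, ← perm_pure σ fun _ => planeGram, Units.inv_mul_cancel_left]

/-- The form in the coordinates of a tensor decomposition. -/
def powForm (e : Fin n ≃ (Fin t → Fin 2)) (P : GL (Fin n) F) (u v : Fin n → F) : F :=
  ((((P⁻¹ : GL (Fin n) F) : Mat n F) *ᵥ u) ∘ e.symm) ⬝ᵥ
    (powGram F t *ᵥ ((((P⁻¹ : GL (Fin n) F) : Mat n F) *ᵥ v) ∘ e.symm))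

variable (e : Fin n ≃ (Fin t → Fin 2)) (P : GL (Fin n) F)

theorem powForm_symm (u v : Fin n → F) : powForm e P v u = (-1) ^ t * powForm e P u v := by
  unfold powForm
  rw [Matrix.dotProduct_mulVec, ← Matrix.mulVec_transpose, powGram_transpose, Matrix.smul_mulVec,
    smul_dotProduct, dotProduct_comm, smul_eq_mul]

theorem powForm_bilinear : IsBilinearForm (powForm e P) := by
  have hc : ∀ (x y : Fin n → F), (x + y) ∘ e.symm = x ∘ e.symm + y ∘ e.symm := fun _ _ => rfl
  have hs : ∀ (c : F) (x : Fin n → F), (c • x) ∘ e.symm = c • (x ∘ e.symm) := fun _ _ => rfl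
  constructor <;> intros <;>
    simp only [powForm, Matrix.mulVec_add, Matrix.mulVec_smul, hc, hs, add_dotProduct, dotProduct_add,
      smul_dotProduct, dotProduct_smul, smul_eq_mul]

theorem powForm_nondeg : IsNondegenerateForm (powForm e P) := by
  classical
  intro v hv
  set v' := ((((P⁻¹ : GL (Fin n) F) : Mat n F) *ᵥ v) ∘ e.symm)
  have hv' : powGram F t *ᵥ v' ≠ 0 := by
    intro h0
    have h1 : v' = 0 := Matrix.mulVec_injective_iff_isUnit.mpr powGram_unit (by rw [h0, Matrix.mulVec_zero])
    refine hv (Matrix.mulVec_injective_iff_isUnit.mpr (P⁻¹ : GL (Fin n) F).isUnit ?_)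
    funext i
    simpa [v'] using congrFun h1 (e i)
  obtain ⟨j, hj⟩ := Function.ne_iff.mp hv'
  have hx : powForm e P ((P : Mat n F) *ᵥ fun i => if e i = j then 1 else 0) v ≠ 0 := by
    rw [powForm, Matrix.mulVec_mulVec, Units.inv_mul, Matrix.one_mulVec,
      show (fun i => if e i = j then (1 : F) else 0) ∘ e.symm = Pi.single j 1 by
        funext y; simp [Pi.single_apply], single_one_dotProduct]
    exact hj
  exact ⟨⟨_, hx⟩, ⟨(P : Mat n F) *ᵥ fun i => if e i = j then 1 else 0, by
    rw [powForm_symm]; exact mul_ne_zero (pow_ne_zero _ (neg_ne_zero.mpr one_ne_zero)) hx⟩⟩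

theorem powForm_alternating (ht : 0 < t) (hodd : Odd t ∨ (2 : F) = 0) (v : Fin n → F) :
    powForm e P v v = 0 := by
  classical
  have h1 : (-1 : F) ^ t = -1 := by
    rcases hodd with h | h
    · exact h.neg_one_pow
    · have : (-1 : F) = 1 := by linear_combination -h
      rw [this, one_pow]
  have hsk : ∀ x y, powGram F t y x = -powGram F t x y := fun x y => by
    have := congrFun (congrFun (powGram_transpose (F := F) (t := t)) x) y
    rw [h1] at this
    simpa using this
  set w := ((((P⁻¹ : GL (Fin n) F) : Mat n F) *ᵥ v) ∘ e.symm)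
  show w ⬝ᵥ (powGram F t *ᵥ w) = 0
  simp only [dotProduct, Matrix.mulVec, Finset.mul_sum]
  rw [← Fintype.sum_prod_type']
  refine Finset.sum_involution (fun p _ => p.swap) (fun p _ => ?_) (fun p _ hp h => ?_)
    (fun _ _ => Finset.mem_univ _) (fun p _ => p.swap_swap)
  · simp only [Prod.fst_swap, Prod.snd_swap, hsk p.1 p.2]; ring
  · refine hp ?_
    rw [show p.2 = p.1 from congrArg Prod.fst h, powGram_diag ht]
    simp

theorem wreath_le_similarity : tensorWreathSubgroup 2 t e P ≤ similarityGroup (powForm e P) := by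
  have hgen : ∀ (w : GL (Fin t → Fin 2) F) (c : F), (w : Matrix _ _ F)ᵀ * powGram F t * (w : Matrix _ _ F) =
      c • powGram F t → c ≠ 0 → P * glReindex e.symm w * P⁻¹ ∈ similarityGroup (powForm e P) := by
    intro w c hw hc
    refine ⟨Units.mk0 c hc, fun u v => ?_⟩
    have key : ∀ x : Fin n → F,
        ((((P⁻¹ : GL (Fin n) F) : Mat n F) *ᵥ ((P * glReindex e.symm w * P⁻¹ : GL (Fin n) F) : Mat n F) *ᵥ x) ∘
          e.symm) = (w : Matrix _ _ F) *ᵥ ((((P⁻¹ : GL (Fin n) F) : Mat n F) *ᵥ x) ∘ e.symm) := by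
      intro x
      rw [Matrix.mulVec_mulVec, Units.val_mul, Units.val_mul, mul_assoc, Units.inv_mul_cancel_left,
        ← Matrix.mulVec_mulVec]
      show ((Matrix.submatrix (w : Matrix _ _ F) e e) *ᵥ _) ∘ e.symm = _
      rw [Matrix.submatrix_mulVec_equiv]
      funext y
      simp [Function.comp_def]
    simp only [powForm, key, Units.val_mk0]
    set u' := (((P⁻¹ : GL (Fin n) F) : Mat n F) *ᵥ u) ∘ e.symm
    set v' := (((P⁻¹ : GL (Fin n) F) : Mat n F) *ᵥ v) ∘ e.symm
    rw [Matrix.mulVec_mulVec, ← Matrix.vecMul_transpose, ← Matrix.dotProduct_mulVec, Matrix.mulVec_mulVec,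
      ← mul_assoc, hw, Matrix.smul_mulVec, dotProduct_smul, smul_eq_mul]
  refine Subgroup.map_le_iff_le_comap.mpr (Subgroup.map_le_iff_le_comap.mpr
    ((Subgroup.closure_le _).mpr ?_))
  intro w hw
  show P * glReindex e.symm w * P⁻¹ ∈ similarityGroup (powForm e P)
  rcases hw with ⟨gs, hgs⟩ | ⟨σ, hσ⟩
  · obtain rfl : w = pureUnit gs := Units.ext (Matrix.ext fun x y => hgs x y)
    exact hgen _ _ (pure_sim gs) (Finset.prod_ne_zero_iff.mpr fun i _ =>
      ((Matrix.isUnit_iff_isUnit_det _).mp (gs i).isUnit).ne_zero)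
  · obtain rfl : w = permUnit σ := Units.ext (Matrix.ext fun x y => hσ x y)
    exact hgen _ 1 (by rw [one_smul]; exact perm_sim σ) one_ne_zero

/-- A tensor power of the plane lies in a symplectic or an orthogonal similarity group. -/
theorem two_factor [Fintype F] (ht : 2 ≤ t) :
    (∃ f : (Fin n → F) → (Fin n → F) → F, IsSymplecticForm f ∧ Even n ∧ 4 ≤ n ∧
        tensorWreathSubgroup 2 t e P ≤ similarityGroup f) ∨
    (∃ Q : (Fin n → F) → F, IsNondegenerateQuadraticForm Q ∧ Odd (Fintype.card F) ∧ 3 ≤ n ∧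
        tensorWreathSubgroup 2 t e P ≤ quadSimilarityGroup Q) := by
  have hn : n = 2 ^ t := by simpa using Fintype.card_congr e
  have hn4 : 4 ≤ n := by
    rw [hn]
    calc 4 = 2 ^ 2 := rfl
      _ ≤ 2 ^ t := Nat.pow_le_pow_right (by norm_num) ht
  by_cases hcase : Odd t ∨ (2 : F) = 0
  · left
    have h1 : (-1 : F) ^ t = -1 := by
      rcases hcase with h | h
      · exact h.neg_one_pow
      · have : (-1 : F) = 1 := by linear_combination -h
        rw [this, one_pow]
    refine ⟨powForm e P, ⟨powForm_bilinear e P, fun v w => ?_,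
      powForm_alternating e P (by omega) hcase, powForm_nondeg e P⟩, ?_, hn4, wreath_le_similarity e P⟩
    · rw [powForm_symm e P w v, h1]; ring
    · rw [hn]; exact (Nat.even_pow.mpr ⟨even_two, by omega⟩)
  · right
    push Not at hcase
    obtain ⟨hodd, h2⟩ := hcase
    replace hodd := Nat.not_odd_iff_even.mp hodd
    have hb := powForm_bilinear e P
    have hsym : ∀ u v, powForm e P v u = powForm e P u v := fun u v => by
      rw [powForm_symm, hodd.neg_one_pow, one_mul]
    have hpolar : QuadraticMap.polar (fun v => powForm e P v v) = fun u v => 2 * powForm e P u v := by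
      funext u v
      simp only [QuadraticMap.polar, hb.add_left, hb.add_right, hsym u v]
      ring
    refine ⟨fun v => powForm e P v v, ⟨fun c v => ?_, ?_, ?_⟩, odd_card_of_two_ne_zero h2, by omega,
      fun g hg => ?_⟩
    · rw [hb.smul_left, hb.smul_right]; ring
    · rw [hpolar]
      exact ⟨fun x y v => by rw [hb.add_left]; ring, fun c x v => by rw [hb.smul_left]; ring,
        fun v x y => by rw [hb.add_right]; ring, fun c v x => by rw [hb.smul_right]; ring⟩
    · rw [hpolar]
      intro v hv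
      obtain ⟨⟨x, hx⟩, ⟨y, hy⟩⟩ := powForm_nondeg e P v hv
      exact ⟨⟨x, mul_ne_zero h2 hx⟩, ⟨y, mul_ne_zero h2 hy⟩⟩
    · obtain ⟨c, hc⟩ := wreath_le_similarity e P hg
      exact ⟨c, fun v => hc v v⟩

end CfsgLib.Classical.AschGen
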