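import Cfsg.Agent.Lib.Classical.AschGen.Extraspecial
import Cfsg.Agent.Lib.Classical.AschGen.TwoFactor
import Cfsg.Agent.Lib.Classical.AschPrime.Proper

/-!
# Aschbacher's theorem for linear groups
-/

set_option autoImplicit false
set_option linter.unusedSectionVars false

namespace CfsgLib.Classical.AschGen

open Matrix Cfsg Cfsg.Geo CfsgLib.Classical.AschPrime
open scoped MatrixGroups Kronecker commutatorElement

variable {F : Type*} [Field F] {n : ℕ}

theorem tensor_swap {n₁ n₂ : ℕ} (e : Fin n ≃ Fin n₁ × Fin n₂) (P : GL (Fin n) F) :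
    tensorProductSubgroup n₁ n₂ e P ≤
      tensorProductSubgroup n₂ n₁ (e.trans (Equiv.prodComm _ _)) P := by
  classical
  refine Subgroup.map_mono ?_
  rintro _ ⟨g, hg, rfl⟩
  obtain ⟨a, b, hab⟩ := hg
  let σ : Fin n₁ × Fin n₂ ≃ Fin n₂ × Fin n₁ := Equiv.prodComm _ _
  refine ⟨glReindex σ g, ⟨b, a, ?_⟩, Units.ext ?_⟩
  · show Matrix.reindex σ σ (g : Matrix _ _ F) = _
    rw [hab]
    ext x y
    simp [σ, mul_comm]
  · show Matrix.reindex _ _ (Matrix.reindex σ σ (g : Matrix _ _ F)) = Matrix.reindex _ _ (g : Matrix (Fin n₁ × Fin n₂) (Fin n₁ × Fin n₂) F)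
    ext x y
    simp [σ]

theorem tensor_le_wreath {m : ℕ} (e : Fin n ≃ Fin m × Fin m) (P : GL (Fin n) F) :
    tensorProductSubgroup m m e P ≤
      tensorWreathSubgroup m 2 (e.trans (piFinTwoEquiv fun _ => Fin m).symm) P := by
  classical
  refine Subgroup.map_mono ?_
  rintro _ ⟨g, hg, rfl⟩
  obtain ⟨a, b, hab⟩ := hg
  refine ⟨pureUnit ![a, b], Subgroup.subset_closure (Or.inl (pureUnit_isPure _)), Units.ext ?_⟩
  show Matrix.reindex _ _ (pureT fun i => ((![a, b] i : GL (Fin m) F) : Mat m F)) =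
    Matrix.reindex _ _ (g : Matrix (Fin m × Fin m) (Fin m × Fin m) F)
  rw [hab]
  ext x y
  simp [pureT_apply, Fin.prod_univ_two]

variable [Fintype F]

theorem inFormClass_of_wreath_two {t : ℕ} (ht : 2 ≤ t) {H : Subgroup (GL (Fin n) F)}
    (e : Fin n ≃ (Fin t → Fin 2)) (P : GL (Fin n) F) (hle : H ≤ tensorWreathSubgroup 2 t e P) :
    InFormClass H := by
  rcases two_factor e P ht with ⟨f, hf, he, h4, hw⟩ | ⟨Q, hQ, ho, h3, hw⟩
  · exact .inl ⟨f, hf, he, h4, hle.trans hw⟩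
  · exact .inr (.inr ⟨Q, hQ, ho, h3, hle.trans hw⟩)

/-- A perfect minimal normal subgroup that spans is a residual core if it is realised over no
subfield. -/
theorem residualCore_of (hn : 0 < n) {H M : Subgroup (GL (Fin n) F)}
    (hM : M ≤ H) (hMn : ∀ h ∈ H, ∀ x ∈ M, h * x * h⁻¹ ∈ M) (hM0 : ¬ M ≤ scalars (Fin n) F)
    (hperf : ⁅M, M⁆ = M) (habs : ActsAbsolutelyIrreducibly (matrixSet M))
    (hsimple : ∀ L ≤ M, (∀ g ∈ M, ∀ x ∈ L, g * x * g⁻¹ ∈ L) → ¬ L ≤ scalars (Fin n) F → L = M)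
    (hsub : ∀ F₀ : Subfield F, F₀ ≠ ⊤ → ¬ RealisableOver F₀ (matrixSet M)) : IsResidualCore H M := by
  classical
  have hn0 := hn
  have hsimp : IsSimpleGroup (M ⧸ (scalars (Fin n) F).subgroupOf M) := by
    haveI : Nontrivial (M ⧸ (scalars (Fin n) F).subgroupOf M) := by
      rw [QuotientGroup.nontrivial_iff]
      exact fun e => hM0 (Subgroup.subgroupOf_eq_top.mp e)
    refine ⟨fun L hL => ?_⟩
    set π := QuotientGroup.mk' ((scalars (Fin n) F).subgroupOf M)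
    let L' := (L.comap π).map M.subtype
    have hL'n : ∀ g ∈ M, ∀ x ∈ L', g * x * g⁻¹ ∈ L' := by
      intro g hg y hy
      obtain ⟨x, hx, hxy⟩ := Subgroup.mem_map.mp hy
      let gM : M := ⟨g, hg⟩
      refine Subgroup.mem_map.mpr ⟨gM * x * gM⁻¹, ?_, ?_⟩
      · exact (Subgroup.Normal.comap hL π).conj_mem x hx gM
      · rw [map_mul, map_mul, map_inv, hxy]; rfl
    by_cases hsc : L' ≤ scalars (Fin n) F
    · left
      rw [Subgroup.eq_bot_iff_forall]
      intro z hz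
      obtain ⟨x, rfl⟩ := QuotientGroup.mk'_surjective _ z
      exact (QuotientGroup.eq_one_iff x).mpr (hsc ⟨x, hz, rfl⟩)
    · right
      have e := hsimple L' (Subgroup.map_subtype_le _) hL'n hsc
      refine eq_top_iff.mpr fun z _ => ?_
      obtain ⟨x, rfl⟩ := QuotientGroup.mk'_surjective _ z
      obtain ⟨y, hy, hyx⟩ := (e.symm ▸ x.2 : x.1 ∈ L')
      rw [show x = y from Subtype.ext hyx.symm]
      exact hy
  have hnab : ¬ IsMulCommutative (M ⧸ (scalars (Fin n) F).subgroupOf M) := by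
    intro hab
    refine hM0 ?_
    rw [← hperf]
    refine Subgroup.commutator_le.mpr fun a ha b hb => ?_
    have := hab.is_comm.comm ((⟨a, ha⟩ : M) : M ⧸ (scalars (Fin n) F).subgroupOf M)
      ((⟨b, hb⟩ : M) : M ⧸ (scalars (Fin n) F).subgroupOf M)
    rw [← QuotientGroup.mk_mul, ← QuotientGroup.mk_mul, eq_comm, QuotientGroup.eq,
      Subgroup.mem_subgroupOf] at this
    have := scalars_normal.conj_mem _ this (b * a)
    simpa [commutatorElement_def, mul_assoc] using this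
  have hcent : ∀ h ∈ H, (∀ x ∈ M, h * x * h⁻¹ * x⁻¹ ∈ scalars (Fin n) F) →
      h ∈ scalars (Fin n) F := by
    intro h _ hx
    obtain ⟨c, hc⟩ := habs.2 h (by
      rintro _ ⟨x, hxM, rfl⟩
      exact congrArg Units.val (commute_commutator hx x (hperf.symm ▸ hxM)))
    exact mem_scalars_of_eq hn0 hc
  exact ⟨hM, hMn, hperf, hsimp, hnab, hcent, habs, hsub⟩

/-- The case of a minimal normal subgroup that is simple modulo the scalars. -/
theorem simple_outcome (hn : 3 ≤ n) {H M : Subgroup (GL (Fin n) F)} (hall : AllFull H)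
    (hM : M ≤ H) (hMn : ∀ h ∈ H, ∀ x ∈ M, h * x * h⁻¹ ∈ M) (hM0 : ¬ M ≤ scalars (Fin n) F)
    (hperf : ⁅M, M⁆ = M)
    (hsimple : ∀ L ≤ M, (∀ g ∈ M, ∀ x ∈ L, g * x * g⁻¹ ∈ L) → ¬ L ≤ scalars (Fin n) F → L = M) :
    Outcome H := by
  classical
  have hn0 : 0 < n := by omega
  have hfull := hall M hM hMn hM0
  have habs := full_absIrred hn0 hfull
  have hform : InFormClass H → Outcome H := fun h =>
    .inr (.inr (.inr (.inr (.inr (.inr (.inr (.inl h)))))))
  by_cases hsub : ∃ F₀ : Subfield F, F₀ ≠ ⊤ ∧ RealisableOver F₀ (matrixSet M)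
  · obtain ⟨F₀, hF₀, hreal⟩ := hsub
    obtain ⟨B, hB⟩ := realisableOver_iff.mp hreal
    obtain ⟨F₁, l, hle, -, hl, hcard⟩ := exists_prime_index _ hF₀
    refine .inr (.inr (.inr (.inr (.inl ⟨F₁, l, B⁻¹, hl, hcard, fun g hg => ?_⟩))))
    exact mem_subfieldSubgroup hn0 habs (fun s hs => (hB s hs).mono hle) (hMn g hg)
  have hsympCase : ∀ f : (Fin n → F) → (Fin n → F) → F, IsSymplecticForm f →
      FixesForm (matrixSet M) f → Outcome H := by
    intro f hf hfix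
    have heven : Even n := Nat.not_odd_iff_even.mp fun h => not_symplectic h hf
    refine hform (.inl ⟨f, hf, heven, by rcases heven with ⟨k, hk⟩; omega, fun g hg => ?_⟩)
    obtain ⟨c, hc0, hc⟩ := exists_multiplier hn0 (isSesq_of_bilinear hf.bilinear) hf.nondegenerate habs
      hfix (hMn g hg)
    exact ⟨Units.mk0 c hc0, hc⟩
  by_cases hsymp : ∃ f : (Fin n → F) → (Fin n → F) → F, IsSymplecticForm f ∧ FixesForm (matrixSet M) f
  · obtain ⟨f, hf, hfix⟩ := hsymp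
    exact hsympCase f hf hfix
  by_cases hquad : ∃ Q : (Fin n → F) → F,
      IsNondegenerateQuadraticForm Q ∧ FixesQuadForm (matrixSet M) Q
  · obtain ⟨Q, hQ, hfix⟩ := hquad
    have hfix' : FixesForm (matrixSet M) (QuadraticMap.polar Q) := fun s hs u v => by
      simp only [QuadraticMap.polar, ← Matrix.mulVec_add, hfix s hs]
    by_cases h2 : (2 : F) = 0
    · refine hsympCase (QuadraticMap.polar Q) ⟨hQ.polar_bilinear, fun v w => ?_, fun v => ?_,
        hQ.nondegenerate⟩ hfix'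
      · rw [QuadraticMap.polar_comm Q v w, eq_neg_iff_add_eq_zero, ← two_mul, h2, zero_mul]
      · rw [polar_self hQ, h2, zero_mul]
    refine hform (.inr (.inr ⟨Q, hQ, odd_card_of_two_ne_zero h2, hn, fun g hg => ?_⟩))
    obtain ⟨c, hc0, hc⟩ := exists_multiplier hn0 (isSesq_of_bilinear hQ.polar_bilinear)
      hQ.nondegenerate habs hfix' (hMn g hg)
    refine ⟨Units.mk0 c hc0, fun v => mul_left_cancel₀ h2 ?_⟩
    have := hc v v
    rw [polar_self hQ, polar_self hQ] at this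
    rw [this, Units.val_mk0]; ring
  by_cases hunit : ∃ (σ : F ≃+* F) (f : (Fin n → F) → (Fin n → F) → F),
      IsUnitaryForm σ f ∧ FixesForm (matrixSet M) f
  · obtain ⟨σ, f, hf, hfix⟩ := hunit
    refine hform (.inr (.inl ⟨σ, f, hf, hn, fun g hg => ?_⟩))
    obtain ⟨c, hc0, hc⟩ := exists_multiplier hn0 (isSesq_of_unitary hf) hf.nondegenerate habs
      hfix (hMn g hg)
    exact ⟨Units.mk0 c hc0, hc⟩
  exact .inr (.inr (.inr (.inr (.inr (.inr (.inr (.inr
    ⟨M, residualCore_of hn0 hM hMn hM0 hperf habs hsimple (fun F₀ h h' => hsub ⟨F₀, h, h'⟩),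
      hquad, hsymp, hunit⟩)))))))

/-- Aschbacher's theorem for subgroups of a finite general linear group of degree at least three. -/
theorem outcome (hn : 3 ≤ n) (H : Subgroup (GL (Fin n) F)) : Outcome H := by
  classical
  have hn0 : 0 < n := by omega
  by_cases hirr : ActsIrreducibly (matrixSet H)
  swap
  · rw [irr_iff] at hirr
    push Not at hirr
    obtain ⟨W, hW, h0, h1⟩ := hirr
    exact .inl ⟨W, h0, h1,
      le_subspaceStabilizer fun h hh v hv => hW _ (mem_matrixSet hh) v hv⟩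
  by_cases hall : AllFull H
  swap
  · simp only [AllFull, not_forall] at hall
    obtain ⟨N, hN, hnorm, hN0, hfull⟩ := hall
    rcases not_full_cases hn0 hirr hnorm hN0 hfull with
      ⟨t, m, D, hD, hle⟩ | ⟨r, K, hr, hK, hle⟩ | ⟨n₁, n₂, e, P, h1, h2, hle⟩
    · exact .inr (.inl ⟨t, m, D, hD, hle⟩)
    · exact .inr (.inr (.inl ⟨r, K, hr, hK, hle⟩))
    rcases lt_trichotomy n₁ n₂ with h | h | h
    · exact .inr (.inr (.inr (.inl ⟨n₁, n₂, e, P, h1, h, hle⟩)))
    · subst h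
      have hle' := hle.trans (tensor_le_wreath e P)
      rcases eq_or_lt_of_le h1 with h1 | h1
      · subst h1
        exact .inr (.inr (.inr (.inr (.inr (.inr (.inr (.inl
          (inFormClass_of_wreath_two le_rfl _ P hle'))))))))
      · exact .inr (.inr (.inr (.inr (.inr (.inr (.inl ⟨n₁, 2, _, P, h1, le_rfl, hle'⟩))))))
    · exact .inr (.inr (.inr (.inl ⟨n₂, n₁, _, P, h2, h, hle.trans (tensor_swap e P)⟩)))
  have hH0 : ¬ H ≤ scalars (Fin n) F := by
    intro hle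
    let v : Fin n → F := Pi.single ⟨0, hn0⟩ 1
    rcases irr_iff.mp hirr (F ∙ v) (by
      rintro _ ⟨x, hx, rfl⟩ w hw
      obtain ⟨c, hc⟩ := (mem_scalars_iff x).mp (hle hx)
      show (x : Mat n F) *ᵥ w ∈ _
      rw [hc, Matrix.smul_mulVec, Matrix.one_mulVec]
      exact Submodule.smul_mem _ _ hw) with h | h
    · have := congrFun (Submodule.span_singleton_eq_bot.mp h) ⟨0, hn0⟩
      simp [v] at this
    · have hmem : (Pi.single ⟨1, by omega⟩ 1 : Fin n → F) ∈ F ∙ v := h ▸ Submodule.mem_top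
      obtain ⟨c, hc⟩ := Submodule.mem_span_singleton.mp hmem
      have := congrFun hc ⟨1, by omega⟩
      simp [v] at this
  have hex : ∃ d, ∃ L ≤ H, (∀ h ∈ H, ∀ x ∈ L, h * x * h⁻¹ ∈ L) ∧
      ¬ L ≤ scalars (Fin n) F ∧ Nat.card L = d :=
    ⟨_, H, le_rfl, fun h hh x hx => H.mul_mem (H.mul_mem hh hx) (H.inv_mem hh), hH0, rfl⟩
  obtain ⟨M, hM, hMn, hM0, hMd⟩ := Nat.find_spec hex
  have hmin : ∀ L ≤ M, (∀ h ∈ H, ∀ x ∈ L, h * x * h⁻¹ ∈ L) → ¬ L ≤ scalars (Fin n) F → L = M :=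
    fun L h1 h2 h3 => Subgroup.eq_of_le_of_card_ge h1
      (hMd ▸ Nat.find_min' hex ⟨L, h1.trans hM, h2, h3, rfl⟩)
  by_cases hMM : ⁅M, M⁆ ≤ scalars (Fin n) F
  · exact extraspecial_outcome hn hall hM hMn hM0 hmin hMM
  have hperf : ⁅M, M⁆ = M :=
    hmin _ (Subgroup.commutator_le_self M) (fun h hh => conj_commutator_mem (hMn h hh)) hMM
  rcases tensor_power hn0 hall hM hMn hM0 hmin hperf with hsimple | ⟨m, t, e, P, hm, ht, hle⟩
  · exact simple_outcome hn hall hM hMn hM0 hperf hsimple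
  rcases eq_or_lt_of_le hm with hm | hm
  · subst hm
    exact .inr (.inr (.inr (.inr (.inr (.inr (.inr (.inl
      (inFormClass_of_wreath_two ht e P hle))))))))
  · exact .inr (.inr (.inr (.inr (.inr (.inr (.inl ⟨m, t, e, P, hm, ht, hle⟩))))))

/-- Every subgroup lies in a geometric class or is in the residual class. -/
theorem linear_class (hn : 3 ≤ n) (H : Subgroup (GL (Fin n) F)) :
    (∃ M : Subgroup (GL (Fin n) F), InLinearClass n F M ∧ H ≤ M) ∨ InLinearResidualClass H := by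
  rcases outcome hn H with ⟨W, h0, h1, hle⟩ | ⟨t, m, D, hD, hle⟩ | ⟨r, K, hr, hK, hle⟩ |
    ⟨n₁, n₂, e, P, h1, h2, hle⟩ | ⟨F₀, l, P, hl, hcard, hle⟩ | ⟨r, m, R, -, -, -, hdata, hle⟩ |
    ⟨m, t, e, P, hm, ht, hle⟩ |
    (⟨f, hf, he, h4, hle⟩ | ⟨σ, f, hf, h3, hle⟩ | ⟨Q, hQ, ho, h3, hle⟩) | hres
  · exact .inl ⟨_, .inl ⟨W, h0, h1, rfl⟩, hle⟩
  · exact .inl ⟨_, .inr (.inr (.inr (.inl ⟨t, m, D, hD, rfl⟩))), hle⟩
  · exact .inl ⟨_, .inr (.inr (.inr (.inr (.inl ⟨r, K, hr, hK, rfl⟩)))), hle⟩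
  · exact .inl ⟨_, .inr (.inr (.inr (.inr (.inr (.inl ⟨n₁, n₂, e, P, h1, h2, rfl⟩))))), hle⟩
  · exact .inl ⟨_, .inr (.inr (.inr (.inr (.inr (.inr (.inl ⟨F₀, l, P, hl, hcard, rfl⟩)))))), hle⟩
  · exact .inl ⟨_, .inr (.inr (.inr (.inr (.inr (.inr (.inr (.inl ⟨r, R, hdata, rfl⟩))))))), hle⟩
  · exact .inl ⟨_, .inr (.inr (.inr (.inr (.inr (.inr (.inr (.inr (.inl
      ⟨m, t, e, P, hm, ht, rfl⟩)))))))), hle⟩
  · exact .inl ⟨_, .inr (.inr (.inr (.inr (.inr (.inr (.inr (.inr (.inr (.inl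
      ⟨f, hf, he, h4, rfl⟩))))))))), hle⟩
  · exact .inl ⟨_, .inr (.inr (.inr (.inr (.inr (.inr (.inr (.inr (.inr (.inr (.inl
      ⟨σ, f, hf, h3, rfl⟩)))))))))), hle⟩
  · exact .inl ⟨_, .inr (.inr (.inr (.inr (.inr (.inr (.inr (.inr (.inr (.inr (.inr
      ⟨Q, hQ, ho, h3, rfl⟩)))))))))), hle⟩
  · exact .inr hres

end CfsgLib.Classical.AschGen
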