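import Cfsg.Agent.Lib.Classical.AschGen.Tensor
import Cfsg.Agent.Lib.Classical.AschGen.Centre

/-!
# Groups spanning the whole matrix algebra
-/

set_option autoImplicit false
set_option linter.unusedSectionVars false

namespace CfsgLib.Classical.AschGen

open Matrix Cfsg Cfsg.Geo CfsgLib.Classical.AschPrime
open scoped MatrixGroups

variable {F : Type*} [Field F] {n : ℕ}

theorem full_commutant (hn : 0 < n) {N : Subgroup (GL (Fin n) F)} (hN : algOf N = ⊤) {M : Mat n F}
    (hM : ∀ x ∈ N, M * (x : Mat n F) = (x : Mat n F) * M) : ∃ c : F, M = c • 1 := by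
  have hall : ∀ Y : Mat n F, Y ∈ Subalgebra.centralizer F {M} := by
    intro Y
    have hle : algOf N ≤ Subalgebra.centralizer F {M} := Algebra.adjoin_le (by
      rintro _ ⟨x, hx, rfl⟩
      rw [SetLike.mem_coe, Subalgebra.mem_centralizer_iff]
      intro g hg
      rw [Set.mem_singleton_iff] at hg
      rw [hg]; exact hM x hx)
    exact hle (hN ▸ Algebra.mem_top)
  have hmem : M ∈ Set.range (Matrix.scalar (Fin n) : F → Mat n F) :=
    Matrix.mem_range_scalar_iff_commute_single'.mpr fun i j =>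
      ((Subalgebra.mem_centralizer_iff F).mp (hall (Matrix.single i j 1)) M rfl).symm
  obtain ⟨c, rfl⟩ := hmem
  exact ⟨c, by simp [Matrix.scalar_apply, Matrix.smul_one_eq_diagonal]⟩

theorem full_absIrred (hn : 0 < n) {N : Subgroup (GL (Fin n) F)} (hN : algOf N = ⊤) :
    ActsAbsolutelyIrreducibly (matrixSet N) := by
  classical
  refine ⟨irr_iff.mpr fun W hW => ?_, fun M hM => full_commutant hn hN fun x hx => hM _ (mem_matrixSet hx)⟩
  have hall : ∀ Y : Mat n F, ∀ v ∈ W, Y *ᵥ v ∈ W := by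
    let S : Subalgebra F (Mat n F) :=
      { carrier := {Y | ∀ v ∈ W, Y *ᵥ v ∈ W}
        mul_mem' := fun {a b} ha hb v hv => by rw [← Matrix.mulVec_mulVec]; exact ha _ (hb v hv)
        add_mem' := fun {a b} ha hb v hv => by
          rw [Matrix.add_mulVec]; exact W.add_mem (ha v hv) (hb v hv)
        algebraMap_mem' := fun c v hv => by
          rw [one_smul_eq, Matrix.smul_mulVec, Matrix.one_mulVec]; exact W.smul_mem c hv }
    intro Y v hv
    have hle : algOf N ≤ S := Algebra.adjoin_le (by rintro _ ⟨x, hx, rfl⟩; exact hW _ (mem_matrixSet hx))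
    exact hle (hN ▸ Algebra.mem_top) v hv
  refine or_iff_not_imp_left.mpr fun h0 => eq_top_iff.mpr fun x _ => ?_
  obtain ⟨v, hv, hv0⟩ := Submodule.exists_mem_ne_zero_of_ne_bot h0
  obtain ⟨i, hi⟩ := Function.ne_iff.mp hv0
  rw [pi_eq_sum_univ' x]
  refine W.sum_mem fun j _ => W.smul_mem _ ?_
  have := W.smul_mem (v i)⁻¹ (hall (Matrix.single j i 1) v hv)
  convert this using 1
  ext l
  simp [Matrix.single_mulVec, Function.update_apply, Pi.single_apply]
  split <;> simp [inv_mul_cancel₀ (show v i ≠ 0 by simpa using hi)]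

/-- An irreducible group of which some normal subgroup does not span. -/
theorem not_full_cases [Fintype F] (hn : 0 < n) {H N : Subgroup (GL (Fin n) F)}
    (hirr : ActsIrreducibly (matrixSet H)) (hnorm : ∀ h ∈ H, ∀ x ∈ N, h * x * h⁻¹ ∈ N)
    (hN0 : ¬ N ≤ scalars (Fin n) F) (hfull : algOf N ≠ ⊤) :
    (∃ (t m : ℕ) (D : Fin t → Submodule F (Fin n → F)), IsMDecomposition m D ∧
        H ≤ decompositionStabilizer D) ∨
    (∃ (r : ℕ) (K : Subalgebra F (Mat n F)), r.Prime ∧ IsFieldSubalgebra r K ∧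
        H ≤ subalgebraNormalizer K) ∨
    (∃ (n₁ n₂ : ℕ) (e : Fin n ≃ Fin n₁ × Fin n₂) (P : GL (Fin n) F), 2 ≤ n₁ ∧ 2 ≤ n₂ ∧
        H ≤ tensorProductSubgroup n₁ n₂ e P) := by
  classical
  rcases centre_trichotomy hn hirr (algOf_normalised hnorm) with
    ⟨t, m, D, hD, hle, -⟩ | ⟨r, K, hr, hK, -, hle⟩ | ⟨m, Φ, hm, hinj, hrange⟩
  · exact .inl ⟨t, m, D, hD, hle⟩
  · exact .inr (.inl ⟨r, K, hr, hK, hle⟩)
  haveI : NeZero m := ⟨hm.ne'⟩
  obtain ⟨k, e, P, hP⟩ := exists_std Φ
  have hcard : m * k = n := by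
    have := Fintype.card_congr e
    rw [Fintype.card_prod, Fintype.card_fin, Fintype.card_fin, Fintype.card_fin] at this
    exact this.symm
  have hm1 : m ≠ 1 := by
    rintro rfl
    refine hN0 fun x hx => ?_
    obtain ⟨X, hX⟩ : (x : Mat n F) ∈ Φ.range := hrange ▸ mem_algOf hx
    have hX1 : X = X 0 0 • (1 : Mat 1 F) := by
      ext i j
      obtain rfl : i = 0 := Subsingleton.elim _ _
      obtain rfl : j = 0 := Subsingleton.elim _ _
      simp
    refine mem_scalars_of_eq hn (c := X 0 0) ?_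
    rw [← hX]
    show Φ X = _
    conv_lhs => rw [hX1, map_smul, map_one]
  have hk1 : k ≠ 1 := by
    intro hk
    apply hfull
    rw [← hrange, AlgHom.range_eq_top]
    refine (LinearMap.injective_iff_surjective_of_finrank_eq_finrank (f := Φ.toLinearMap) ?_).mp hinj
    rw [Module.finrank_matrix, Module.finrank_matrix, Fintype.card_fin, Fintype.card_fin, ← hcard,
      hk, mul_one]
  have hk0 : 0 < k := k_pos (e := e) hn
  refine .inr (.inr ⟨m, k, e, P, by omega, by omega, fun h hh => mem_tensor hm hn hP fun X => ?_⟩)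
  have hmem : conjHom h (Φ X) ∈ algOf N :=
    algOf_normalised hnorm h hh _ (hrange ▸ ⟨X, rfl⟩)
  obtain ⟨Y, hY⟩ : conjHom h (Φ X) ∈ Φ.range := hrange ▸ hmem
  exact ⟨Y, hY.symm⟩

/-- Every non-scalar normal subgroup spans. -/
def AllFull (H : Subgroup (GL (Fin n) F)) : Prop :=
  ∀ N ≤ H, (∀ h ∈ H, ∀ x ∈ N, h * x * h⁻¹ ∈ N) → ¬ N ≤ scalars (Fin n) F → algOf N = ⊤

theorem AllFull.allNormal {H : Subgroup (GL (Fin n) F)} (hn : 0 < n) (hH : AllFull H) :
    ∀ N ≤ H, (∀ h ∈ H, ∀ x ∈ N, h * x * h⁻¹ ∈ N) → ¬ N ≤ scalars (Fin n) F →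
      ActsAbsolutelyIrreducibly (matrixSet N) :=
  fun N h1 h2 h3 => full_absIrred hn (hH N h1 h2 h3)

end CfsgLib.Classical.AschGen
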