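import Cfsg.Agent.Lib.Classical.AschGen.Pure
import Cfsg.Agent.Lib.Classical.AschPrime.AlmostSimple

/-!
# A perfect minimal normal subgroup: simple modulo scalars, or a tensor power
-/

set_option autoImplicit false
set_option linter.unusedSectionVars false

namespace CfsgLib.Classical.AschGen

open Matrix Cfsg Cfsg.Geo CfsgLib.Classical.AschPrime
open scoped MatrixGroups Kronecker commutatorElement

variable {F : Type*} [Field F] {n m t : ℕ}

theorem algOf_conj (h : GL (Fin n) F) (N : Subgroup (GL (Fin n) F)) :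
    algOf (N.map (MulAut.conj h).toMonoidHom) = (algOf N).map (conjHom h) := by
  rw [algOf, algOf, AlgHom.map_adjoin]
  congr 1
  rw [matrixSet, matrixSet, Subgroup.coe_map, Set.image_image, Set.image_image]
  refine Set.image_congr fun x _ => ?_
  simp [conjHom_apply]

theorem commute_algOf {A B : Subgroup (GL (Fin n) F)} (hc : ∀ a ∈ A, ∀ b ∈ B, a * b = b * a)
    {x : Mat n F} (hx : x ∈ algOf A) {y : Mat n F} (hy : y ∈ algOf B) : Commute x y := by
  have h1 : ∀ b ∈ B, Commute x (b : Mat n F) := by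
    intro b hb
    have hle : algOf A ≤ Subalgebra.centralizer F {(b : Mat n F)} := Algebra.adjoin_le (by
      rintro _ ⟨a, ha, rfl⟩
      rw [SetLike.mem_coe, Subalgebra.mem_centralizer_iff]
      rintro _ rfl
      exact (congrArg Units.val (hc a ha b hb)).symm)
    have := hle hx
    rw [Subalgebra.mem_centralizer_iff] at this
    exact (this _ rfl).symm
  have hle : algOf B ≤ Subalgebra.centralizer F {x} := Algebra.adjoin_le (by
    rintro _ ⟨b, hb, rfl⟩
    rw [SetLike.mem_coe, Subalgebra.mem_centralizer_iff]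
    rintro _ rfl
    exact h1 b hb)
  have := hle hy
  rw [Subalgebra.mem_centralizer_iff] at this
  exact this _ rfl

theorem pureT_smul (c : Fin t → F) (a : Fin t → Mat m F) :
    pureT (fun i => c i • a i) = (∏ i, c i) • pureT a := by
  ext x y
  simp [pureT_apply, Finset.prod_mul_distrib]

theorem scalars_le_wreath (ht : 0 < t) (e : Fin n ≃ (Fin t → Fin m)) (P : GL (Fin n) F) :
    scalars (Fin n) F ≤ tensorWreathSubgroup m t e P := by
  classical
  intro z hz
  obtain ⟨c, hc⟩ := (mem_scalars_iff z).mp hz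
  let cs : Fin t → Fˣ := Pi.mulSingle ⟨0, ht⟩ c
  let s : Fin t → GL (Fin m) F := fun i =>
    Units.map (Matrix.scalar (Fin m) : F →+* Mat m F).toMonoidHom (cs i)
  have hs : (pureUnit s : Matrix (Fin t → Fin m) (Fin t → Fin m) F) = (c : F) • 1 := by
    show pureT _ = _
    rw [show (fun i => (s i : Mat m F)) = fun i => (cs i : F) • (1 : Fin t → Mat m F) i by
      funext i; simp [s, Matrix.smul_one_eq_diagonal], pureT_smul, pureT_one]
    congr 1
    rw [Finset.prod_eq_single ⟨0, ht⟩ (fun i _ hi => by simp [cs, Pi.mulSingle_eq_of_ne hi])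
      (fun h => absurd (Finset.mem_univ _) h)]
    simp [cs]
  refine Subgroup.mem_map.mpr ⟨glReindex e.symm (pureUnit s),
    Subgroup.mem_map_of_mem _ (Subgroup.subset_closure (Or.inl (pureUnit_isPure s))), ?_⟩
  refine Units.ext ?_
  show (P : Mat n F) * Matrix.reindex e.symm e.symm (pureUnit s : Matrix _ _ F) *
    ((P⁻¹ : GL (Fin n) F) : Mat n F) = (z : Mat n F)
  rw [hs, hc]
  have e1 : Matrix.reindex e.symm e.symm ((c : F) • (1 : Matrix (Fin t → Fin m) (Fin t → Fin m) F)) =
      (c : F) • (1 : Mat n F) := by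
    ext i j
    simp [Matrix.one_apply]
  rw [e1, Matrix.mul_smul, mul_one, Matrix.smul_mul, Units.mul_inv]

theorem tensor_power_data [Finite F] (hn : 0 < n) {H M : Subgroup (GL (Fin n) F)} (hall : AllFull H)
    (hM : M ≤ H) (hMn : ∀ h ∈ H, ∀ x ∈ M, h * x * h⁻¹ ∈ M) (hM0 : ¬ M ≤ scalars (Fin n) F)
    (hmin : ∀ L ≤ M, (∀ h ∈ H, ∀ x ∈ L, h * x * h⁻¹ ∈ L) → ¬ L ≤ scalars (Fin n) F → L = M)
    (hperf : ⁅M, M⁆ = M) :
    (∀ L ≤ M, (∀ g ∈ M, ∀ x ∈ L, g * x * g⁻¹ ∈ L) → ¬ L ≤ scalars (Fin n) F → L = M) ∨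
      ∃ (m t : ℕ) (e : Fin n ≃ (Fin t → Fin m)) (P : GL (Fin n) F),
        2 ≤ m ∧ 2 ≤ t ∧ H ≤ tensorWreathSubgroup m t e P ∧
        ∃ (N : Subgroup (GL (Fin n) F)) (φ₀ : Mat m F →ₐ[F] Mat n F) (g : Fin t → GL (Fin n) F),
          N ≤ M ∧ ⁅N, N⁆ = N ∧ ¬ N ≤ scalars (Fin n) F ∧ Function.Injective φ₀ ∧ φ₀.range = algOf N ∧
          (∀ i, g i ∈ H) ∧ ∀ i X, conjHom (g i) (φ₀ X) =
            (P : Mat n F) * Matrix.reindex e.symm e.symm (emb i X) *
              ((P⁻¹ : GL (Fin n) F) : Mat n F) := by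
  classical
  have hfull := hall M hM hMn hM0
  have hirrM := (full_absIrred hn hfull).1
  have hex : ∃ d, ∃ L ≤ M, (∀ g ∈ M, ∀ x ∈ L, g * x * g⁻¹ ∈ L) ∧ ¬ L ≤ scalars (Fin n) F ∧
      Nat.card L = d :=
    ⟨_, M, le_rfl, fun g hg x hx => M.mul_mem (M.mul_mem hg hx) (M.inv_mem hg), hM0, rfl⟩
  obtain ⟨N, hNM, hNn, hN0, hNd⟩ := Nat.find_spec hex
  have hmin' : ∀ L ≤ M, (∀ g ∈ M, ∀ x ∈ L, g * x * g⁻¹ ∈ L) → ¬ L ≤ scalars (Fin n) F →
      Nat.card N ≤ Nat.card L := fun L h1 h2 h3 =>
    hNd ▸ Nat.find_min' hex ⟨L, h1, h2, h3, rfl⟩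
  let C : H → Subgroup (GL (Fin n) F) := fun h => N.map (MulAut.conj h.1).toMonoidHom
  have hCmem : ∀ (h : H) x, x ∈ C h ↔ h.1⁻¹ * x * h.1 ∈ N := by
    intro h x
    refine ⟨?_, fun hx => ⟨_, hx, by simp [mul_assoc]⟩⟩
    rintro ⟨y, hy, rfl⟩
    simpa [mul_assoc] using hy
  have hC1 : C 1 = N := by ext x; rw [hCmem]; simp
  have hCmul : ∀ g h : H, C (g * h) = (C h).map (MulAut.conj g.1).toMonoidHom := by
    intro g h
    show N.map _ = (N.map _).map _
    rw [Subgroup.map_map]
    congr 1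
    ext x
    simp [mul_assoc]
  by_cases hfix : ∀ h : H, C h = N
  · left
    have hNeq : N = M := by
      refine hmin N hNM (fun g hg x hx => ?_) hN0
      have : g * x * g⁻¹ ∈ C ⟨g, hg⟩ := Subgroup.mem_map_of_mem _ hx
      rwa [hfix] at this
    exact fun L h1 h2 h3 => Subgroup.eq_of_le_of_card_ge h1 (hNeq ▸ hmin' L h1 h2 h3)
  right
  push Not at hfix
  obtain ⟨h₁, hh₁⟩ := hfix
  have hCcard : ∀ h, Nat.card (C h) = Nat.card N := fun h =>
    Subgroup.card_map_of_injective (MulAut.conj h.1).injective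
  have hCM : ∀ h, C h ≤ M := by
    rintro h _ ⟨y, hy, rfl⟩; exact hMn h.1 h.2 y (hNM hy)
  have hCn : ∀ h, ∀ g ∈ M, ∀ x ∈ C h, g * x * g⁻¹ ∈ C h := by
    intro h g hg x hx
    rw [hCmem] at hx ⊢
    have hg' : h.1⁻¹ * g * h.1 ∈ M := by simpa using hMn _ (H.inv_mem h.2) g hg
    simpa [mul_assoc] using hNn _ hg' _ hx
  have hC0 : ∀ h, ¬ C h ≤ scalars (Fin n) F := fun h hle => hN0 fun x hx => by
    have := scalars_normal.conj_mem _ (hle (Subgroup.mem_map_of_mem _ hx : _ ∈ C h)) h.1⁻¹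
    simpa [mul_assoc] using this
  have hdis : ∀ h h', C h ≠ C h' → ⁅C h, C h'⁆ ≤ scalars (Fin n) F := by
    intro h h' hne
    have hle : ⁅C h, C h'⁆ ≤ C h ⊓ C h' := by
      refine Subgroup.commutator_le.mpr fun a ha b hb => ⟨?_, ?_⟩
      · have := hCn h b (hCM h' hb) a⁻¹ ((C h).inv_mem ha)
        simpa [commutatorElement_def, mul_assoc] using (C h).mul_mem ha this
      · have := hCn h' a (hCM h ha) b hb
        simpa [commutatorElement_def, mul_assoc] using (C h').mul_mem this ((C h').inv_mem hb)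
    by_contra hsc
    have hge := hmin' (C h ⊓ C h') (inf_le_left.trans (hCM h))
      (fun g hg x hx => ⟨hCn h g hg x hx.1, hCn h' g hg x hx.2⟩) fun e => hsc (hle.trans e)
    have e1 : C h ⊓ C h' = C h := Subgroup.eq_of_le_of_card_ge inf_le_left (by rw [hCcard]; exact hge)
    have e2 : C h ⊓ C h' = C h' :=
      Subgroup.eq_of_le_of_card_ge inf_le_right (by rw [hCcard]; exact hge)
    exact hne (e1.symm.trans e2)
  have hgen : ⨆ h, C h = M := by
    refine hmin _ (iSup_le hCM) (fun g hg x hx => ?_) fun e => hC0 1 ((le_iSup C 1).trans e)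
    induction hx using Subgroup.iSup_induction' with
    | hp h x hx =>
      refine Subgroup.mem_iSup_of_mem (⟨g, hg⟩ * h) ?_
      rw [hCmul]
      exact Subgroup.mem_map_of_mem _ hx
    | h1 => simp
    | hmul a b _ _ iha ihb =>
      have : g * (a * b) * g⁻¹ = g * a * g⁻¹ * (g * b * g⁻¹) := by group
      rw [this]; exact mul_mem iha ihb
  have hNperf : ⁅N, N⁆ = N := by
    have hle : ⁅N, N⁆ ≤ N := Subgroup.commutator_le_self N
    refine Subgroup.eq_of_le_of_card_ge hle (hmin' _ (hle.trans hNM)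
      (fun g hg => conj_commutator_mem (hNn g hg)) fun hsc => ?_)
    let π := QuotientGroup.mk' (scalars (Fin n) F)
    have hcomm : ∀ h h', (C h).map π ≤ Subgroup.centralizer ((C h').map π : Set _) := by
      intro h h'
      rw [← Subgroup.commutator_eq_bot_iff_le_centralizer, ← Subgroup.map_commutator,
        Subgroup.map_eq_bot_iff, QuotientGroup.ker_mk']
      by_cases e : C h = C h'
      · rw [e, ← Subgroup.map_commutator]
        rintro _ ⟨y, hy, rfl⟩
        exact scalars_normal.conj_mem _ (hsc hy) h'.1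
      · exact hdis h h' e
    have hMc : M.map π ≤ Subgroup.centralizer (M.map π : Set _) := by
      rw [← hgen, Subgroup.map_iSup]
      exact iSup_le fun h => Subgroup.le_centralizer_iff.mp (iSup_le fun h' => hcomm h' h)
    refine hM0 ?_
    rw [← hperf]
    rw [← Subgroup.commutator_eq_bot_iff_le_centralizer, ← Subgroup.map_commutator,
      Subgroup.map_eq_bot_iff, QuotientGroup.ker_mk'] at hMc
    exact hMc
  have hcom : ∀ h h', C h ≠ C h' → ∀ a ∈ C h, ∀ b ∈ C h', a * b = b * a := by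
    intro h h' hne a ha b hb
    have hperf' : ⁅C h', C h'⁆ = C h' := by
      show ⁅N.map _, N.map _⁆ = N.map _
      rw [← Subgroup.map_commutator, hNperf]
    exact commute_commutator (c := a) (N := C h')
      (fun y hy => hdis h h' hne (Subgroup.commutator_mem_commutator ha hy)) b (hperf'.symm ▸ hb)
  -- the span of one factor
  have hsimpN : IsSemisimpleRing (algOf N) := isSemisimple hirrM (algOf_normalised hNn)
  have hZ : ∀ z ∈ algOf N, (∀ a ∈ algOf N, z * a = a * z) → ∃ c : F, z = c • 1 := by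
    intro z hz hza
    refine full_commutant hn hfull fun x hx => ?_
    rw [← hgen] at hx
    induction hx using Subgroup.iSup_induction' with
    | hp h x hx =>
      by_cases e : C h = C 1
      · exact hza _ (mem_algOf (by rw [← hC1, ← e]; exact hx))
      · exact (commute_algOf (hcom 1 h (Ne.symm e)) (hC1.symm ▸ hz) (mem_algOf hx)).eq
    | h1 => simp
    | hmul a b _ _ iha ihb => rw [Units.val_mul, ← mul_assoc, iha, mul_assoc, ihb, mul_assoc]
  obtain ⟨m, φ₀, hm, hφ₀, hrange₀⟩ := exists_matrixHom hn hZ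
  haveI : NeZero m := ⟨hm.ne'⟩
  have hm2 : 2 ≤ m := by
    by_contra h2
    obtain rfl : m = 1 := by omega
    refine hN0 fun x hx => ?_
    obtain ⟨X, hX⟩ : (x : Mat n F) ∈ φ₀.range := hrange₀ ▸ mem_algOf hx
    have hX1 : X = X 0 0 • (1 : Mat 1 F) := by
      ext i j
      obtain rfl : i = 0 := Subsingleton.elim _ _
      obtain rfl : j = 0 := Subsingleton.elim _ _
      simp
    refine mem_scalars_of_eq hn (c := X 0 0) ?_
    rw [← hX]
    show φ₀ X = _
    conv_lhs => rw [hX1, map_smul, map_one]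
  -- the distinct factors
  haveI : Finite (Set.range C) := Set.finite_range C
  obtain ⟨t, ⟨eS⟩⟩ := Finite.exists_equiv_fin (Set.range C)
  have ht : 2 ≤ t := by
    have h1 : (eS ⟨C h₁, h₁, rfl⟩) ≠ eS ⟨C 1, 1, rfl⟩ := fun e => hh₁ (by
      have := congrArg Subtype.val (eS.injective e)
      exact this.trans hC1)
    by_contra h2
    exact h1 (Fin.ext (by
      have := (eS ⟨C h₁, h₁, rfl⟩).2
      have := (eS ⟨C 1, 1, rfl⟩).2
      omega))
  have hg : ∀ i, ∃ g : H, C g = (eS.symm i : Subgroup _) := fun i => (eS.symm i).2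
  choose g hg using hg
  have hginj : ∀ i j, i ≠ j → C (g i) ≠ C (g j) := fun i j hij e => hij
    (eS.symm.injective (Subtype.ext (by rw [← hg, ← hg, e])))
  let φ : Fin t → (Mat m F →ₐ[F] Mat n F) := fun i => (conjHom (g i).1).comp φ₀
  have hconj_inj : ∀ h : GL (Fin n) F, Function.Injective (conjHom h) := fun h x y e => by
    have := congrArg (conjHom h⁻¹) e
    simpa [conjHom_apply, mul_assoc] using this
  have hφinj : ∀ i, Function.Injective (φ i) := fun i => (hconj_inj _).comp hφ₀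
  have hφrange : ∀ i, (φ i).range = algOf (C (g i)) := fun i => by
    show ((conjHom (g i).1).comp φ₀).range = algOf (N.map _)
    rw [AlgHom.range_comp, hrange₀, algOf_conj]
  have hφc : ∀ i j, i ≠ j → ∀ X Y, Commute (φ i X) (φ j Y) := fun i j hij X Y =>
    commute_algOf (hcom _ _ (hginj i j hij)) (hφrange i ▸ ⟨X, rfl⟩) (hφrange j ▸ ⟨Y, rfl⟩)
  obtain ⟨Φ, hΦ, -⟩ := exists_combine t φ hφc
  have hidx : ∀ h, ∃ i, C (g i) = C h := fun h => ⟨eS ⟨C h, h, rfl⟩, by rw [hg]; simp⟩
  have hMrange : ∀ x ∈ M, (x : Mat n F) ∈ Φ.range := by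
    intro x hx
    rw [← hgen] at hx
    induction hx using Subgroup.iSup_induction' with
    | hp h x hx =>
      obtain ⟨i, hi⟩ := hidx h
      obtain ⟨X, hX⟩ : (x : Mat n F) ∈ (φ i).range := hφrange i ▸ mem_algOf (hi.symm ▸ hx)
      exact ⟨emb i X, by rw [← hX]; exact hΦ i X⟩
    | h1 => exact Units.val_one (α := Mat n F) ▸ one_mem _
    | hmul a b _ _ iha ihb => rw [Units.val_mul]; exact mul_mem iha ihb
  have hsurj : Φ.range = ⊤ := by
    refine top_le_iff.mp (hfull ▸ Algebra.adjoin_le ?_)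
    rintro _ ⟨x, hx, rfl⟩
    exact hMrange x hx
  haveI : Nonempty (Fin t → Fin m) := ⟨fun _ => 0⟩
  obtain ⟨k, e, P, hP⟩ := exists_std Φ
  have hk0 : 0 < k := k_pos (e := e) hn
  have hΦinj : Function.Injective Φ := fun X Y hXY => by
    rw [hP, hP] at hXY
    exact stdHom_injective hk0 (hconj_inj P hXY)
  have hk : k = 1 := by
    have h1 := (LinearEquiv.ofBijective Φ.toLinearMap
      ⟨hΦinj, (AlgHom.range_eq_top Φ).mp hsurj⟩).finrank_eq
    have h2 := Fintype.card_congr e
    simp only [Module.finrank_matrix, Module.finrank_self, Fintype.card_fin, Fintype.card_prod,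
      mul_one] at h1 h2
    rw [h2] at h1
    have hκ : 0 < Fintype.card (Fin t → Fin m) := Fintype.card_pos
    exact (Nat.mul_eq_left hκ.ne').mp (Nat.mul_self_inj.mp h1).symm
  subst hk
  let e' : Fin n ≃ (Fin t → Fin m) := e.trans (Equiv.prodUnique _ _)
  have hP' : ∀ X, Φ X =
      (P : Mat n F) * Matrix.reindex e'.symm e'.symm X * ((P⁻¹ : GL (Fin n) F) : Mat n F) := by
    intro X
    rw [hP]
    congr 2
    ext i j
    simp only [stdHom_apply, e', Matrix.reindex_apply, Matrix.submatrix_apply, Equiv.symm_symm,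
      Equiv.trans_apply]
    rw [Subsingleton.elim (e i).2 (e j).2, Matrix.one_apply_eq, mul_one]
    rfl
  refine ⟨m, t, e', P, hm2, ht, fun h hh => ?_, N, φ₀, fun i => (g i).1, hNM, hNperf, hN0, hφ₀,
    hrange₀, fun i => (g i).2, fun i X => by rw [← hP', hΦ]; rfl⟩
  -- the permutation of the factors
  have hσ : ∀ i, ∃ j, C (g j) = C (⟨h, hh⟩ * g i) := fun i => hidx _
  choose σ₀ hσ₀ using hσ
  have hσinj : Function.Injective σ₀ := fun i j e => by
    have e1 := hσ₀ i
    rw [e, hσ₀ j, hCmul, hCmul] at e1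
    by_contra hne
    exact hginj i j hne (Subgroup.map_injective (MulAut.conj h).injective e1).symm
  let σ : Equiv.Perm (Fin t) := Equiv.ofBijective σ₀ (Finite.injective_iff_bijective.mp hσinj)
  have hθ : ∀ i, ∃ a : GL (Fin m) F, ∀ X, conjHom h (φ i X) =
      φ (σ i) ((a : Mat m F) * X * ((a⁻¹ : GL (Fin m) F) : Mat m F)) := by
    intro i
    have hmem : ∀ X, ((conjHom h).comp (φ i)) X ∈ (φ (σ i)).range := fun X => by
      rw [hφrange, show C (g (σ i)) = _ from hσ₀ i, hCmul, algOf_conj]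
      exact ⟨φ i X, hφrange i ▸ ⟨X, rfl⟩, rfl⟩
    let θ : Mat m F →ₐ[F] Mat m F :=
      (AlgEquiv.ofInjective (φ (σ i)) (hφinj _)).symm.toAlgHom.comp
        (((conjHom h).comp (φ i)).codRestrict _ hmem)
    obtain ⟨a, ha⟩ := exists_inner hm θ
    refine ⟨a, fun X => ?_⟩
    rw [← ha]
    have := congrArg Subtype.val ((AlgEquiv.ofInjective (φ (σ i)) (hφinj _)).apply_symm_apply
      (((conjHom h).comp (φ i)).codRestrict _ hmem X))
    exact this.symm
  choose a ha using hθ
  set w : GL (Fin t → Fin m) F := permUnit σ * pureUnit a with hw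
  set u : GL (Fin n) F := P * glReindex e'.symm w * P⁻¹ with hu
  have huval : (u : Mat n F) = Φ (w : Matrix _ _ F) := by
    rw [hP', hu, Units.val_mul, Units.val_mul]
    rfl
  have hue : ∀ i X, (u : Mat n F) * φ i X =
      φ (σ i) ((a i : Mat m F) * X * (((a i)⁻¹ : GL (Fin m) F) : Mat m F)) * u := by
    intro i X
    rw [← hΦ, ← hΦ, huval, ← map_mul, ← map_mul, hw, Units.val_mul, mul_assoc, pure_emb,
      ← mul_assoc, perm_emb, mul_assoc]
  have humem : u ∈ tensorWreathSubgroup m t e' P := by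
    refine Subgroup.mem_map.mpr ⟨glReindex e'.symm w, Subgroup.mem_map_of_mem _ ?_, rfl⟩
    exact mul_mem (Subgroup.subset_closure (Or.inr (permUnit_isPerm σ)))
      (Subgroup.subset_closure (Or.inl (pureUnit_isPure a)))
  set z : Mat n F := ((u⁻¹ * h : GL (Fin n) F) : Mat n F) with hz
  have hzc : ∀ i X, z * φ i X = φ i X * z := by
    intro i X
    have e1 : (h : Mat n F) * φ i X =
        φ (σ i) ((a i : Mat m F) * X * (((a i)⁻¹ : GL (Fin m) F) : Mat m F)) * h := by
      rw [← ha, conjHom_apply, Units.inv_mul_cancel_right]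
    rw [hz, Units.val_mul, mul_assoc, e1]
    have e2 : ∀ Y : Mat n F, ((u⁻¹ : GL (Fin n) F) : Mat n F) *
        (φ (σ i) ((a i : Mat m F) * X * (((a i)⁻¹ : GL (Fin m) F) : Mat m F)) * Y) =
        φ i X * (((u⁻¹ : GL (Fin n) F) : Mat n F) * Y) := by
      intro Y
      have := congrArg (fun Z => ((u⁻¹ : GL (Fin n) F) : Mat n F) *
        (Z * (((u⁻¹ : GL (Fin n) F) : Mat n F) * Y))) (hue i X)
      simp only [mul_assoc, Units.mul_inv_cancel_left, Units.inv_mul_cancel_left] at this
      simpa [mul_assoc] using this.symm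
    exact e2 h
  obtain ⟨c, hc⟩ := full_commutant hn hfull (M := z) fun x hx => by
    obtain ⟨X, hX⟩ := hMrange x hx
    rw [← hX]
    show Commute z (Φ X)
    rw [hom_eq_sum]
    refine Commute.sum_right _ _ _ fun p _ => Commute.sum_right _ _ _ fun q _ => ?_
    refine Commute.smul_right ?_ _
    have e1 : Matrix.single p q (1 : F) = pureT fun i => Matrix.single (p i) (q i) (1 : F) := by
      ext x y
      simp only [pureT_apply, Matrix.single_apply]
      by_cases hxy : p = x ∧ q = y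
      · obtain ⟨rfl, rfl⟩ := hxy; simp
      · rw [if_neg hxy]
        obtain ⟨i, hi⟩ : ∃ i, ¬ (p i = x i ∧ q i = y i) := by
          by_contra hall'
          push Not at hall'
          exact hxy ⟨funext fun i => (hall' i).1, funext fun i => (hall' i).2⟩
        exact (Finset.prod_eq_zero (Finset.mem_univ i) (if_neg hi)).symm
    have e2 : ∀ b : Fin t → Mat m F, Commute z (Φ (pureT b)) := by
      intro b
      suffices hs : ∀ s : Finset (Fin t), Commute z (Φ (pureT fun i => if i ∈ s then b i else 1)) by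
        simpa using hs Finset.univ
      intro s
      induction s using Finset.induction_on with
      | empty =>
        simp only [Finset.notMem_empty, if_false]
        rw [show (fun _ => 1 : Fin t → Mat m F) = 1 from rfl, pureT_one, map_one]
        exact Commute.one_right z
      | insert i s his ih =>
        have e3 : (fun j => if j ∈ insert i s then b j else 1) =
            Pi.mulSingle i (b i) * fun j => if j ∈ s then b j else 1 := by
          funext j
          by_cases hj : j = i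
          · subst hj; simp [his]
          · simp [hj, Pi.mulSingle_eq_of_ne hj]
        rw [e3, pureT_mul, map_mul]
        refine Commute.mul_right ?_ ih
        rw [← emb, hΦ]
        exact hzc i (b i)
    rw [e1]
    exact e2 _
  have hzmem : u⁻¹ * h ∈ scalars (Fin n) F := mem_scalars_of_eq hn hc
  have := mul_mem humem (scalars_le_wreath (by omega : 0 < t) e' P hzmem)
  rwa [mul_inv_cancel_left] at this

theorem tensor_power [Finite F] (hn : 0 < n) {H M : Subgroup (GL (Fin n) F)} (hall : AllFull H)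
    (hM : M ≤ H) (hMn : ∀ h ∈ H, ∀ x ∈ M, h * x * h⁻¹ ∈ M) (hM0 : ¬ M ≤ scalars (Fin n) F)
    (hmin : ∀ L ≤ M, (∀ h ∈ H, ∀ x ∈ L, h * x * h⁻¹ ∈ L) → ¬ L ≤ scalars (Fin n) F → L = M)
    (hperf : ⁅M, M⁆ = M) :
    (∀ L ≤ M, (∀ g ∈ M, ∀ x ∈ L, g * x * g⁻¹ ∈ L) → ¬ L ≤ scalars (Fin n) F → L = M) ∨
      ∃ (m t : ℕ) (e : Fin n ≃ (Fin t → Fin m)) (P : GL (Fin n) F),
        2 ≤ m ∧ 2 ≤ t ∧ H ≤ tensorWreathSubgroup m t e P := by
  rcases tensor_power_data hn hall hM hMn hM0 hmin hperf with h | ⟨m, t, e, P, hm, ht, hle, -⟩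
  · exact .inl h
  · exact .inr ⟨m, t, e, P, hm, ht, hle⟩

end CfsgLib.Classical.AschGen
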