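import Cfsg.Agent.Lib.Classical.AschGen.SymType

/-!
# Where a subgroup of a general linear group can lie
-/

set_option autoImplicit false

namespace CfsgLib.Classical.AschGen

open Matrix Cfsg Cfsg.Geo CfsgLib.Classical.AschPrime
open scoped MatrixGroups

variable {F : Type*} [Field F] [Fintype F] {n : ℕ}

/-- Contained in the similarity group of a form. -/
def InFormClass (H : Subgroup (GL (Fin n) F)) : Prop :=
  (∃ f : (Fin n → F) → (Fin n → F) → F, IsSymplecticForm f ∧ Even n ∧ 4 ≤ n ∧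
      H ≤ similarityGroup f) ∨
  (∃ (σ : F ≃+* F) (f : (Fin n → F) → (Fin n → F) → F), IsUnitaryForm σ f ∧ 3 ≤ n ∧
      H ≤ similarityGroup f) ∨
  (∃ Q : (Fin n → F) → F, IsNondegenerateQuadraticForm Q ∧ Odd (Fintype.card F) ∧ 3 ≤ n ∧
      H ≤ quadSimilarityGroup Q)

/-- Where a subgroup can lie. -/
def Outcome (H : Subgroup (GL (Fin n) F)) : Prop :=
  (∃ W : Submodule F (Fin n → F), W ≠ ⊥ ∧ W ≠ ⊤ ∧ H ≤ subspaceStabilizer W) ∨
  (∃ (t m : ℕ) (D : Fin t → Submodule F (Fin n → F)), IsMDecomposition m D ∧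
      H ≤ decompositionStabilizer D) ∨
  (∃ (r : ℕ) (K : Subalgebra F (Mat n F)), r.Prime ∧ IsFieldSubalgebra r K ∧
      H ≤ subalgebraNormalizer K) ∨
  (∃ (n₁ n₂ : ℕ) (e : Fin n ≃ Fin n₁ × Fin n₂) (P : GL (Fin n) F), 2 ≤ n₁ ∧ n₁ < n₂ ∧
      H ≤ tensorProductSubgroup n₁ n₂ e P) ∨
  (∃ (F₀ : Subfield F) (l : ℕ) (P : GL (Fin n) F), l.Prime ∧ Fintype.card F = Nat.card F₀ ^ l ∧
      H ≤ subfieldSubgroup F₀ P) ∨
  (∃ (r m : ℕ) (R : Subgroup (GL (Fin n) F)), 1 ≤ m ∧ n = r ^ m ∧ SymType r R ∧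
      IsLinearSymplecticTypeData r R ∧ H ≤ subgroupNormalizer R) ∨
  (∃ (m t : ℕ) (e : Fin n ≃ (Fin t → Fin m)) (P : GL (Fin n) F), 3 ≤ m ∧ 2 ≤ t ∧
      H ≤ tensorWreathSubgroup m t e P) ∨
  InFormClass H ∨
  InLinearResidualClass H

end CfsgLib.Classical.AschGen
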