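import Cfsg.Agent.Lib.Classical.AschGen.Units

/-!
# The normaliser of a matrix subalgebra is a tensor stabiliser
-/

set_option autoImplicit false
set_option linter.unusedSectionVars false

namespace CfsgLib.Classical.AschGen

open Matrix Cfsg Cfsg.Geo CfsgLib.Classical.AschPrime
open scoped MatrixGroups Kronecker

variable {F : Type*} [Field F] {n m k : ℕ}
variable {κ : Type*} [Fintype κ] [DecidableEq κ]

theorem stdHom_injective {e : Fin n ≃ κ × Fin k} (hk : 0 < k) :
    Function.Injective (stdHom (F := F) e) := by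
  intro X Y h
  ext a b
  have := congrFun (congrFun h (e.symm (a, ⟨0, hk⟩))) (e.symm (b, ⟨0, hk⟩))
  simpa [stdHom_symm] using this

theorem k_pos {e : Fin n ≃ κ × Fin k} (hn : 0 < n) : 0 < k :=
  lt_of_le_of_lt (Nat.zero_le _) (e ⟨0, hn⟩).2.2

/-- A homomorphism from a matrix algebra to one of the same size is inner. -/
theorem exists_inner (hm : 0 < m) (Φ : Mat m F →ₐ[F] Mat m F) :
    ∃ a : GL (Fin m) F, ∀ X, Φ X = (a : Mat m F) * X * ((a⁻¹ : GL (Fin m) F) : Mat m F) := by
  classical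
  haveI : NeZero m := ⟨hm.ne'⟩
  obtain ⟨k, e, P, hP⟩ := exists_std Φ
  have hk : k = 1 := by
    have := Fintype.card_congr e
    rw [Fintype.card_prod, Fintype.card_fin, Fintype.card_fin] at this
    exact Nat.eq_of_mul_eq_mul_left hm (this.symm.trans (mul_one m).symm)
  subst hk
  -- the permutation of the coordinates
  let τ : Fin m ≃ Fin m := e.trans (Equiv.prodUnique (Fin m) (Fin 1))
  let T : Mat m F := τ.toPEquiv.toMatrix
  have hT : T * τ.symm.toPEquiv.toMatrix = 1 := by
    rw [← PEquiv.toMatrix_trans, ← Equiv.toPEquiv_trans, Equiv.self_trans_symm, Equiv.toPEquiv_refl,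
      PEquiv.toMatrix_refl]
  obtain ⟨Tu, hTu⟩ : IsUnit T := IsUnit.of_mul_eq_one _ hT
  refine ⟨P * Tu, fun X => ?_⟩
  have hstd : stdHom e X = (Tu : Mat m F) * X * ((Tu⁻¹ : GL (Fin m) F) : Mat m F) := by
    rw [Units.eq_mul_inv_iff_mul_eq, hTu, PEquiv.toMatrix_toPEquiv_mul, PEquiv.mul_toMatrix_toPEquiv]
    ext i j
    simp only [Matrix.submatrix_apply, id_eq, stdHom_apply]
    rw [show (e (τ.symm j)).1 = j from τ.apply_symm_apply j]
    rw [Subsingleton.elim (e i).2 (e (τ.symm j)).2, Matrix.one_apply_eq, mul_one]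
    rfl
  rw [hP, hstd, _root_.mul_inv_rev, Units.val_mul, Units.val_mul]
  simp only [mul_assoc]

/-- What commutes with every `X ⊗ 1` is `1 ⊗ b`. -/
theorem exists_right [Nonempty κ] {e : Fin n ≃ κ × Fin k} {Z : Mat n F}
    (hZ : ∀ X : Matrix κ κ F, Z * stdHom e X = stdHom e X * Z) :
    ∃ b : Mat k F, ∀ i j, Z i j = (1 : Matrix κ κ F) (e i).1 (e j).1 * b (e i).2 (e j).2 := by
  classical
  obtain ⟨c⟩ := ‹Nonempty κ›
  refine ⟨Matrix.of fun p q => Z (e.symm (c, p)) (e.symm (c, q)), fun i j => ?_⟩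
  obtain ⟨⟨a, p⟩, rfl⟩ := e.symm.surjective i
  obtain ⟨⟨a', q⟩, rfl⟩ := e.symm.surjective j
  rw [Matrix.of_apply, e.apply_symm_apply, e.apply_symm_apply]
  have key : ∀ x y : κ, Z (e.symm (x, p)) (e.symm (y, q)) =
      (1 : Matrix κ κ F) x y * Z (e.symm (c, p)) (e.symm (c, q)) := fun x y => by
    have h := congrFun (congrFun (hZ (Matrix.single y c 1)) (e.symm (x, p))) (e.symm (c, q))
    rw [Matrix.mul_apply, Matrix.mul_apply] at h
    rw [Finset.sum_eq_single (e.symm (y, q)) ?_ (fun h0 => absurd (Finset.mem_univ _) h0),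
      Finset.sum_eq_single (e.symm (c, p)) ?_ (fun h0 => absurd (Finset.mem_univ _) h0)] at h
    · simpa [stdHom_symm, Matrix.single_apply, Matrix.one_apply, eq_comm] using h
    · intro l _ hl
      obtain ⟨⟨l1, l2⟩, rfl⟩ := e.symm.surjective l
      simp only [stdHom_symm, Matrix.single_apply]
      by_cases h1 : y = x ∧ c = l1
      · obtain ⟨-, rfl⟩ := h1
        rw [Matrix.one_apply_ne (fun e2 : p = l2 => hl (by rw [e2])), mul_zero, zero_mul]
      · rw [if_neg h1, zero_mul, zero_mul]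
    · intro l _ hl
      obtain ⟨⟨l1, l2⟩, rfl⟩ := e.symm.surjective l
      simp only [stdHom_symm, Matrix.single_apply]
      by_cases h1 : y = l1
      · subst h1
        rw [Matrix.one_apply_ne (fun e2 : l2 = q => hl (by rw [e2])), mul_zero, mul_zero]
      · rw [if_neg fun h => h1 h.1, zero_mul, mul_zero]
  exact key a a'

/-- An element normalising a copy of a matrix algebra stabilises the tensor decomposition. -/
theorem mem_tensor (hm : 0 < m) (hn : 0 < n) {Φ : Mat m F →ₐ[F] Mat n F} {e : Fin n ≃ Fin m × Fin k}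
    {P : GL (Fin n) F}
    (hΦ : ∀ X, Φ X = (P : Mat n F) * stdHom e X * ((P⁻¹ : GL (Fin n) F) : Mat n F))
    {g : GL (Fin n) F}
    (hg : ∀ X, ∃ Y, (g : Mat n F) * Φ X * ((g⁻¹ : GL (Fin n) F) : Mat n F) = Φ Y) :
    g ∈ tensorProductSubgroup m k e P := by
  classical
  haveI : NeZero m := ⟨hm.ne'⟩
  have hk : 0 < k := k_pos (e := e) hn
  have hinj : Function.Injective Φ := fun X Y h => stdHom_injective hk (by
    rw [hΦ, hΦ] at h
    exact P.isUnit.mul_right_injective ((P⁻¹).isUnit.mul_left_injective h))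
  choose θ hθ using hg
  let θa : Mat m F →ₐ[F] Mat m F :=
    { toFun := θ
      map_one' := hinj (by rw [← hθ, map_one, mul_one, Units.mul_inv])
      map_mul' := fun X Y => hinj (by
        rw [← hθ, map_mul, map_mul, ← hθ, ← hθ]
        simp only [mul_assoc, Units.inv_mul_cancel_left])
      map_zero' := hinj (by rw [← hθ, map_zero, mul_zero, zero_mul])
      map_add' := fun X Y => hinj (by rw [← hθ, map_add, map_add, ← hθ, ← hθ, mul_add, add_mul])
      commutes' := fun c => hinj (by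
        rw [← hθ, AlgHom.commutes, ← Algebra.commutes, mul_assoc, Units.mul_inv, mul_one]) }
  obtain ⟨a, ha⟩ := exists_inner hm θa
  set A : Mat n F := stdHom e (a : Mat m F)
  set Ai : Mat n F := stdHom e ((a⁻¹ : GL (Fin m) F) : Mat m F)
  set g' : Mat n F := ((P⁻¹ : GL (Fin n) F) : Mat n F) * (g : Mat n F) * (P : Mat n F)
  have hstd : ∀ X Y : Mat m F, stdHom e X * stdHom e Y = stdHom e (X * Y) := fun X Y => by
    rw [stdHom, stdHom, stdHom, Matrix.reindex_apply, Matrix.reindex_apply, Matrix.reindex_apply,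
      Matrix.submatrix_mul_equiv, ← Matrix.mul_kronecker_mul, mul_one]
  have hstd1 : stdHom e (1 : Mat m F) = 1 := by
    rw [stdHom, Matrix.one_kronecker_one, Matrix.reindex_apply, Matrix.submatrix_one_equiv]
  have hg' : ∀ X, g' * stdHom e X =
      stdHom e ((a : Mat m F) * X * ((a⁻¹ : GL (Fin m) F) : Mat m F)) * g' := by
    intro X
    have h := hθ X
    rw [hΦ, hΦ, show θ X = _ from ha X] at h
    have h' := congrArg (fun M => ((P⁻¹ : GL (Fin n) F) : Mat n F) * M * (g : Mat n F) * (P : Mat n F)) h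
    simp only [mul_assoc, Units.inv_mul_cancel_left, Units.inv_mul, mul_one] at h'
    simpa [g', mul_assoc] using h'
  obtain ⟨b, hb⟩ := exists_right (e := e) (Z := Ai * g') (fun X => by
    rw [mul_assoc, hg', ← mul_assoc, hstd, ← mul_assoc (((a⁻¹ : GL (Fin m) F) : Mat m F)),
      Units.inv_mul_cancel_left, ← hstd, mul_assoc])
  have hgb : g' = Matrix.reindex e.symm e.symm ((a : Mat m F) ⊗ₖ b) := by
    have e1 : Ai * g' = Matrix.reindex e.symm e.symm ((1 : Mat m F) ⊗ₖ b) := Matrix.ext hb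
    calc g' = A * (Ai * g') := by rw [← mul_assoc, hstd, Units.mul_inv, hstd1, one_mul]
      _ = _ := by
        rw [e1, show A = Matrix.reindex e.symm e.symm ((a : Mat m F) ⊗ₖ (1 : Mat k F)) from rfl,
          Matrix.reindex_apply, Matrix.reindex_apply, Matrix.reindex_apply,
          Matrix.submatrix_mul_equiv, ← Matrix.mul_kronecker_mul, mul_one, one_mul]
  have hbu : IsUnit b := by
    rw [Matrix.isUnit_iff_isUnit_det, isUnit_iff_ne_zero]
    intro h0
    have hu : IsUnit g' := ((P⁻¹).isUnit.mul g.isUnit).mul P.isUnit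
    rw [hgb, Matrix.isUnit_iff_isUnit_det, Matrix.det_reindex_self, Matrix.det_kronecker, h0,
      Fintype.card_fin, Fintype.card_fin, zero_pow hm.ne', mul_zero] at hu
    exact not_isUnit_zero hu
  obtain ⟨bu, rfl⟩ := hbu
  have hkr : IsUnit ((a : Mat m F) ⊗ₖ (bu : Mat k F)) := by
    refine IsUnit.of_mul_eq_one (((a⁻¹ : GL (Fin m) F) : Mat m F) ⊗ₖ ((bu⁻¹ : GL (Fin k) F) : Mat k F)) ?_
    rw [← Matrix.mul_kronecker_mul, Units.mul_inv, Units.mul_inv, Matrix.one_kronecker_one]
  obtain ⟨h₀, hh₀⟩ := hkr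
  refine Subgroup.mem_map.mpr ⟨glReindex e.symm h₀, Subgroup.mem_map.mpr ⟨h₀, ⟨a, bu, hh₀⟩, rfl⟩,
    Units.ext ?_⟩
  show (P : Mat n F) * Matrix.reindexAlgEquiv F F e.symm (h₀ : Matrix _ _ F) *
    ((P⁻¹ : GL (Fin n) F) : Mat n F) = g
  rw [hh₀, show Matrix.reindexAlgEquiv F F e.symm ((a : Mat m F) ⊗ₖ (bu : Mat k F)) = g' from hgb.symm]
  simp [g', mul_assoc]

end CfsgLib.Classical.AschGen
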