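import Cfsg.Agent.Lib.Classical.AschGen.SymTypeForms
import Cfsg.Agent.Lib.Classical.AschGen.Realise
import Cfsg.Agent.Lib.Classical.AschGen.Outcome

/-!
# A minimal normal subgroup with central commutators: the classes it gives
-/

set_option autoImplicit false
set_option linter.unusedSectionVars false

namespace CfsgLib.Classical.AschGen

open Matrix Cfsg Cfsg.Geo CfsgLib.Classical.AschPrime
open scoped MatrixGroups

variable {F : Type*} [Field F] [Fintype F] {n r : ℕ} {R : Subgroup (GL (Fin n) F)}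

theorem dvd_succ_of_minimal {z r a : ℕ} (hr : r.Prime) (hz : z = r ∨ (z = 4 ∧ r = 2) ∨ z = 2)
    (hodd : z ≠ r ∨ r = 2 → Odd a) (hdvd : z ∣ a * a - 1) (hn : ¬ z ∣ a - 1) : z ∣ a + 1 := by
  have hsq : a * a - 1 = (a + 1) * (a - 1) := by
    rcases Nat.eq_zero_or_pos a with rfl | ha
    · rfl
    · obtain ⟨b, rfl⟩ : ∃ b, a = b + 1 := ⟨a - 1, by omega⟩
      rw [Nat.add_sub_cancel]
      refine Nat.sub_eq_of_eq_add ?_
      ring
  by_cases hzr : z = r ∧ r ≠ 2
  · obtain ⟨rfl, -⟩ := hzr
    rw [hsq] at hdvd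
    exact (hr.dvd_mul.mp hdvd).resolve_right hn
  · obtain ⟨b, rfl⟩ := hodd (by
      by_cases h2 : r = 2
      · exact .inr h2
      · exact .inl fun h => hzr ⟨h, h2⟩)
    have hz24 : z = 2 ∨ z = 4 := by
      rcases hz with h | ⟨h, -⟩ | h
      · exact .inl (by
          by_contra h2
          exact hzr ⟨h, fun e => h2 (h.trans e)⟩)
      · exact .inr h
      · exact .inl h
    rcases hz24 with rfl | rfl
    · exact ⟨b + 1, by omega⟩
    · have hb : b % 2 = 1 := by
        by_contra hb
        exact hn ⟨b / 2, by omega⟩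
      exact ⟨(b + 1) / 2, by omega⟩

theorem frob_ne {p e d : ℕ} (hp : p.Prime) (hcard : Fintype.card F = p ^ e) (hde : d < e)
    (hd : 0 < d) : ∃ x : F, x ^ p ^ d ≠ x := by
  by_contra hall
  push Not at hall
  obtain ⟨u, hu⟩ := IsCyclic.exists_ofOrder_eq_natCard (α := Fˣ)
  have h1 : u ^ (p ^ d - 1) = 1 := by
    refine Units.ext ?_
    rw [Units.val_pow_eq_pow_val, Units.val_one]
    refine mul_right_cancel₀ u.ne_zero ?_
    rw [← pow_succ, Nat.sub_add_cancel (Nat.one_le_pow _ _ hp.pos), hall, one_mul]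
  have h2 := orderOf_dvd_of_pow_eq_one h1
  rw [hu, Nat.card_units, Nat.card_eq_fintype_card, hcard] at h2
  have h3 := Nat.one_lt_pow hd.ne' hp.one_lt
  have h4 := Nat.le_of_dvd (by omega) h2
  have h5 := Nat.pow_lt_pow_right hp.one_lt hde
  omega

theorem SymType.symplecticType (hR : SymType r R) (hn : 2 ≤ n) {H : Subgroup (GL (Fin n) F)}
    (hnorm : ∀ h ∈ H, ∀ x ∈ R, h * x * h⁻¹ ∈ R)
    (hab : ∀ A ≤ R, (∀ h ∈ H, ∀ x ∈ A, h * x * h⁻¹ ∈ A) → (∀ x ∈ A, ∀ y ∈ A, x * y = y * x) →
        A ≤ scalars (Fin n) F) : IsSymplecticTypeGroup r R := by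
  classical
  refine ⟨hR.prime, hR.isPGroup, fun A hA hAc => ?_, hR.exponent_eq hn⟩
  have hle : A.map R.subtype ≤ scalars (Fin n) F := by
    refine hab _ (Subgroup.map_subtype_le A) ?_ ?_
    · rintro h hh _ ⟨a, ha, rfl⟩
      let e : R ≃* R :=
        { toFun := fun x => ⟨h * x.1 * h⁻¹, hnorm h hh x.1 x.2⟩
          invFun := fun x => ⟨h⁻¹ * x.1 * h, by simpa using hnorm h⁻¹ (H.inv_mem hh) x.1 x.2⟩
          left_inv := fun x => Subtype.ext (by simp [mul_assoc])
          right_inv := fun x => Subtype.ext (by simp [mul_assoc])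
          map_mul' := fun x y => Subtype.ext (by simp [mul_assoc]) }
      have hmem : a ∈ A.comap e.toMonoidHom := by rw [hA.fixed e]; exact ha
      exact ⟨e a, hmem, rfl⟩
    · rintro _ ⟨a, ha, rfl⟩ _ ⟨b, hb, rfl⟩
      exact congrArg (fun z : A => R.subtype z.1) (hAc.is_comm.comm ⟨a, ha⟩ ⟨b, hb⟩)
  haveI : IsCyclic (scalars (Fin n) F) :=
    isCyclic_of_surjective _
      (Units.map (Matrix.scalar (Fin n) : F →+* Mat n F).toMonoidHom).rangeRestrict_surjective
  let ι : A →* scalars (Fin n) F :=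
    { toFun := fun a => ⟨a.1.1, hle ⟨a.1, a.2, rfl⟩⟩
      map_one' := rfl
      map_mul' := fun _ _ => rfl }
  exact isCyclic_of_injective ι fun a b h => Subtype.ext (Subtype.ext (congrArg Subtype.val h :))

theorem SymType.normaliser_sim (hR : SymType r R) (hn : 0 < n) {σ : F →+* F} {G : Mat n F}
    (hGu : IsUnit G) (hG : ∀ g ∈ R, (g : Mat n F)ᵀ * G * (g : Mat n F).map σ = G)
    {h : GL (Fin n) F} (hh : ∀ x ∈ R, h * x * h⁻¹ ∈ R) :
    ∃ c : F, c ≠ 0 ∧ ∀ u v, mForm σ G ((h : Mat n F) *ᵥ u) ((h : Mat n F) *ᵥ v) = c * mForm σ G u v :=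
  exists_multiplier hn (mForm_sesq σ G) (mForm_nondeg σ hGu) (full_absIrred hn hR.full)
    (SymType.mForm_fixes σ hG) hh

theorem SymType.form_class (hR : SymType 2 R) (hn : 3 ≤ n) {H : Subgroup (GL (Fin n) F)}
    (hnorm : ∀ h ∈ H, ∀ x ∈ R, h * x * h⁻¹ ∈ R)
    (hsc : ∀ x ∈ R, ∀ c : F, (x : Mat n F) = c • 1 → c * c = 1) (heven : Even n) : InFormClass H := by
  have h2 : (2 : F) ≠ 0 := by exact_mod_cast hR.natCast_ne
  obtain ⟨G, hGu, hG⟩ := hR.exists_invariant (by omega) (RingHom.id F) hsc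
  have hG' : ∀ g ∈ R, (g : Mat n F)ᵀ * Gᵀ * (g : Mat n F).map (RingHom.id F) = Gᵀ := by
    intro g hg
    have := congrArg Matrix.transpose (hG g hg)
    simpa [Matrix.transpose_mul, mul_assoc] using this
  obtain ⟨c, hc⟩ := hR.invariant_unique (by omega) (RingHom.id F) hGu hG hG'
  have hG0 : G ≠ 0 := by
    haveI : NeZero n := ⟨by omega⟩
    exact hGu.ne_zero
  have hcc : c * c = 1 := by
    have h1 : G = (c * c) • G := by
      conv_lhs => rw [← Matrix.transpose_transpose G, hc, Matrix.transpose_smul, hc, smul_smul]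
    by_contra hne
    refine hG0 ?_
    have h3 : (c * c - 1) • G = 0 := by rw [sub_smul, one_smul, ← h1, sub_self]
    exact (smul_eq_zero.mp h3).resolve_left (sub_ne_zero.mpr hne)
  set f := mForm (RingHom.id F) G with hf
  have hb : IsBilinearForm f :=
    ⟨(mForm_sesq _ G).add_left, (mForm_sesq _ G).smul_left, (mForm_sesq _ G).add_right,
      fun c v x => (mForm_sesq _ G).smul_right c v x⟩
  have hsym : ∀ u v, f v u = c * f u v := by
    intro u v
    simp only [hf, mForm, RingHom.coe_id, Function.id_comp]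
    rw [Matrix.dotProduct_mulVec, dotProduct_comm, ← Matrix.mulVec_transpose, hc, Matrix.smul_mulVec,
      dotProduct_smul, smul_eq_mul]
  rcases mul_self_eq_one_iff.mp hcc with rfl | rfl
  · refine .inr (.inr ⟨fun v => f v v, ⟨fun a v => ?_, ?_, ?_⟩, odd_card_of_two_ne_zero h2, hn,
      fun h hh => ?_⟩)
    · rw [hb.smul_left, hb.smul_right]; ring
    all_goals try
      have hpolar : QuadraticMap.polar (fun v => f v v) = fun u v => 2 * f u v := by
        funext u v
        simp only [QuadraticMap.polar, hb.add_left, hb.add_right, hsym u v, one_mul]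
        ring
    · rw [hpolar]
      exact ⟨fun x y v => by rw [hb.add_left]; ring, fun c x v => by rw [hb.smul_left]; ring,
        fun v x y => by rw [hb.add_right]; ring, fun c v x => by rw [hb.smul_right]; ring⟩
    · rw [hpolar]
      intro v hv
      obtain ⟨⟨x, hx⟩, ⟨y, hy⟩⟩ := mForm_nondeg (RingHom.id F) hGu v hv
      exact ⟨⟨x, mul_ne_zero h2 hx⟩, ⟨y, mul_ne_zero h2 hy⟩⟩
    · obtain ⟨a, ha, hs⟩ := hR.normaliser_sim (by omega) hGu hG (hnorm h hh)
      exact ⟨Units.mk0 a ha, fun v => hs v v⟩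
  · refine .inl ⟨f, ⟨hb, fun v w => by rw [hsym w v]; ring, fun v => ?_,
      mForm_nondeg _ hGu⟩, heven, by rcases heven with ⟨k, hk⟩; omega, fun h hh => ?_⟩
    · have h1 := hsym v v
      have : (2 : F) * f v v = 0 := by linear_combination h1
      exact (mul_eq_zero.mp this).resolve_left h2
    · obtain ⟨a, ha, hs⟩ := hR.normaliser_sim (by omega) hGu hG (hnorm h hh)
      exact ⟨Units.mk0 a ha, hs⟩

theorem SymType.unitary_class (hR : SymType r R) (hn : 3 ≤ n) {H : Subgroup (GL (Fin n) F)}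
    (hnorm : ∀ h ∈ H, ∀ x ∈ R, h * x * h⁻¹ ∈ R) (σ : F ≃+* F) (hσ : ∀ a, σ (σ a) = a)
    (hne : σ ≠ RingEquiv.refl F)
    (hsc : ∀ x ∈ R, ∀ c : F, (x : Mat n F) = c • 1 → c * σ c = 1) : InFormClass H := by
  set τ := σ.toRingHom with hτ
  obtain ⟨G, hGu, hG⟩ := hR.exists_invariant (by omega) τ hsc
  have hττ : ∀ A : Mat n F, (A.map τ).map τ = A := fun A => by ext i j; exact hσ _
  have hG' : ∀ g ∈ R, (g : Mat n F)ᵀ * (G.map τ)ᵀ * (g : Mat n F).map τ = (G.map τ)ᵀ := by
    intro g hg
    have h1 := congrArg (fun A : Mat n F => (A.map τ)ᵀ) (hG g hg)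
    simp only [Matrix.map_mul, hττ, Matrix.transpose_mul, Matrix.transpose_map,
      Matrix.transpose_transpose] at h1
    rw [mul_assoc]
    exact h1
  obtain ⟨c, hc⟩ := hR.invariant_unique (by omega) τ hGu hG hG'
  have hG0 : G ≠ 0 := by
    haveI : NeZero n := ⟨by omega⟩
    exact hGu.ne_zero
  obtain ⟨a, ha⟩ : ∃ a, a + c * σ a ≠ 0 := by
    by_contra hall
    push Not at hall
    have h1 := hall 1
    rw [map_one, mul_one] at h1
    have hc1 : c = -1 := by linear_combination h1
    refine hne (RingEquiv.ext fun a => ?_)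
    have h3 := hall a
    rw [hc1] at h3
    simp only [RingEquiv.refl_apply]
    linear_combination -h3
  have hcc : σ c * c = 1 := by
    have h1 : G = (σ c * c) • G := by
      conv_lhs => rw [← hττ G, ← Matrix.transpose_transpose (G.map τ), hc]
      ext i j
      have := congrFun (congrFun hc i) j
      simp only [Matrix.transpose_apply, Matrix.map_apply, Matrix.smul_apply, smul_eq_mul] at this
      simp only [Matrix.map_apply, Matrix.transpose_apply, Matrix.smul_apply, smul_eq_mul, map_mul, hτ,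
        RingEquiv.toRingHom_eq_coe, RingHom.coe_coe] at this ⊢
      rw [this]
      ring
    by_contra hne'
    refine hG0 ?_
    have h3 : (σ c * c - 1) • G = 0 := by rw [sub_smul, one_smul, ← h1, sub_self]
    exact (smul_eq_zero.mp h3).resolve_left (sub_ne_zero.mpr hne')
  set b := a + c * σ a with hb
  have hbσ : c * σ b = b := by
    rw [hb, map_add, map_mul, hσ]
    linear_combination a * hcc
  set G₁ := b • G with hG₁def
  have hG₁u : IsUnit G₁ := by
    rw [hG₁def, show b • G = algebraMap F (Mat n F) b * G from by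
      rw [Algebra.smul_def]]
    exact ((Ne.isUnit ha).map _).mul hGu
  have hG₁ : ∀ g ∈ R, (g : Mat n F)ᵀ * G₁ * (g : Mat n F).map τ = G₁ := fun g hg => by
    rw [hG₁def, Matrix.mul_smul, Matrix.smul_mul, hG g hg]
  have hherm : (G₁.map τ)ᵀ = G₁ := by
    ext i j
    have := congrFun (congrFun hc i) j
    simp only [Matrix.transpose_apply, Matrix.map_apply, Matrix.smul_apply, smul_eq_mul] at this
    simp only [hG₁def, Matrix.transpose_apply, Matrix.map_apply, Matrix.smul_apply, smul_eq_mul, map_mul, this]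
    show σ b * (c * G i j) = _
    rw [← mul_assoc, mul_comm (σ b) c, hbσ]
  refine .inr (.inl ⟨σ, mForm τ G₁, ⟨hne, hσ, (mForm_sesq τ G₁).add_left, (mForm_sesq τ G₁).smul_left,
    fun v w => ?_, mForm_nondeg τ hG₁u⟩, hn, fun h hh => ?_⟩)
  · show _ = τ (mForm τ G₁ w v)
    unfold mForm
    have h1 : τ ∘ (G₁ *ᵥ (τ ∘ v)) = G₁.map τ *ᵥ v := by
      funext i
      show τ ((G₁ *ᵥ (τ ∘ v)) i) = _
      rw [RingHom.map_mulVec]
      congr 1
      funext k; exact hσ (v k)
    rw [RingHom.map_dotProduct, h1, Matrix.dotProduct_mulVec, Matrix.dotProduct_mulVec,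
      ← Matrix.mulVec_transpose (G₁.map τ), hherm, dotProduct_comm]
    exact dotProduct_comm _ _ |>.trans (by rw [← Matrix.dotProduct_mulVec, dotProduct_comm])
  · obtain ⟨d, hd, hs⟩ := hR.normaliser_sim (by omega) hG₁u hG₁ (hnorm h hh)
    exact ⟨Units.mk0 d hd, hs⟩

/-- The outcome for a minimal normal subgroup with central commutators. -/
theorem extraspecial_outcome (hn : 3 ≤ n) {H M : Subgroup (GL (Fin n) F)} (hall : AllFull H)
    (hM : M ≤ H) (hMn : ∀ h ∈ H, ∀ x ∈ M, h * x * h⁻¹ ∈ M) (hM0 : ¬ M ≤ scalars (Fin n) F)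
    (hmin : ∀ L ≤ M, (∀ h ∈ H, ∀ x ∈ L, h * x * h⁻¹ ∈ L) → ¬ L ≤ scalars (Fin n) F → L = M)
    (hMM : ⁅M, M⁆ ≤ scalars (Fin n) F) : Outcome H := by
  classical
  obtain ⟨r, R, hR, hnorm, hab⟩ := exists_symType (by omega) hall hM hMn hM0 hmin hMM
  have hn0 : 0 < n := by omega
  obtain ⟨m, hm, hnm⟩ := hR.exists_dim (by omega)
  obtain ⟨p, hpc⟩ := CharP.exists F
  obtain ⟨e, hp, hcard⟩ := FiniteField.card F p
  haveI := Fact.mk hp
  have hqdvd := hR.dvd
  rw [Nat.card_eq_fintype_card] at hqdvd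
  have hrp : r ≠ p := fun h => hR.natCast_ne (h ▸ CharP.cast_eq_zero F p)
  set ε := r * Nat.gcd 2 r with hε
  set z := Nat.gcd ε (Fintype.card F - 1) with hz
  have hscal : ∀ x ∈ R, ∀ c : F, (x : Mat n F) = c • 1 → c ^ z = 1 := by
    intro x hx c hc
    obtain ⟨c', hc'⟩ := (mem_scalars_iff x).mp (mem_scalars_of_eq hn0 hc)
    have e1 : (c' : F) = c := by
      haveI : NeZero n := ⟨hn0.ne'⟩
      simpa using congrFun (congrFun (hc'.symm.trans hc) 0) 0
    have h1 := congrArg Units.val (hR.scalar_pow hn0 hx hc')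
    rw [Units.val_pow_eq_pow_val, e1, Nat.card_eq_fintype_card, ← hε, ← hz, Units.val_one] at h1
    exact h1
  have hzcases : z = r ∨ (z = 4 ∧ r = 2) ∨ z = 2 := by
    rcases hR.prime.eq_two_or_odd' with h2 | hodd
    · have hd : z ∣ 4 := by
        have := Nat.gcd_dvd_left ε (Fintype.card F - 1)
        rw [← hz] at this
        rw [hε, h2] at this
        exact this
      have h2z : 2 ∣ z := Nat.dvd_gcd (h2 ▸ Dvd.intro _ rfl) (h2 ▸ hqdvd)
      obtain ⟨i, hi, hzi⟩ := (Nat.dvd_prime_pow Nat.prime_two).mp (show z ∣ 2 ^ 2 from hd)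
      rw [hzi] at h2z ⊢
      interval_cases i
      · norm_num at h2z
      · exact .inr (.inr rfl)
      · exact .inr (.inl ⟨rfl, h2⟩)
    · left
      rw [hz, hε, show Nat.gcd 2 r = 1 from Nat.coprime_two_left.mpr hodd, mul_one,
        Nat.gcd_eq_left hqdvd]
  have hzdvd : z ∣ Fintype.card F - 1 := Nat.gcd_dvd_right _ _
  by_cases hsub : ∃ d, 0 < d ∧ d < (e : ℕ) ∧ z ∣ p ^ d - 1
  · -- a smaller field
    obtain ⟨d, hd, hde, hdz⟩ := hsub
    let F₀ : Subfield F := RingHom.eqLocusField (iterateFrobenius F p d) (RingHom.id F)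
    have hF₀ : F₀ ≠ ⊤ := by
      intro htop
      obtain ⟨x, hx⟩ := frob_ne hp hcard hde hd
      have hmem : x ∈ F₀ := htop ▸ Subfield.mem_top x
      exact hx hmem
    obtain ⟨B, hB⟩ := hR.realisable hn0 F₀ fun x hx c hc => by
      show iterateFrobenius F p d c = c
      rw [iterateFrobenius_def]
      have h1 := hscal x hx c hc
      obtain ⟨k, hk⟩ := hdz
      rw [← Nat.sub_add_cancel (Nat.one_le_pow d p hp.pos), pow_succ, hk, pow_mul, h1, one_pow, one_mul]
    obtain ⟨F₁, l, hle, -, hl, hc1⟩ := exists_prime_index _ hF₀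
    refine .inr (.inr (.inr (.inr (.inl ⟨F₁, l, B⁻¹, hl, hc1, fun g hg => ?_⟩))))
    exact mem_subfieldSubgroup hn0 (full_absIrred hn0 hR.full) (fun s hs => (hB s hs).mono hle)
      (hnorm g hg)
  push Not at hsub
  have hformOut : InFormClass H → Outcome H := fun h =>
    .inr (.inr (.inr (.inr (.inr (.inr (.inr (.inl h)))))))
  have hpodd : r = 2 → Odd p := fun h2 => hp.odd_of_ne_two (fun h => hrp (h2.trans h.symm))
  by_cases heven : Even (e : ℕ)
  · -- unitary
    obtain ⟨h, hh⟩ := heven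
    have hh0 : 0 < h := by have := e.pos; omega
    have hza : z ∣ p ^ h + 1 := by
      refine dvd_succ_of_minimal hR.prime hzcases (fun hor => (hpodd ?_).pow) ?_
        (hsub h hh0 (by omega))
      · rcases hor with hne | h2
        · rcases hzcases with h1 | ⟨-, h2⟩ | h3
          · exact absurd h1 hne
          · exact h2
          · rcases hR.prime.eq_two_or_odd' with h2 | hodd
            · exact h2
            · exfalso
              refine hne ?_
              rw [hz, hε, show Nat.gcd 2 r = 1 from Nat.coprime_two_left.mpr hodd, mul_one,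
                Nat.gcd_eq_left hqdvd]
        · exact h2
      · rw [← pow_add, ← hh, ← hcard]
        exact hzdvd
    let σ : F ≃+* F := iterateFrobeniusEquiv F p h
    have hσ : ∀ a, σ (σ a) = a := by
      intro a
      simp only [σ, iterateFrobeniusEquiv_def, ← pow_mul, ← pow_add, ← hh, ← hcard, FiniteField.pow_card]
    refine hformOut (hR.unitary_class hn hnorm σ hσ (fun h1 => ?_) fun x hx c hc => ?_)
    · obtain ⟨x, hx⟩ := frob_ne (F := F) hp hcard (d := h) (by omega) hh0
      have := RingEquiv.congr_fun h1 x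
      simp only [σ, iterateFrobeniusEquiv_def, RingEquiv.refl_apply] at this
      exact hx this
    · obtain ⟨k, hk⟩ := hza
      show c * iterateFrobeniusEquiv F p h c = 1
      rw [iterateFrobeniusEquiv_def, ← pow_succ', hk, pow_mul, hscal x hx c hc, one_pow]
  rw [Nat.not_even_iff_odd] at heven
  by_cases hfull : z = ε
  · -- data
    have hεdvd : ε ∣ Fintype.card F - 1 := hfull ▸ hzdvd
    have hcenter := hR.card_center hn0 (by rw [Nat.card_eq_fintype_card]; exact hεdvd)
    have hcardR : Nat.card R = r ^ (2 * m) * ε := by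
      rw [hR.card_eq hn0, hcenter, hnm, ← hε, two_mul, pow_add]
    have hmin : IsMinimalFieldFor (Nat.card (Subgroup.center R)) p e F := by
      rw [hcenter, ← hε, ← hfull]
      exact ⟨hp, hpc, hcard, hcard ▸ hzdvd, fun d h1 h2 => hsub d h1 h2⟩
    refine .inr (.inr (.inr (.inr (.inr (.inl ⟨r, m, R, hm, hnm, hR,
      ⟨hR.symplecticType (by omega) hnorm hab, full_absIrred hn0 hR.full, p, e, hrp, hmin, ?_⟩,
      fun g hg => ?_⟩)))))
    · rcases hR.prime.eq_two_or_odd' with h2 | hodd
      · have hε4 : ε = 4 := by rw [hε, h2]; rfl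
        refine .inr (.inl ⟨h2, ?_, by rw [hcenter, ← hε, hε4], ?_, m, ?_⟩)
        · -- the field is prime
          by_contra he1
          have hp4 : 4 ∣ p - 1 := by
            have h4 : 4 ∣ p ^ (e : ℕ) - 1 := by rw [← hcard, ← hε4]; exact hεdvd
            obtain ⟨k, hk⟩ := heven
            obtain ⟨b, hb⟩ := hpodd h2
            rw [hk, pow_succ, pow_mul] at h4
            have hsq : (p ^ 2) % 4 = 1 := by
              rw [hb, show (2 * b + 1) ^ 2 = 4 * (b * b + b) + 1 by ring]
              omega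
            have hmod : ((p ^ 2) ^ k * p) % 4 = p % 4 := by
              rw [Nat.mul_mod, Nat.pow_mod, hsq, one_pow]
              omega
            have := Nat.one_le_pow k (p ^ 2) (Nat.pow_pos hp.pos)
            have hpos : 0 < (p ^ 2) ^ k * p := Nat.mul_pos (by omega) hp.pos
            omega
          exact hsub 1 one_pos (by have := e.pos; omega) (by rw [pow_one, hfull, hε4]; exact hp4)
        · rw [Fintype.card_fin]
          have hn2 : n = 2 ^ m := by rw [hnm, h2]
          have : 2 ≤ m := by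
            by_contra h
            obtain rfl : m = 1 := by omega
            omega
          rw [hn2]
          exact le_trans (by norm_num) (Nat.pow_le_pow_right two_pos this)
        · rw [hcardR, hε4, h2, pow_add]; ring
      · have hε1 : ε = r := by rw [hε, show Nat.gcd 2 r = 1 from Nat.coprime_two_left.mpr hodd, mul_one]
        refine .inl ⟨hodd, heven, by rw [hcenter, ← hε, hε1], m, hm, ?_⟩
        rw [hcardR, hε1, pow_add, pow_one]; ring
    · refine Subgroup.mem_normalizer_iff.mpr fun x => ⟨hnorm g hg x, fun hx => ?_⟩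
      simpa [mul_assoc] using hnorm g⁻¹ (H.inv_mem hg) _ hx
  -- a bilinear form
  rcases hR.prime.eq_two_or_odd' with h2 | hodd
  · subst h2
    refine hformOut (hR.form_class hn hnorm (fun x hx c hc => ?_) ?_)
    · have hz2 : z = 2 := by
        rcases hzcases with h | ⟨h, -⟩ | h
        · exact h
        · exact absurd (h.trans (by rw [hε]; rfl)) hfull
        · exact h
      rw [← pow_two, ← hz2]
      exact hscal x hx c hc
    · rw [hnm]; exact Nat.even_pow.mpr ⟨even_two, by omega⟩
  · exfalso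
    refine hfull ?_
    rw [hz, hε, show Nat.gcd 2 r = 1 from Nat.coprime_two_left.mpr hodd, mul_one, Nat.gcd_eq_left hqdvd]

end CfsgLib.Classical.AschGen
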