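import Cfsg.Agent.Lib.Classical.AschGen.Small

/-!
# Reductions used for the lists in small degree
-/

set_option autoImplicit false
set_option linter.unusedSectionVars false

namespace CfsgLib.Classical.AschGen

open Matrix Cfsg Cfsg.Geo CfsgLib.Classical.AschPrime
open scoped MatrixGroups

variable {F : Type*} [Field F] [Fintype F] {n : ℕ}

theorem not_prime_pow {p q N r m : ℕ} (hr : r.Prime) (h : N = r ^ m) (hp : p.Prime) (hq : q.Prime)
    (hpq : p ≠ q) (hpN : p ∣ N) (hqN : q ∣ N) : False := by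
  subst h
  exact hpq (((Nat.prime_dvd_prime_iff_eq hp hr).mp (hp.dvd_of_dvd_pow hpN)).trans
    ((Nat.prime_dvd_prime_iff_eq hq hr).mp (hq.dvd_of_dvd_pow hqN)).symm)

theorem card_ne_six : Fintype.card F ≠ 6 := by
  intro h
  obtain ⟨p, hp⟩ := CharP.exists F
  obtain ⟨e, hpp, hcard⟩ := FiniteField.card F p
  rw [h] at hcard
  exact not_prime_pow hpp hcard Nat.prime_two Nat.prime_three (by norm_num) (by norm_num) (by norm_num)

theorem prime_base {p k r m : ℕ} (hp : p.Prime) (hr : r.Prime) (hm : 1 ≤ m) (h : p ^ k = r ^ m) : r = p :=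
  (Nat.prime_dvd_prime_iff_eq hr hp).mp (hr.dvd_of_dvd_pow (h ▸ dvd_pow_self r (by omega)))

theorem wreath_bound {m t N : ℕ} (hm : 3 ≤ m) (ht : 2 ≤ t) (h : m ^ t = N) : 9 ≤ N ∧ m * m ≤ N := by
  have h1 : m ^ 2 ≤ m ^ t := Nat.pow_le_pow_right (by omega) ht
  rw [h, pow_two] at h1
  exact ⟨(Nat.mul_le_mul hm hm).trans h1, h1⟩

/-- A maximal subgroup stabilising lines: the field is not small, or it is of another class. -/
theorem lines_cases (hn : 3 ≤ n) {H : Subgroup (GL (Fin n) F)}
    (hH : IsMaximalIn (specialLinear (Fin n) F) H) {D : Fin n → Submodule F (Fin n → F)}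
    (hD : IsMDecomposition 1 D) (heq : H = decompositionStabilizer D ⊓ specialLinear (Fin n) F) :
    5 ≤ Fintype.card F ∨
    (∃ W : Submodule F (Fin n → F), W ≠ ⊥ ∧ W ≠ ⊤ ∧
      H = subspaceStabilizer W ⊓ specialLinear (Fin n) F) ∨ FormEq H := by
  by_cases h5 : 5 ≤ Fintype.card F
  · exact .inl h5
  rcases monomial_small hn hD (heq.le.trans inf_le_left) (by omega) with ⟨W, h0, h1, hle⟩ | hform
  · exact .inr (.inl ⟨W, h0, h1, maximal_eq' hH hle (not_sl_le_subspace (by omega) h0 h1)⟩)
  · exact .inr (.inr (formEq_of hn hH hform))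

/-- A maximal subgroup stabilising planes: the field is not tiny, or it is of a form class. -/
theorem planes_cases (hn : 3 ≤ n) {H : Subgroup (GL (Fin n) F)}
    (hH : IsMaximalIn (specialLinear (Fin n) F) H) {t : ℕ} {D : Fin t → Submodule F (Fin n → F)}
    (hD : IsMDecomposition 2 D) (heq : H = decompositionStabilizer D ⊓ specialLinear (Fin n) F) :
    3 ≤ Fintype.card F ∨ FormEq H := by
  by_cases h3 : 3 ≤ Fintype.card F
  · exact .inl h3
  have : Fintype.card F = 2 := by
    have := Fintype.one_lt_card (α := F)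
    omega
  exact .inr (formEq_of hn hH (two_block_symp hn hH.1.le hD (heq.le.trans inf_le_left) (.inl this)))

/-- A maximal subgroup preserving a tensor product with a plane. -/
theorem tensor_two_cases (hn : 3 ≤ n) {H : Subgroup (GL (Fin n) F)}
    (hH : IsMaximalIn (specialLinear (Fin n) F) H) {k : ℕ} (hk : 0 < k) {e : Fin n ≃ Fin 2 × Fin k}
    {P : GL (Fin n) F} (heq : H = tensorProductSubgroup 2 k e P ⊓ specialLinear (Fin n) F) :
    3 ≤ Fintype.card F ∨
    ∃ K : Subalgebra F (Mat n F), IsFieldSubalgebra 2 K ∧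
      H = subalgebraNormalizer K ⊓ specialLinear (Fin n) F := by
  by_cases h3 : 3 ≤ Fintype.card F
  · exact .inl h3
  have : Fintype.card F = 2 := by
    have := Fintype.one_lt_card (α := F)
    omega
  obtain ⟨K, hK, hle⟩ := tensor_two_field this hk e P
  exact .inr ⟨K, hK, maximal_eq' hH ((heq.le.trans inf_le_left).trans hle) (not_sl_le_field' hn le_rfl hK)⟩

end CfsgLib.Classical.AschGen
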