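import Cfsg.Agent.Lib.Classical.AschGen.Rows

/-!
# The monomial subgroup of the special linear group of degree four over five elements
-/

set_option autoImplicit false
set_option linter.unusedSectionVars false

namespace CfsgLib.Classical.AschGen

open Matrix Cfsg Cfsg.Geo CfsgLib.Classical.AschPrime
open scoped MatrixGroups

variable {F : Type*} [Field F] {n : ℕ}

/-- A monomial matrix. -/
def monMat (π : Equiv.Perm (Fin n)) (c : Fin n → F) : Mat n F :=
  Matrix.of fun i j => if i = π j then c j else 0

theorem lines_basis {D : Fin n → Submodule F (Fin n → F)} (hD : IsMDecomposition 1 D) :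
    ∃ P : GL (Fin n) F, ∀ g ∈ decompositionStabilizer D, ∃ (π : Equiv.Perm (Fin n)) (c : Fin n → F),
      ((P⁻¹ * g * P : GL (Fin n) F) : Mat n F) = monMat π c := by
  classical
  have hex : ∀ i, ∃ v : Fin n → F, v ≠ 0 ∧ D i = F ∙ v := by
    intro i
    obtain ⟨v, hv, hv0⟩ := Submodule.exists_mem_ne_zero_of_ne_bot (p := D i) fun e => by
      have := hD.finrank_eq i
      rw [e, finrank_bot] at this
      exact absurd this (by norm_num)
    refine ⟨v, hv0, (Submodule.eq_of_le_of_finrank_le
      ((Submodule.span_singleton_le_iff_mem _ _).mpr hv) ?_).symm⟩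
    rw [hD.finrank_eq, finrank_span_singleton hv0]
  choose b hb0 hb using hex
  have hli : LinearIndependent F b :=
    hD.indep.linearIndependent D (fun i => hb i ▸ Submodule.mem_span_singleton_self _) hb0
  let P : Mat n F := Matrix.of fun i j => b j i
  have hP : IsUnit P := by
    rw [← Matrix.linearIndependent_cols_iff_isUnit]; exact hli
  obtain ⟨Pu, hPu⟩ := hP
  refine ⟨Pu, fun g hg => ?_⟩
  obtain ⟨π, hπ⟩ := hg
  have hc : ∀ j, ∃ c : F, c • b (π j) = (g : Mat n F) *ᵥ b j := fun j => by
    have h1 : (g : Mat n F) *ᵥ b j ∈ D (π j) := by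
      rw [← hπ j]; exact ⟨b j, hb j ▸ Submodule.mem_span_singleton_self _, by simp⟩
    rw [hb (π j)] at h1
    exact Submodule.mem_span_singleton.mp h1
  choose c hc using hc
  refine ⟨π, c, ?_⟩
  have hgP : (g : Mat n F) * P = P * monMat π c := by
    ext a k
    rw [show ((g : Mat n F) * P) a k = ((g : Mat n F) *ᵥ b k) a from rfl, ← hc k, Matrix.mul_apply]
    simp [P, monMat, mul_comm]
  rw [Units.val_mul, Units.val_mul, mul_assoc, hPu, hgP, ← mul_assoc, ← hPu, Units.inv_mul, one_mul]

theorem monMat_mul (π π' : Equiv.Perm (Fin n)) (c c' : Fin n → F) :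
    monMat π c * monMat π' c' = monMat (π * π') fun j => c (π' j) * c' j := by
  ext i j
  simp only [monMat, Matrix.mul_apply, Matrix.of_apply]
  rw [Finset.sum_eq_single (π' j)]
  · by_cases h : i = π (π' j) <;> simp [h]
  · intro k _ hk; simp [hk]
  · exact fun h => absurd (Finset.mem_univ _) h

theorem monMat_det (π : Equiv.Perm (Fin n)) (c : Fin n → F) :
    (monMat π c).det = Equiv.Perm.sign π * ∏ j, c j := by
  have h : (monMat π c).submatrix π id = Matrix.diagonal c := by
    ext i j
    by_cases hij : i = j
    · subst hij; simp [monMat]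
    · simp [monMat, hij]
  have h2 := congrArg Matrix.det h
  rw [Matrix.det_permute, Matrix.det_diagonal] at h2
  rw [← h2, ← mul_assoc, ← Int.cast_mul, ← Units.val_mul, Int.units_mul_self]
  simp

/-- The addition of the four group. -/
def four (v j : Fin 4) : Fin 4 := ![![0, 1, 2, 3], ![1, 0, 3, 2], ![2, 3, 0, 1], ![3, 2, 1, 0]] v j

/-- The signs of the four characters. -/
def fourSign (v j : Fin 4) : ℤ := ![![1, 1, 1, 1], ![1, -1, 1, -1], ![1, 1, -1, -1], ![1, -1, -1, 1]] v j

theorem fourSign_add : ∀ i v j : Fin 4, fourSign i (four v j) = fourSign i v * fourSign i j := by decide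

theorem fourSign_symm : ∀ i j : Fin 4, fourSign i j = fourSign j i := by decide

theorem four_add : ∀ a b j : Fin 4, four a (four b j) = four (four a b) j := by decide

theorem four_fix : ∀ v j : Fin 4, four v j = j → v = 0 := by decide

theorem four_self : ∀ v j : Fin 4, four v (four v j) = j := by decide

set_option maxRecDepth 20000 in
theorem four_of_tuple : ∀ a b c d : Fin 4,
    ((∀ j, ![a, b, c, d] j = j) ∨ (∀ j, ![a, b, c, d] j ≠ j ∧ ![a, b, c, d] (![a, b, c, d] j) = j)) →
      ∃ v, ∀ j, ![a, b, c, d] j = four v j := by decide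

theorem four_of_involution (f : Fin 4 → Fin 4)
    (h : (∀ j, f j = j) ∨ (∀ j, f j ≠ j ∧ f (f j) = j)) : ∃ v, ∀ j, f j = four v j := by
  have e : ![f 0, f 1, f 2, f 3] = f := by funext i; fin_cases i <;> rfl
  have := four_of_tuple (f 0) (f 1) (f 2) (f 3)
  rw [e] at this
  exact this h

/-- The Hadamard matrix. -/
def hadamard (F : Type*) [Field F] : Mat 4 F := Matrix.of fun i j => (fourSign i j : F)

/-- The translation by `v`. -/
def fourPerm (v : Fin 4) : Equiv.Perm (Fin 4) := ⟨four v, four v, four_self v, four_self v⟩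

/-- Membership in the group of monomial matrices of symplectic type. -/
def InPauli (M : Mat 4 F) : Prop :=
  ∃ (v : Fin 4) (c : Fin 4 → F), (∀ i j, c i * c i = c j * c j) ∧ ∏ j, c j = 1 ∧ M = monMat (fourPerm v) c

theorem fourPerm_mul (v w : Fin 4) : fourPerm v * fourPerm w = fourPerm (four v w) :=
  Equiv.ext fun j => four_add v w j

theorem inPauli_mul {M N : Mat 4 F} (hM : InPauli M) (hN : InPauli N) : InPauli (M * N) := by
  obtain ⟨v, c, hc, hp, rfl⟩ := hM
  obtain ⟨w, d, hd, hq, rfl⟩ := hN
  refine ⟨four v w, fun j => c (fourPerm w j) * d j, fun i j => ?_, ?_, by rw [monMat_mul, fourPerm_mul]⟩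
  · rw [mul_mul_mul_comm, hc _ (fourPerm w j), hd i j, mul_mul_mul_comm]
  · rw [Finset.prod_mul_distrib, Equiv.prod_comp (fourPerm w) c, hp, hq, one_mul]

theorem inPauli_one : InPauli (1 : Mat 4 F) := by
  refine ⟨0, fun _ => 1, fun _ _ => rfl, by simp, ?_⟩
  ext i j
  have h : fourPerm 0 j = j := by revert j; decide
  simp [monMat, h, Matrix.one_apply]

/-- The group of monomial matrices of symplectic type. -/
def pauli (F : Type*) [Field F] [Finite F] : Subgroup (GL (Fin 4) F) where
  carrier := {g | InPauli (g : Mat 4 F)}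
  one_mem' := inPauli_one
  mul_mem' := fun {a b} ha hb => by
    show InPauli ((a * b : GL (Fin 4) F) : Mat 4 F)
    rw [Units.val_mul]; exact inPauli_mul ha hb
  inv_mem' := fun {a} ha => by
    have hpow : ∀ k : ℕ, InPauli ((a ^ k : GL (Fin 4) F) : Mat 4 F) := by
      intro k
      induction k with
      | zero => exact inPauli_one
      | succ k ih => rw [pow_succ, Units.val_mul]; exact inPauli_mul ih ha
    haveI : Finite (GL (Fin 4) F) := inferInstance
    have e : a ^ (orderOf a - 1) = a⁻¹ := eq_inv_of_mul_eq_one_left (by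
      rw [← pow_succ, Nat.sub_add_cancel (orderOf_pos a), pow_orderOf_eq_one])
    show InPauli ((a⁻¹ : GL (Fin 4) F) : Mat 4 F)
    rw [← e]
    exact hpow _

theorem monomial_four_five [Fintype F] (hq : Fintype.card F = 5) {H : Subgroup (GL (Fin 4) F)}
    (hH : IsMaximalIn (specialLinear (Fin 4) F) H) {D : Fin 4 → Submodule F (Fin 4 → F)}
    (hD : IsMDecomposition 1 D) (heq : H = decompositionStabilizer D ⊓ specialLinear (Fin 4) F) : False := by
  classical
  have h5 : (5 : F) = 0 := by
    have := Nat.cast_card_eq_zero F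
    rw [hq] at this
    exact_mod_cast this
  have h4 : ∀ a : F, a ≠ 0 → a ^ 4 = 1 := fun a ha => by
    have := FiniteField.pow_card_sub_one_eq_one a ha
    rwa [hq] at this
  have h40 : (4 : F) ≠ 0 := fun h => one_ne_zero (α := F) (by linear_combination h5 - h)
  have h20 : (2 : F) ≠ 0 := fun h => h40 (by linear_combination 2 * h)
  obtain ⟨P, hP⟩ := lines_basis hD
  set R := (pauli F).map (MulAut.conj P).toMonoidHom with hR
  have hRmem : ∀ x, x ∈ R ↔ InPauli ((P⁻¹ * x * P : GL (Fin 4) F) : Mat 4 F) := by
    intro x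
    refine ⟨?_, fun h => ⟨P⁻¹ * x * P, h, by simp [mul_assoc]⟩⟩
    rintro ⟨y, hy, rfl⟩
    rw [show P⁻¹ * (MulAut.conj P).toMonoidHom y * P = y by simp [mul_assoc]]
    exact hy
  -- the monomial group normalises the group
  have hHN : H ≤ subgroupNormalizer R := by
    suffices h : ∀ g ∈ H, ∀ x ∈ R, g * x * g⁻¹ ∈ R by
      intro g hg
      refine Subgroup.mem_normalizer_iff.mpr fun x => ⟨h g hg x, fun hx => ?_⟩
      simpa [mul_assoc] using h g⁻¹ (H.inv_mem hg) _ hx
    intro g hg x hx
    obtain ⟨τ, d, hd⟩ := hP g (heq.le hg).1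
    obtain ⟨v, c, hc, hp, hxv⟩ := (hRmem x).mp hx
    have hdet : (Equiv.Perm.sign τ : F) * ∏ j, d j = 1 := by
      rw [← monMat_det, ← hd]
      refine mem_sl_iff.mp ?_
      simpa using sl_conj (hH.1.le hg) P⁻¹
    have hd0 : ∀ j, d j ≠ 0 := fun j h0 => by
      rw [Finset.prod_eq_zero (Finset.mem_univ j) h0, mul_zero] at hdet
      exact zero_ne_one hdet
    have hprodsq : (∏ j, d j) * (∏ j, d j) = 1 := by
      rcases Int.units_eq_one_or (Equiv.Perm.sign τ) with h | h <;>
        simp [h] at hdet
      · rw [hdet, one_mul]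
      · linear_combination (1 - ∏ j, d j) * hdet
    obtain ⟨w, hw⟩ := four_of_involution (⇑(τ * fourPerm v * τ⁻¹)) (by
      by_cases hv : v = 0
      · left
        intro j
        have : ∀ i, fourPerm 0 i = i := by decide
        simp [hv, this]
      · right
        intro j
        refine ⟨fun h => hv (four_fix v (τ⁻¹ j) ?_), ?_⟩
        · show fourPerm v (τ⁻¹ j) = τ⁻¹ j
          exact τ.injective (h.trans (τ.apply_symm_apply j).symm)
        · show τ (fourPerm v (τ⁻¹ (τ (fourPerm v (τ⁻¹ j))))) = j
          rw [show τ⁻¹ (τ (fourPerm v (τ⁻¹ j))) = fourPerm v (τ⁻¹ j) from τ.symm_apply_apply _,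
            show fourPerm v (fourPerm v (τ⁻¹ j)) = τ⁻¹ j from four_self v _]
          exact τ.apply_symm_apply j)
    have hw' : τ * fourPerm v * τ⁻¹ = fourPerm w := Equiv.ext hw
    set c' : Fin 4 → F := fun i => d (fourPerm v (τ⁻¹ i)) * c (τ⁻¹ i) / d (τ⁻¹ i) with hc'
    refine (hRmem _).mpr ⟨w, c', ?_, ?_, ?_⟩
    · -- squares
      set φ : Fin 4 → F := fun j => d (fourPerm v j) * d (fourPerm v j) / (d j * d j) with hφ
      have hswap : ∀ a, φ (four v a) = φ a := by
        intro a
        simp only [hφ, show ∀ b, fourPerm v b = four v b from fun b => rfl, four_self v a]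
        rw [div_eq_div_iff (mul_ne_zero (hd0 _) (hd0 _)) (mul_ne_zero (hd0 _) (hd0 _))]
        linear_combination h4 _ (hd0 a) - h4 _ (hd0 (four v a))
      have hpair : ∀ a e, (∏ j, d j) = d a * d (four v a) * (d e * d (four v e)) → φ e = φ a := by
        intro a e hprod
        simp only [hφ, show ∀ b, fourPerm v b = four v b from fun b => rfl]
        rw [div_eq_div_iff (mul_ne_zero (hd0 _) (hd0 _)) (mul_ne_zero (hd0 _) (hd0 _))]
        rw [hprod] at hprodsq
        linear_combination (-(d a ^ 2 * d (four v e) ^ 2)) * h4 _ (hd0 (four v a)) +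
          (-(d a ^ 2 * d (four v e) ^ 2 * d (four v a) ^ 4)) * h4 _ (hd0 e) +
          (d (four v a) ^ 2 * d e ^ 2) * hprodsq
      have hφc : ∀ i j, φ i = φ j := by
        suffices h : ∀ i, φ i = φ 0 from fun i j => (h i).trans (h j).symm
        intro i
        by_cases hv : v = 0
        · subst hv
          have : ∀ b, fourPerm 0 b = b := by decide
          simp only [hφ, this]
          rw [div_self (mul_ne_zero (hd0 _) (hd0 _)), div_self (mul_ne_zero (hd0 _) (hd0 _))]
        · obtain ⟨e, he, hcov⟩ : ∃ e, (∏ j, d j) = d 0 * d (four v 0) * (d e * d (four v e)) ∧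
              (i = 0 ∨ i = four v 0 ∨ i = e ∨ i = four v e) := by
            fin_cases v
            · exact absurd rfl hv
            · exact ⟨2, by simp [Fin.prod_univ_four, four]; ring, by fin_cases i <;> simp [four]⟩
            · exact ⟨1, by simp [Fin.prod_univ_four, four]; ring, by fin_cases i <;> simp [four]⟩
            · exact ⟨1, by simp [Fin.prod_univ_four, four]; ring, by fin_cases i <;> simp [four]⟩
          rcases hcov with rfl | rfl | rfl | rfl
          · rfl
          · exact hswap 0
          · exact hpair 0 _ he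
          · exact (hswap e).trans (hpair 0 e he)
      intro i j
      simp only [hc']
      have hh : ∀ k, d (fourPerm v k) * c k / d k * (d (fourPerm v k) * c k / d k) = φ k * (c k * c k) :=
        fun k => by rw [hφ]; ring
      rw [hh, hh, hφc _ (τ⁻¹ j), hc _ (τ⁻¹ j)]
    · rw [hc', Equiv.prod_comp τ⁻¹ fun k => d (fourPerm v k) * c k / d k, Finset.prod_div_distrib,
        Finset.prod_mul_distrib, Equiv.prod_comp (fourPerm v) d, hp, mul_one,
        div_self (Finset.prod_ne_zero_iff.mpr fun j _ => hd0 j)]
    · have e1 : P⁻¹ * (g * x * g⁻¹) * P = (P⁻¹ * g * P) * (P⁻¹ * x * P) * (P⁻¹ * g * P)⁻¹ := by group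
      have e2 : monMat τ d * monMat (fourPerm v) c = monMat (fourPerm w) c' * monMat τ d := by
        rw [monMat_mul, monMat_mul, ← hw', inv_mul_cancel_right]
        congr 1
        funext j
        simp only [hc', show τ⁻¹ (τ j) = j from τ.symm_apply_apply j]
        rw [div_mul_cancel₀ _ (hd0 j)]
      rw [e1, Units.val_mul, Units.val_mul, hd, hxv, e2, ← hd, Units.mul_inv_cancel_right]
  -- the Hadamard matrix
  have hWW : hadamard F * hadamard F = (4 : F) • 1 := by
    ext i j
    fin_cases i <;> fin_cases j <;>
      simp [hadamard, fourSign, Matrix.mul_apply, Fin.sum_univ_four] <;> norm_num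
  have hWdet : (hadamard F).det = 1 := by
    have : (hadamard F).det = 16 := by
      simp [hadamard, fourSign, Matrix.det_succ_row_zero, Fin.sum_univ_succ, Fin.succAbove]
      norm_num
    rw [this]
    linear_combination 3 * h5
  let W : GL (Fin 4) F := Matrix.GeneralLinearGroup.mkOfDetNeZero (hadamard F) (by rw [hWdet]; exact one_ne_zero)
  have hWval : (W : Mat 4 F) = hadamard F := rfl
  have hWR : ∀ x ∈ pauli F, W * x * W⁻¹ ∈ pauli F := by
    rintro x ⟨v, c, hc, hp, hxv⟩
    have hc0 : c 0 ≠ 0 := fun h0 => by
      rw [Finset.prod_eq_zero (Finset.mem_univ 0) h0] at hp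
      exact zero_ne_one hp
    obtain ⟨w, hw⟩ : ∃ w, ∀ j, c j = c 0 * (fourSign w j : F) := by
      rw [Fin.prod_univ_four] at hp
      have hs : ∀ j, c j = c 0 ∨ c j = -c 0 := fun j => mul_self_eq_mul_self_iff.mp (hc j 0)
      have h3 : c 3 * (c 1 * c 2) = c 3 * c 3 * (c 0) ^ 1 * c 3 * 0 + c 3 * (c 1 * c 2) := by ring
      have h03 := h4 _ hc0
      rcases hs 1 with e1 | e1 <;> rcases hs 2 with e2 | e2
      · refine ⟨0, fun j => ?_⟩
        have e3 : c 3 = c 0 := by
          rw [e1, e2] at hp
          linear_combination (c 0) * hp - c 3 * h03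
        fin_cases j <;> simp [fourSign, e1, e2, e3]
      · refine ⟨2, fun j => ?_⟩
        have e3 : c 3 = -c 0 := by
          rw [e1, e2] at hp
          linear_combination (-(c 0)) * hp - c 3 * h03
        fin_cases j <;> simp [fourSign, e1, e2, e3]
      · refine ⟨1, fun j => ?_⟩
        have e3 : c 3 = -c 0 := by
          rw [e1, e2] at hp
          linear_combination (-(c 0)) * hp - c 3 * h03
        fin_cases j <;> simp [fourSign, e1, e2, e3]
      · refine ⟨3, fun j => ?_⟩
        have e3 : c 3 = c 0 := by
          rw [e1, e2] at hp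
          linear_combination (c 0) * hp - c 3 * h03
        fin_cases j <;> simp [fourSign, e1, e2, e3]
    have hsgn : ∀ a b : Fin 4, (fourSign a b : F) * fourSign a b = 1 := fun a b => by
      have : ∀ a b : Fin 4, fourSign a b * fourSign a b = 1 := by decide
      rw [← Int.cast_mul, this, Int.cast_one]
    set c' : Fin 4 → F := fun k => c 0 * (fourSign v w : F) * (fourSign v k : F) with hc'
    refine ⟨w, c', fun i j => ?_, ?_, ?_⟩
    · simp only [hc']
      linear_combination (c 0 * c 0 * (fourSign v w : F) * (fourSign v w : F)) * (hsgn v i - hsgn v j)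
    · rw [hc']
      simp only [Finset.prod_mul_distrib, Finset.prod_const, Finset.card_univ, Fintype.card_fin]
      have hs1 : ∀ v : Fin 4, ∏ k, fourSign v k = 1 := by decide
      rw [h4 _ hc0, h4 _ (left_ne_zero_of_mul_eq_one (hsgn v w)), one_mul, one_mul, ← Int.cast_prod,
        hs1, Int.cast_one]
    · have e2 : hadamard F * monMat (fourPerm v) c = monMat (fourPerm w) c' * hadamard F := by
        ext i j
        rw [Matrix.mul_apply, Matrix.mul_apply, Finset.sum_eq_single (fourPerm v j),
          Finset.sum_eq_single (fourPerm w i)]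
        · have hz : ∀ i j v w : Fin 4, fourSign i (four v j) * fourSign w j =
              fourSign v w * fourSign v (four w i) * fourSign (four w i) j := by decide
          have hcast : (fourSign i (four v j) : F) * fourSign w j =
              fourSign v w * fourSign v (four w i) * fourSign (four w i) j := by
            rw [← Int.cast_mul, ← Int.cast_mul, ← Int.cast_mul, hz]
          simp only [monMat, hadamard, Matrix.of_apply, hc', show ∀ b, fourPerm v b = four v b from fun b => rfl,
            show ∀ b, fourPerm w b = four w b from fun b => rfl, four_self, if_true, hw j]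
          linear_combination (c 0) * hcast
        · intro k _ hk
          have : i ≠ fourPerm w k := fun h => hk (by rw [h]; exact (four_self w k).symm)
          simp [monMat, this]
        · exact fun h => absurd (Finset.mem_univ _) h
        · intro k _ hk; simp [monMat, hk]
        · exact fun h => absurd (Finset.mem_univ _) h
      rw [Units.val_mul, Units.val_mul, hxv, hWval, e2, ← hWval, Units.mul_inv_cancel_right]
  have hWN : P * W * P⁻¹ ∈ subgroupNormalizer R ⊓ specialLinear (Fin 4) F := by
    refine ⟨Subgroup.mem_normalizer_iff.mpr fun x => ⟨?_, ?_⟩, sl_conj (mem_sl_iff.mpr hWdet) P⟩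
    · rintro ⟨y, hy, rfl⟩
      exact ⟨_, hWR y hy, by simp [mul_assoc]⟩
    · rintro ⟨y, hy, hyx⟩
      have hW2 : W⁻¹ * y * W = W * y * W⁻¹ := by
        have hsq : W * W ∈ scalars (Fin 4) F := (mem_scalars_iff _).mpr
          ⟨Units.mk0 4 h40, by rw [Units.val_mul, hWval, hWW, Units.val_mk0]⟩
        have := scalars_comm hsq y
        calc W⁻¹ * y * W = W⁻¹ * (y * (W * W)) * W⁻¹ := by group
          _ = W * y * W⁻¹ := by rw [← this]; group
      refine ⟨W⁻¹ * y * W, hW2 ▸ hWR y hy, ?_⟩
      have hyx' : P * y * P⁻¹ = P * W * P⁻¹ * x * (P * W * P⁻¹)⁻¹ := by simpa using hyx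
      show P * (W⁻¹ * y * W) * P⁻¹ = x
      calc P * (W⁻¹ * y * W) * P⁻¹ = (P * W * P⁻¹)⁻¹ * (P * y * P⁻¹) * (P * W * P⁻¹) := by group
        _ = x := by rw [hyx']; group
  have hne : ¬ specialLinear (Fin 4) F ≤ subgroupNormalizer R := by
    refine not_sl_le_normalizer (by norm_num) (by omega) (by exact_mod_cast h40) ?_ ?_
    · intro x hx hns
      obtain ⟨v, c, hc, hp, hxv⟩ := (hRmem x).mp hx
      have htr : (x : Mat 4 F).trace = (monMat (fourPerm v) c).trace := by
        rw [← hxv, Units.val_mul, Units.val_mul]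
        exact (Matrix.trace_units_conj' P _).symm
      rw [htr]
      simp only [Matrix.trace, Matrix.diag, monMat, Matrix.of_apply]
      by_cases hv : v = 0
      · subst hv
        have hid : ∀ b, fourPerm 0 b = b := by decide
        simp only [hid, if_true, Fin.sum_univ_four]
        rw [Fin.prod_univ_four] at hp
        have hc0 : c 0 ≠ 0 := fun h0 => by
          rw [h0] at hp; simp at hp
        have hs : ∀ j, c j = c 0 ∨ c j = -c 0 := fun j => mul_self_eq_mul_self_iff.mp (hc j 0)
        rcases hs 1 with e1 | e1 <;> rcases hs 2 with e2 | e2 <;> rcases hs 3 with e3 | e3 <;>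
          first
            | (rw [e1, e2, e3]; ring1)
            | (exfalso
               rw [e1, e2, e3] at hp
               exact h20 (by linear_combination -hp - h4 _ hc0))
            | (exfalso
               refine hns ?_
               refine mem_scalars_of_eq (by norm_num) (c := c 0) ?_
               have hm : monMat (fourPerm 0) c = c 0 • 1 := by
                 ext i j
                 simp only [monMat, Matrix.of_apply, hid, Matrix.smul_apply, Matrix.one_apply, smul_eq_mul,
                   mul_ite, mul_one, mul_zero]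
                 refine if_congr Iff.rfl ?_ rfl
                 fin_cases j <;> simp [e1, e2, e3]
               have hxP : (x : Mat 4 F) = (P : Mat 4 F) * monMat (fourPerm 0) c *
                   ((P⁻¹ : GL (Fin 4) F) : Mat 4 F) := by
                 rw [← hxv]; simp [mul_assoc]
               rw [hxP, hm, Matrix.mul_smul, mul_one, Matrix.smul_mul, Units.mul_inv])
      · refine Finset.sum_eq_zero fun j _ => if_neg fun h => hv (four_fix v j h.symm)
    · intro hle
      have hXdet : (monMat (fourPerm 1) (fun _ => (1 : F))).det ≠ 0 := by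
        rw [monMat_det]
        rcases Int.units_eq_one_or (Equiv.Perm.sign (fourPerm 1)) with h | h <;> simp [h]
      let X : GL (Fin 4) F := Matrix.GeneralLinearGroup.mkOfDetNeZero _ hXdet
      have hX : X ∈ pauli F := ⟨1, fun _ => 1, fun _ _ => rfl, by simp, rfl⟩
      have h1 := hle (Subgroup.mem_map_of_mem (MulAut.conj P).toMonoidHom hX)
      have h2 : X ∈ scalars (Fin 4) F := by
        have := scalars_normal.conj_mem _ h1 P⁻¹
        simpa [mul_assoc] using this
      obtain ⟨a, ha⟩ := (mem_scalars_iff X).mp h2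
      have := congrFun (congrFun ha 1) 0
      have hX10 : (X : Mat 4 F) 1 0 = 1 := by
        show monMat (fourPerm 1) (fun _ => (1 : F)) 1 0 = 1
        simp [monMat, fourPerm, four]
      rw [hX10] at this
      simp at this
  have hEq : H = subgroupNormalizer R ⊓ specialLinear (Fin 4) F := maximal_eq' hH hHN hne
  rw [← hEq, heq] at hWN
  obtain ⟨π, c, hπ⟩ := hP _ hWN.1
  rw [show P⁻¹ * (P * W * P⁻¹) * P = W by group, hWval] at hπ
  have h00 := congrFun (congrFun hπ 0) 0
  have h10 := congrFun (congrFun hπ 1) 0
  simp [hadamard, fourSign, monMat] at h00 h10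
  by_cases h : 0 = π 0
  · rw [if_pos h] at h00
    rw [if_neg (fun e : (1 : Fin 4) = π 0 => absurd (h.trans e.symm) (by decide))] at h10
    exact one_ne_zero h10
  · rw [if_neg h] at h00
    exact one_ne_zero h00

end CfsgLib.Classical.AschGen
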