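import Cfsg.Agent.Lib.Classical.AschGen.Linear
import Cfsg.Agent.Lib.Classical.AschGen.NotSL

/-!
# Maximal subgroups of the special linear groups
-/

set_option autoImplicit false
set_option linter.unusedSectionVars false

namespace CfsgLib.Classical.AschGen

open Matrix Cfsg Cfsg.Geo CfsgLib.Classical.AschPrime
open scoped MatrixGroups

variable {F : Type*} [Field F] [Fintype F] {n r : ℕ}

theorem data_two {R : Subgroup (GL (Fin n) F)} (hn : 3 ≤ n) (h : IsLinearSymplecticTypeData 2 R) :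
    ∃ p : ℕ, p.Prime ∧ Fintype.card F = p ∧ p % 4 = 1 := by
  obtain ⟨p, e, -, ⟨hp, -, hcard, hdvd, -⟩, hcases⟩ := h.field
  rcases hcases with ⟨hodd, -⟩ | ⟨-, he, hz, -⟩ | ⟨-, -, hι, -⟩
  · exact absurd hodd (by decide)
  · subst he
    rw [pow_one] at hcard hdvd
    rw [hz] at hdvd
    have := hp.two_le
    exact ⟨p, hp, hcard, by omega⟩
  · rw [Fintype.card_fin] at hι; omega

theorem data_three {R : Subgroup (GL (Fin n) F)} (h : IsLinearSymplecticTypeData 3 R) :
    ∃ p : ℕ, p.Prime ∧ Fintype.card F = p ∧ p % 3 = 1 := by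
  obtain ⟨p, e, hrp, ⟨hp, -, hcard, hdvd, hmin⟩, hcases⟩ := h.field
  rcases hcases with ⟨-, he, hz, -⟩ | ⟨h2, -⟩ | ⟨h2, -⟩
  · rw [hz] at hdvd hmin
    have hp3 : p % 3 ≠ 0 := fun h0 =>
      hrp ((Nat.prime_dvd_prime_iff_eq Nat.prime_three hp).mp (Nat.dvd_of_mod_eq_zero h0))
    have hp1 : p % 3 = 1 := by
      by_contra h1
      have hp2 : p % 3 = 2 := by omega
      obtain ⟨k, rfl⟩ := he
      have hsq : (p ^ 2) % 3 = 1 := by rw [Nat.pow_mod, hp2]
      have hmod : (p ^ (2 * k + 1)) % 3 = 2 := by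
        rw [pow_succ, pow_mul, Nat.mul_mod, Nat.pow_mod, hsq, one_pow, hp2] <;> rfl
      have := Nat.one_le_pow (2 * k + 1) p hp.pos
      omega
    have he1 : e = 1 := by
      by_contra hne
      obtain ⟨k, hk⟩ := he
      refine hmin 1 one_pos (by omega) ?_
      rw [pow_one]
      have := hp.two_le
      omega
    subst he1
    exact ⟨p, hp, by rw [hcard, pow_one], hp1⟩
  · exact absurd h2 (by decide)
  · exact absurd h2 (by decide)

theorem not_sl_le_symType {R : Subgroup (GL (Fin n) F)} (hn : 3 ≤ n) (hR : SymType r R)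
    (hdata : IsLinearSymplecticTypeData r R) : ¬ specialLinear (Fin n) F ≤ subgroupNormalizer R := by
  have hn0 : 0 < n := by omega
  refine not_sl_le_normalizer hn ?_ (hR.natCast_n_ne hn0) (fun x hx hns => hR.trace_eq_zero hn0 hx hns)
    fun hle => algOf_comm_false (by omega) hR.full fun x hx y _ => scalars_comm (hle hx) y
  rcases hR.prime.eq_two_or_odd' with rfl | hodd
  · obtain ⟨p, hp, hcard, h4⟩ := data_two hn hdata
    have := hp.two_le
    omega
  · have h := hR.dvd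
    rw [Nat.card_eq_fintype_card] at h
    have h3 : 3 ≤ r := by
      have := hR.prime.two_le
      rcases hodd with ⟨k, hk⟩
      omega
    have := Fintype.one_lt_card (α := F)
    have := Nat.le_of_dvd (by omega) h
    omega

theorem maximal_eq' {H X : Subgroup (GL (Fin n) F)}
    (hH : IsMaximalIn (specialLinear (Fin n) F) H) (hle : H ≤ X)
    (hX : ¬ specialLinear (Fin n) F ≤ X) : H = X ⊓ specialLinear (Fin n) F :=
  AschPrime.maximal_eq hH hle hX

theorem symp_eq (hn : 3 ≤ n) {H : Subgroup (GL (Fin n) F)}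
    (hH : IsMaximalIn (specialLinear (Fin n) F) H) {f : (Fin n → F) → (Fin n → F) → F}
    (hf : IsSymplecticForm f) (hle : H ≤ similarityGroup f) :
    H = similarityGroup f ⊓ specialLinear (Fin n) F := by
  refine maximal_eq' hH hle fun hall => ?_
  have hs := isSesq_of_bilinear hf.bilinear
  exact not_sl_le_similarity hn (hs.isUnit_gram hf.nondegenerate) (RingHom.id F)
    fun g hg => similarity_sesq hs (hall hg)

theorem unitary_eq (hn : 3 ≤ n) {H : Subgroup (GL (Fin n) F)}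
    (hH : IsMaximalIn (specialLinear (Fin n) F) H) {σ : F ≃+* F} {f : (Fin n → F) → (Fin n → F) → F}
    (hf : IsUnitaryForm σ f) (hle : H ≤ similarityGroup f) :
    H = similarityGroup f ⊓ specialLinear (Fin n) F := by
  refine maximal_eq' hH hle fun hall => ?_
  have hs := isSesq_of_unitary hf
  exact not_sl_le_similarity hn (hs.isUnit_gram hf.nondegenerate) _
    fun g hg => similarity_sesq hs (hall hg)

theorem quad_eq (hn : 3 ≤ n) {H : Subgroup (GL (Fin n) F)}
    (hH : IsMaximalIn (specialLinear (Fin n) F) H) {Q : (Fin n → F) → F}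
    (hQ : IsNondegenerateQuadraticForm Q) (hle : H ≤ quadSimilarityGroup Q) :
    H = quadSimilarityGroup Q ⊓ specialLinear (Fin n) F := by
  refine maximal_eq' hH hle fun hall => ?_
  have hf := isSesq_of_bilinear hQ.polar_bilinear
  refine not_sl_le_similarity hn (hf.isUnit_gram hQ.nondegenerate) (RingHom.id F) fun g hg => ?_
  obtain ⟨c, hc⟩ := hall hg
  exact ⟨c, hf.isometry.mp fun u v => by
    simp only [QuadraticMap.polar, ← Matrix.mulVec_add, hc]; ring⟩

/-- A maximal subgroup that is the member of a similarity class. -/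
def FormEq (H : Subgroup (GL (Fin n) F)) : Prop :=
  (Odd (Fintype.card F) ∧ ∃ Q : (Fin n → F) → F, IsNondegenerateQuadraticForm Q ∧
      H = quadSimilarityGroup Q ⊓ specialLinear (Fin n) F) ∨
  (∃ f : (Fin n → F) → (Fin n → F) → F, IsSymplecticForm f ∧
      H = similarityGroup f ⊓ specialLinear (Fin n) F) ∨
  (∃ (σ : F ≃+* F) (f : (Fin n → F) → (Fin n → F) → F), IsUnitaryForm σ f ∧
      H = similarityGroup f ⊓ specialLinear (Fin n) F)

theorem formEq_of (hn : 3 ≤ n) {H : Subgroup (GL (Fin n) F)}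
    (hH : IsMaximalIn (specialLinear (Fin n) F) H) (h : InFormClass H) : FormEq H := by
  rcases h with ⟨f, hf, -, -, hle⟩ | ⟨σ, f, hf, -, hle⟩ | ⟨Q, hQ, ho, -, hle⟩
  · exact .inr (.inl ⟨f, hf, symp_eq hn hH hf hle⟩)
  · exact .inr (.inr ⟨σ, f, hf, unitary_eq hn hH hf hle⟩)
  · exact .inl ⟨ho, Q, hQ, quad_eq hn hH hQ hle⟩

theorem subfield_ne_top {F₀ : Subfield F} {l : ℕ} (hl : l.Prime)
    (hcard : Fintype.card F = Nat.card F₀ ^ l) : F₀ ≠ ⊤ := by
  intro htop
  have hK : Nat.card F₀ = Fintype.card F := by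
    rw [← Nat.card_eq_fintype_card]
    exact Nat.card_congr (Equiv.subtypeUnivEquiv fun x => htop ▸ Subfield.mem_top x)
  rw [hK] at hcard
  exact hl.one_lt.ne (Nat.pow_right_injective Fintype.one_lt_card ((pow_one _).trans hcard))

/-- A maximal subgroup of the special linear group is a member of a class, or residual. -/
def MaxCases (H : Subgroup (GL (Fin n) F)) : Prop :=
  (∃ W : Submodule F (Fin n → F), W ≠ ⊥ ∧ W ≠ ⊤ ∧
      H = subspaceStabilizer W ⊓ specialLinear (Fin n) F) ∨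
  (∃ (t m : ℕ) (D : Fin t → Submodule F (Fin n → F)), IsMDecomposition m D ∧ t * m = n ∧
      H = decompositionStabilizer D ⊓ specialLinear (Fin n) F) ∨
  (∃ (r : ℕ) (K : Subalgebra F (Mat n F)), r.Prime ∧ r ∣ n ∧ IsFieldSubalgebra r K ∧
      H = subalgebraNormalizer K ⊓ specialLinear (Fin n) F) ∨
  (∃ (n₁ n₂ : ℕ) (e : Fin n ≃ Fin n₁ × Fin n₂) (P : GL (Fin n) F), 2 ≤ n₁ ∧ n₁ < n₂ ∧ n₁ * n₂ = n ∧
      H = tensorProductSubgroup n₁ n₂ e P ⊓ specialLinear (Fin n) F) ∨
  (∃ (F₀ : Subfield F) (l : ℕ) (P : GL (Fin n) F), l.Prime ∧ Fintype.card F = Nat.card F₀ ^ l ∧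
      H = subfieldSubgroup F₀ P ⊓ specialLinear (Fin n) F) ∨
  (∃ (r m : ℕ) (R : Subgroup (GL (Fin n) F)), r.Prime ∧ 1 ≤ m ∧ n = r ^ m ∧
      IsLinearSymplecticTypeData r R ∧ H = subgroupNormalizer R ⊓ specialLinear (Fin n) F) ∨
  (∃ (m t : ℕ) (e : Fin n ≃ (Fin t → Fin m)) (P : GL (Fin n) F), 3 ≤ m ∧ 2 ≤ t ∧ m ^ t = n ∧
      H = tensorWreathSubgroup m t e P ⊓ specialLinear (Fin n) F) ∨
  FormEq H ∨
  InLinearResidualClass H

theorem maximal_cases (hn : 3 ≤ n) {H : Subgroup (GL (Fin n) F)}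
    (hH : IsMaximalIn (specialLinear (Fin n) F) H) : MaxCases H := by
  rcases outcome hn H with ⟨W, h0, h1, hle⟩ | ⟨t, m, D, hD, hle⟩ | ⟨r, K, hr, hK, hle⟩ |
    ⟨n₁, n₂, e, P, h1, h2, hle⟩ | ⟨F₀, l, P, hl, hcard, hle⟩ | ⟨r, m, R, hm, hnm, hR, hdata, hle⟩ |
    ⟨m, t, e, P, hm, ht, hle⟩ | hform | hres
  · exact .inl ⟨W, h0, h1, maximal_eq' hH hle (not_sl_le_subspace (by omega) h0 h1)⟩
  · exact .inr (.inl ⟨t, m, D, hD, decomp_card hD, maximal_eq' hH hle (not_sl_le_decomp' (by omega) hD)⟩)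
  · exact .inr (.inr (.inl ⟨r, K, hr, field_dvd (by omega) hK, hK,
      maximal_eq' hH hle (not_sl_le_field' hn hr.two_le hK)⟩))
  · refine .inr (.inr (.inr (.inl ⟨n₁, n₂, e, P, h1, h2, ?_,
      maximal_eq' hH hle (not_sl_le_tensor h1 (by omega) e P)⟩)))
    simpa using (Fintype.card_congr e).symm
  · exact .inr (.inr (.inr (.inr (.inl ⟨F₀, l, P, hl, hcard,
      maximal_eq' hH hle (not_sl_le_subfield hn (subfield_ne_top hl hcard) P)⟩))))
  · exact .inr (.inr (.inr (.inr (.inr (.inl ⟨r, m, R, hR.prime, hm, hnm, hdata,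
      maximal_eq' hH hle (not_sl_le_symType hn hR hdata)⟩)))))
  · refine .inr (.inr (.inr (.inr (.inr (.inr (.inl ⟨m, t, e, P, hm, ht, ?_,
      maximal_eq' hH hle (not_sl_le_wreath (by omega) ht e P)⟩))))))
    simpa using (Fintype.card_congr e).symm
  · exact .inr (.inr (.inr (.inr (.inr (.inr (.inr (.inl (formEq_of hn hH hform))))))))
  · exact .inr (.inr (.inr (.inr (.inr (.inr (.inr (.inr hres)))))))

end CfsgLib.Classical.AschGen
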