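import Cfsg.Agent.Lib.Classical.AschGen.Full

/-!
# Pure tensors and commuting matrix subalgebras
-/

set_option autoImplicit false
set_option linter.unusedSectionVars false

namespace CfsgLib.Classical.AschGen

open Matrix Cfsg Cfsg.Geo CfsgLib.Classical.AschPrime
open scoped MatrixGroups Kronecker

variable {F : Type*} [Field F] {n m t : ℕ}

/-- The tensor product of a family of square matrices. -/
def pureT (a : Fin t → Mat m F) : Matrix (Fin t → Fin m) (Fin t → Fin m) F :=
  Matrix.of fun x y => ∏ i, a i (x i) (y i)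

theorem pureT_apply (a : Fin t → Mat m F) (x y : Fin t → Fin m) :
    pureT a x y = ∏ i, a i (x i) (y i) := rfl

theorem pureT_mul (a b : Fin t → Mat m F) : pureT (a * b) = pureT a * pureT b := by
  ext x y
  simp only [pureT_apply, Matrix.mul_apply, Pi.mul_apply, Finset.prod_univ_sum,
    Fintype.piFinset_univ, Finset.prod_mul_distrib]

theorem pureT_one : pureT (1 : Fin t → Mat m F) = 1 := by
  ext x y
  by_cases h : x = y
  · subst h; simp [pureT_apply, Matrix.one_apply]
  · obtain ⟨i, hi⟩ := Function.ne_iff.mp h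
    rw [Matrix.one_apply_ne h, pureT_apply]
    exact Finset.prod_eq_zero (Finset.mem_univ i) (by rw [Pi.one_apply, Matrix.one_apply_ne hi])

/-- Pure tensors of invertible matrices. -/
def pureUnit (a : Fin t → GL (Fin m) F) : GL (Fin t → Fin m) F where
  val := pureT fun i => (a i : Mat m F)
  inv := pureT fun i => ((a i)⁻¹ : GL (Fin m) F)
  val_inv := by rw [← pureT_mul, ← pureT_one]; congr 1; funext i; simp
  inv_val := by rw [← pureT_mul, ← pureT_one]; congr 1; funext i; simp

theorem pureUnit_isPure (a : Fin t → GL (Fin m) F) : IsPureTensor m t (pureUnit a) :=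
  ⟨a, fun _ _ => rfl⟩

/-- Permutation of the tensor factors. -/
def permUnit (σ : Equiv.Perm (Fin t)) : GL (Fin t → Fin m) F where
  val := Matrix.of fun x y => if y = x ∘ σ then 1 else 0
  inv := Matrix.of fun x y => if y = x ∘ σ.symm then 1 else 0
  val_inv := by
    ext x y
    simp only [Matrix.mul_apply, Matrix.of_apply, ite_mul, one_mul, zero_mul, Finset.sum_ite_eq',
      Finset.mem_univ, if_true, Matrix.one_apply]
    simp [Function.comp_assoc, eq_comm]
  inv_val := by
    ext x y
    simp only [Matrix.mul_apply, Matrix.of_apply, ite_mul, one_mul, zero_mul, Finset.sum_ite_eq',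
      Finset.mem_univ, if_true, Matrix.one_apply]
    simp [Function.comp_assoc, eq_comm]

theorem permUnit_isPerm (σ : Equiv.Perm (Fin t)) :
    IsFactorPermutation m t (permUnit (F := F) σ) := ⟨σ, fun _ _ => rfl⟩

theorem perm_pure (σ : Equiv.Perm (Fin t)) (a : Fin t → Mat m F) :
    (permUnit (m := m) (F := F) σ : Matrix _ _ F) * pureT a =
      pureT (fun i => a (σ.symm i)) * (permUnit (m := m) (F := F) σ : Matrix _ _ F) := by
  ext x y
  simp only [permUnit, Matrix.mul_apply, Matrix.of_apply, ite_mul, one_mul, zero_mul, mul_ite,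
    mul_one, mul_zero, Finset.sum_ite_eq', Finset.mem_univ, if_true]
  rw [Finset.sum_eq_single (y ∘ σ.symm)]
  · rw [if_pos (by simp [Function.comp_assoc]), pureT_apply, pureT_apply, ← σ.symm.prod_comp]
    simp
  · intro z _ hz
    rw [if_neg fun h => hz (by rw [h]; simp [Function.comp_assoc])]
  · exact fun h => absurd (Finset.mem_univ _) h

/-- One matrix in one factor. -/
def emb (i : Fin t) (X : Mat m F) : Matrix (Fin t → Fin m) (Fin t → Fin m) F :=
  pureT (Pi.mulSingle i X)

theorem perm_emb (σ : Equiv.Perm (Fin t)) (i : Fin t) (X : Mat m F) :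
    (permUnit (m := m) (F := F) σ : Matrix _ _ F) * emb i X =
      emb (σ i) X * (permUnit (m := m) (F := F) σ : Matrix _ _ F) := by
  rw [emb, emb, perm_pure]
  congr 2
  funext j
  simp [Pi.mulSingle_apply, σ.symm_apply_eq]

theorem pure_emb (a : Fin t → GL (Fin m) F) (i : Fin t) (X : Mat m F) :
    (pureUnit a : Matrix _ _ F) * emb i X =
      emb i ((a i : Mat m F) * X * (((a i)⁻¹ : GL (Fin m) F) : Mat m F)) * (pureUnit a : Matrix _ _ F) := by
  show pureT _ * pureT _ = pureT _ * pureT _
  rw [← pureT_mul, ← pureT_mul]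
  congr 1
  funext j
  by_cases hj : j = i
  · subst hj; simp [mul_assoc]
  · simp [Pi.mulSingle_eq_of_ne hj]

/-- Commuting copies of a matrix algebra combine to one of the tensor power. -/
theorem exists_combine : ∀ (t : ℕ) (φ : Fin t → (Mat m F →ₐ[F] Mat n F)),
    (∀ i j, i ≠ j → ∀ X Y, Commute (φ i X) (φ j Y)) →
    ∃ Φ : Matrix (Fin t → Fin m) (Fin t → Fin m) F →ₐ[F] Mat n F,
      (∀ i X, Φ (emb i X) = φ i X) ∧
      ∀ Z, (∀ i X, Commute Z (φ i X)) → ∀ W, Commute Z (Φ W) := by
  classical
  intro t
  induction t with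
  | zero =>
    intro φ _
    let x₀ : Fin 0 → Fin m := fun i => i.elim0
    let Φ : Matrix (Fin 0 → Fin m) (Fin 0 → Fin m) F →ₐ[F] Mat n F :=
      { toFun := fun W => W x₀ x₀ • (1 : Mat n F)
        map_one' := by rw [Matrix.one_apply_eq, one_smul]
        map_mul' := fun A B => by
          rw [Matrix.mul_apply, Fintype.sum_unique, Matrix.smul_mul, one_mul, smul_smul]
          rw [show (default : Fin 0 → Fin m) = x₀ from Subsingleton.elim _ _]
        map_zero' := by rw [Matrix.zero_apply, zero_smul]
        map_add' := fun A B => by rw [Matrix.add_apply, add_smul]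
        commutes' := fun c => by
          rw [Matrix.algebraMap_matrix_apply, if_pos rfl, one_smul_eq]; rfl }
    exact ⟨Φ, fun i => i.elim0, fun Z _ W => (Commute.one_right Z).smul_right _⟩
  | succ t ih =>
    intro φ hφ
    obtain ⟨Φ', hΦ', hcom⟩ := ih (fun i => φ i.succ) fun i j hij X Y =>
      hφ _ _ (fun e => hij (Fin.succ_injective _ e)) X Y
    have hc0 : ∀ X W, Commute (φ 0 X) (Φ' W) := fun X W =>
      hcom _ (fun i Y => hφ 0 i.succ (Fin.succ_ne_zero i).symm X Y) W
    obtain ⟨Ψ, hΨ1, hΨ2⟩ := exists_prod (φ 0) Φ' hc0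
    let r := Fin.consEquiv fun _ : Fin (t + 1) => Fin m
    let R := Matrix.reindexAlgEquiv F F r.symm
    refine ⟨Ψ.comp (R : _ →ₐ[F] _), ?_, ?_⟩
    · intro i X
      show Ψ (R (emb i X)) = _
      cases i using Fin.cases with
      | zero =>
        have e : R (emb 0 X) = X ⊗ₖ (1 : Matrix (Fin t → Fin m) (Fin t → Fin m) F) := by
          ext ⟨a, x⟩ ⟨b, y⟩
          show pureT (Pi.mulSingle 0 X) (Fin.cons a x) (Fin.cons b y) = _
          rw [pureT_apply, Fin.prod_univ_succ, Matrix.kroneckerMap_apply, ← pureT_one, pureT_apply]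
          simp [Fin.succ_ne_zero]
        rw [e, hΨ1]
      | succ i =>
        have e : R (emb i.succ X) = (1 : Mat m F) ⊗ₖ emb i X := by
          ext ⟨a, x⟩ ⟨b, y⟩
          show pureT (Pi.mulSingle i.succ X) (Fin.cons a x) (Fin.cons b y) = _
          rw [pureT_apply, Fin.prod_univ_succ, Matrix.kroneckerMap_apply, emb, pureT_apply]
          congr 1
          refine Finset.prod_congr rfl fun j _ => ?_
          simp only [Fin.cons_succ]
          by_cases hj : j = i
          · subst hj; simp
          · simp [Pi.mulSingle_eq_of_ne hj, Pi.mulSingle_eq_of_ne ((Fin.succ_injective _).ne hj)]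
        rw [e, hΨ2, hΦ']
    · intro Z hZ W
      show Commute Z (Ψ (R W))
      rw [hom_eq_sum]
      refine Commute.sum_right _ _ _ fun p _ => Commute.sum_right _ _ _ fun q _ => ?_
      refine (Commute.smul_right ?_ _)
      have e : Matrix.single p q (1 : F) =
          (Matrix.single p.1 q.1 (1 : F) ⊗ₖ 1) * (1 ⊗ₖ Matrix.single p.2 q.2 (1 : F)) := by
        rw [← Matrix.mul_kronecker_mul, mul_one, one_mul, Matrix.single_kronecker_single, mul_one]
      rw [e, map_mul, hΨ1, hΨ2]
      exact (hZ 0 _).mul_right (hcom Z (fun i X => hZ i.succ X) _)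

end CfsgLib.Classical.AschGen
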