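import Cfsg.Agent.Lib.Classical.AschPrime.Basic
import Mathlib.RingTheory.Artinian.Ring
import Mathlib.RingTheory.SimpleModule.WedderburnArtin
import Mathlib.RingTheory.LittleWedderburn

/-!
# The algebra spanned by a normal subgroup of an irreducible group

It is semisimple; if its centre consists of scalars it is a matrix algebra over the ground field.
-/

set_option autoImplicit false
set_option linter.unusedSectionVars false

namespace CfsgLib.Classical.AschGen

open Matrix Cfsg Cfsg.Geo CfsgLib.Classical.AschPrime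
open scoped MatrixGroups

variable {F : Type*} [Field F] {n : ℕ}

/-- The subalgebra generated by a group of matrices. -/
noncomputable def algOf (N : Subgroup (GL (Fin n) F)) : Subalgebra F (Mat n F) :=
  Algebra.adjoin F (matrixSet N)

theorem mem_algOf {N : Subgroup (GL (Fin n) F)} {x : GL (Fin n) F} (hx : x ∈ N) :
    (x : Mat n F) ∈ algOf N := Algebra.subset_adjoin (mem_matrixSet hx)

theorem algOf_mono {N M : Subgroup (GL (Fin n) F)} (h : N ≤ M) : algOf N ≤ algOf M :=
  Algebra.adjoin_mono (matrixSet_mono h)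

/-- Conjugation by a unit. -/
noncomputable def conjHom (h : GL (Fin n) F) : Mat n F →ₐ[F] Mat n F where
  toFun x := (h : Mat n F) * x * ((h⁻¹ : GL (Fin n) F) : Mat n F)
  map_one' := by rw [mul_one, Units.mul_inv]
  map_mul' x y := by simp only [mul_assoc, Units.inv_mul_cancel_left]
  map_zero' := by rw [mul_zero, zero_mul]
  map_add' x y := by rw [mul_add, add_mul]
  commutes' c := by rw [← Algebra.commutes, mul_assoc, Units.mul_inv, mul_one]

theorem conjHom_apply (h : GL (Fin n) F) (x : Mat n F) :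
    conjHom h x = (h : Mat n F) * x * ((h⁻¹ : GL (Fin n) F) : Mat n F) := rfl

/-- `H` normalises the subalgebra `A`. -/
def NormalisedBy (A : Subalgebra F (Mat n F)) (H : Subgroup (GL (Fin n) F)) : Prop :=
  ∀ h ∈ H, ∀ x ∈ A, conjHom h x ∈ A

theorem algOf_normalised {H N : Subgroup (GL (Fin n) F)}
    (hnorm : ∀ h ∈ H, ∀ x ∈ N, h * x * h⁻¹ ∈ N) : NormalisedBy (algOf N) H := by
  intro h hh x hx
  have h1 : conjHom h x ∈ (algOf N).map (conjHom h) := ⟨x, hx, rfl⟩
  rw [algOf, AlgHom.map_adjoin] at h1
  refine Algebra.adjoin_le ?_ h1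
  rintro _ ⟨_, ⟨y, hy, rfl⟩, rfl⟩
  show conjHom h (y : Mat n F) ∈ algOf N
  rw [conjHom_apply, ← Units.val_mul, ← Units.val_mul]
  exact mem_algOf (hnorm h hh y hy)

theorem isSemisimple [Finite F] {H : Subgroup (GL (Fin n) F)} (hirr : ActsIrreducibly (matrixSet H))
    {A : Subalgebra F (Mat n F)} (hA : NormalisedBy A H) : IsSemisimpleRing A := by
  classical
  haveI : Finite A := Subtype.finite
  haveI : IsArtinianRing A := isArtinian_of_tower F (inferInstance : IsArtinian F A)
  rw [IsArtinianRing.isSemisimpleRing_iff_jacobson]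
  rw [eq_bot_iff]
  intro x hx
  by_contra hx0
  set J := Ring.jacobson A with hJ
  have hJI : J = (⊥ : Ideal A).jacobson := (Ideal.jacobson_bot).symm
  have hnil : IsNilpotent J := by rw [hJI]; exact IsArtinianRing.isNilpotent_jacobson_bot
  have hconj : ∀ h ∈ H, ∀ j ∈ J, ∃ j' ∈ J, (j' : Mat n F) = conjHom h (j : Mat n F) := by
    intro h hh j hj
    refine ⟨⟨_, hA h hh _ j.2⟩, ?_, rfl⟩
    rw [hJI, Ideal.mem_jacobson_iff] at hj ⊢
    intro y
    obtain ⟨z, hz⟩ := hj ⟨conjHom h⁻¹ (y : Mat n F), hA _ (H.inv_mem hh) _ y.2⟩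
    refine ⟨⟨conjHom h (z : Mat n F), hA h hh _ z.2⟩, ?_⟩
    rw [Ideal.mem_bot] at hz ⊢
    have e := congrArg (fun a : A => conjHom h (a : Mat n F)) hz
    simp only [Subalgebra.coe_sub, Subalgebra.coe_add, Subalgebra.coe_mul, Subalgebra.coe_one,
      Subalgebra.coe_zero, map_sub, map_add, map_mul, map_one, map_zero] at e
    refine Subtype.ext ?_
    simp only [Subalgebra.coe_sub, Subalgebra.coe_add, Subalgebra.coe_mul, Subalgebra.coe_one,
      Subalgebra.coe_zero]
    have ey : conjHom h (conjHom h⁻¹ (y : Mat n F)) = y := by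
      simp [conjHom_apply, mul_assoc]
    rwa [ey] at e
  let W : Submodule F (Fin n → F) :=
    Submodule.span F {v | ∃ j ∈ J, ∃ u, (j : Mat n F) *ᵥ u = v}
  have hWinv : ∀ s ∈ matrixSet H, ∀ v ∈ W, s *ᵥ v ∈ W := by
    rintro _ ⟨h, hh, rfl⟩ v hv
    induction hv using Submodule.span_induction with
    | mem v hv =>
      obtain ⟨j, hj, u, rfl⟩ := hv
      obtain ⟨j', hj', he⟩ := hconj h hh j hj
      refine Submodule.subset_span ⟨j', hj', (h : Mat n F) *ᵥ u, ?_⟩
      rw [he, conjHom_apply, Matrix.mulVec_mulVec, Matrix.mulVec_mulVec]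
      simp [mul_assoc]
    | zero => simp
    | add a b _ _ iha ihb => rw [Matrix.mulVec_add]; exact add_mem iha ihb
    | smul c a _ iha => rw [Matrix.mulVec_smul]; exact W.smul_mem c iha
  rcases irr_iff.mp hirr W hWinv with h | h
  · refine hx0 (Submodule.mem_bot _ |>.mpr (Subtype.ext (Matrix.ext_of_mulVec_single fun i => ?_)))
    have : (x : Mat n F) *ᵥ Pi.single i 1 ∈ W := Submodule.subset_span ⟨x, hx, _, rfl⟩
    rw [h, Submodule.mem_bot] at this
    rw [this, Subalgebra.coe_zero, Matrix.zero_mulVec]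
  · obtain ⟨N, hN⟩ := hnil
    have hup : ∀ k : ℕ, ∀ u : Fin n → F,
        u ∈ Submodule.span F {v | ∃ a ∈ J ^ k, ∃ w, (a : Mat n F) *ᵥ w = v} := by
      intro k
      induction k with
      | zero =>
        intro u
        refine Submodule.subset_span ⟨1, ?_, u, by rw [Subalgebra.coe_one, Matrix.one_mulVec]⟩
        rw [Submodule.pow_zero, Ideal.one_eq_top]
        exact Submodule.mem_top
      | succ k ih =>
        intro u
        have hu : u ∈ W := h ▸ Submodule.mem_top
        induction hu using Submodule.span_induction with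
        | mem v hv =>
          obtain ⟨j, hj, w, rfl⟩ := hv
          have hw := ih w
          induction hw using Submodule.span_induction with
          | mem v hv =>
            obtain ⟨a, ha, w', rfl⟩ := hv
            refine Submodule.subset_span ⟨j * a, ?_, w', ?_⟩
            · haveI : J.IsTwoSided := inferInstanceAs (Ring.jacobson A).IsTwoSided
              rw [Ideal.IsTwoSided.pow_succ]; exact Ideal.mul_mem_mul hj ha
            · rw [Subalgebra.coe_mul, ← Matrix.mulVec_mulVec]
          | zero => rw [Matrix.mulVec_zero]; exact Submodule.zero_mem _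
          | add a b _ _ iha ihb => rw [Matrix.mulVec_add]; exact Submodule.add_mem _ iha ihb
          | smul c a _ iha => rw [Matrix.mulVec_smul]; exact Submodule.smul_mem _ c iha
        | zero => exact Submodule.zero_mem _
        | add a b _ _ iha ihb => exact Submodule.add_mem _ iha ihb
        | smul c a _ iha => exact Submodule.smul_mem _ c iha
    refine hx0 (Submodule.mem_bot _ |>.mpr (Subtype.ext (Matrix.ext_of_mulVec_single fun i => ?_)))
    have e := hup N ((x : Mat n F) *ᵥ Pi.single i 1)
    rw [Submodule.span_eq_bot.mpr (fun v hv => by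
      obtain ⟨a, ha, w, rfl⟩ := hv
      rw [hN, Submodule.zero_eq_bot, Submodule.mem_bot] at ha
      rw [ha, Subalgebra.coe_zero, Matrix.zero_mulVec]), Submodule.mem_bot] at e
    rw [e, Subalgebra.coe_zero, Matrix.zero_mulVec]

/-- With scalar centre the algebra is a matrix algebra over `F`. -/
theorem exists_matrixHom [Finite F] (hn : 0 < n) {A : Subalgebra F (Mat n F)} [IsSemisimpleRing A]
    (hZ : ∀ z ∈ A, (∀ a ∈ A, z * a = a * z) → ∃ c : F, z = c • 1) :
    ∃ (m : ℕ) (Φ : Mat m F →ₐ[F] Mat n F), 0 < m ∧ Function.Injective Φ ∧ Φ.range = A := by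
  classical
  haveI : Finite A := Subtype.finite
  haveI : Module.Finite F A := Module.Finite.of_finite
  obtain ⟨t, D, d, iD, iA, iF, hd, ⟨e⟩⟩ :=
    IsSemisimpleRing.exists_algEquiv_pi_matrix_divisionRing_finite F A
  haveI : NeZero n := ⟨hn.ne'⟩
  have hne : (1 : A) ≠ 0 := fun h => by
    have := congrFun (congrFun (congrArg Subtype.val h) 0) 0
    simp at this
  have ht0 : 0 < t := by
    rcases Nat.eq_zero_or_pos t with rfl | h
    · exact absurd (e.injective (funext fun i => i.elim0)) hne
    · exact h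
  have hcentral : ∀ z : (i : Fin t) → Matrix (Fin (d i)) (Fin (d i)) (D i), (∀ w, z * w = w * z) →
      ∃ c : F, z = c • 1 := by
    intro z hz
    obtain ⟨c, hc⟩ := hZ (e.symm z : Mat n F) (e.symm z).2 fun a ha => by
      have h1 : e.symm z * (⟨a, ha⟩ : A) = ⟨a, ha⟩ * e.symm z := e.injective (by
        rw [map_mul, map_mul, AlgEquiv.apply_symm_apply, hz])
      exact congrArg Subtype.val h1
    refine ⟨c, e.symm.injective ?_⟩
    rw [map_smul, map_one]
    exact Subtype.ext hc
  have ht : t = 1 := by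
    by_contra ht1
    let i₀ : Fin t := ⟨0, ht0⟩
    let i₁ : Fin t := ⟨1, by omega⟩
    have h01 : i₁ ≠ i₀ := fun h => absurd (congrArg Fin.val h) (by simp [i₀, i₁])
    obtain ⟨c, hc⟩ := hcentral (Pi.single i₀ 1) fun w => by
      funext i
      by_cases hi : i = i₀
      · subst hi; simp
      · simp [hi]
    have h0 := congrFun hc i₀
    have h1 := congrFun hc i₁
    rw [Pi.single_eq_same, Pi.smul_apply, Pi.one_apply] at h0
    rw [Pi.single_eq_of_ne h01, Pi.smul_apply, Pi.one_apply] at h1
    haveI := hd i₁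
    haveI := hd i₀
    have hc0 : c = 0 := (smul_eq_zero.mp h1.symm).resolve_right one_ne_zero
    rw [hc0, zero_smul] at h0
    exact one_ne_zero h0
  subst ht
  haveI := hd 0
  haveI : Finite (D 0) := Module.finite_of_finite F
  letI : Field (D 0) := littleWedderburn (D 0)
  have hsurj : Function.Surjective (algebraMap F (D 0)) := by
    intro x
    obtain ⟨c, hc⟩ := hcentral (Pi.single 0 (Matrix.scalar (Fin (d 0)) x)) fun w => by
      funext i
      obtain rfl : i = 0 := Subsingleton.elim _ _
      simp only [Pi.mul_apply, Pi.single_eq_same]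
      exact (Matrix.scalar_commute x (fun y => mul_comm _ _) _).eq
    refine ⟨c, ?_⟩
    have h := congrFun (congrFun (congrFun hc 0) 0) 0
    simp only [Pi.single_eq_same, Pi.smul_apply, Pi.one_apply, Matrix.scalar_apply,
      Matrix.diagonal_apply_eq, Matrix.smul_apply, Matrix.one_apply_eq] at h
    rw [h, Algebra.smul_def, mul_one]
  let ψ : F ≃ₐ[F] D 0 := AlgEquiv.ofBijective (Algebra.ofId F (D 0))
    ⟨(algebraMap F (D 0)).injective, hsurj⟩
  let χ : (Π i : Fin 1, Matrix (Fin (d i)) (Fin (d i)) (D i)) ≃ₐ[F]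
      Matrix (Fin (d 0)) (Fin (d 0)) (D 0) :=
    AlgEquiv.ofBijective (Pi.evalAlgHom F _ 0)
      ⟨fun a b h => funext fun i => by obtain rfl : i = 0 := Subsingleton.elim _ _; exact h,
        fun a => ⟨fun i => Fin.cases a (fun j => j.elim0) i, rfl⟩⟩
  let E : Mat (d 0) F ≃ₐ[F] A := (ψ.mapMatrix.trans χ.symm).trans e.symm
  refine ⟨d 0, A.val.comp (E : Mat (d 0) F →ₐ[F] A), Nat.pos_of_ne_zero (NeZero.ne _),
    Subtype.val_injective.comp E.injective, ?_⟩
  ext x
  constructor
  · rintro ⟨y, rfl⟩; exact (E y).2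
  · exact fun hx => ⟨E.symm ⟨x, hx⟩, congrArg Subtype.val (E.apply_symm_apply _)⟩

end CfsgLib.Classical.AschGen
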