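import Cfsg.Agent.Lib.Classical.AschGen.Maximal

/-!
# Classes that are not maximal over very small fields
-/

set_option autoImplicit false
set_option linter.unusedSectionVars false

namespace CfsgLib.Classical.AschGen

open Matrix Cfsg Cfsg.Geo CfsgLib.Classical.AschPrime
open scoped MatrixGroups Kronecker

variable {F : Type*} [Field F] [Fintype F] {n t : ℕ}

theorem monomial_small (hn : 3 ≤ n) {H : Subgroup (GL (Fin n) F)}
    {D : Fin n → Submodule F (Fin n → F)}
    (hD : IsMDecomposition 1 D) (hle : H ≤ decompositionStabilizer D) (hq : Fintype.card F ≤ 4) :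
    (∃ W : Submodule F (Fin n → F), W ≠ ⊥ ∧ W ≠ ⊤ ∧ H ≤ subspaceStabilizer W) ∨ InFormClass H := by
  classical
  have hex : ∀ i, ∃ v : Fin n → F, v ≠ 0 ∧ D i = F ∙ v := by
    intro i
    obtain ⟨v, hv, hv0⟩ := Submodule.exists_mem_ne_zero_of_ne_bot (p := D i) fun e => by
      have := hD.finrank_eq i
      rw [e, finrank_bot] at this
      exact absurd this (by norm_num)
    refine ⟨v, hv0, (Submodule.eq_of_le_of_finrank_le
      ((Submodule.span_singleton_le_iff_mem _ _).mpr hv) ?_).symm⟩
    rw [hD.finrank_eq, finrank_span_singleton hv0]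
  choose b hb0 hb using hex
  have hli : LinearIndependent F b :=
    hD.indep.linearIndependent D (fun i => hb i ▸ Submodule.mem_span_singleton_self _) hb0
  let P : Mat n F := Matrix.of fun i j => b j i
  have hP : IsUnit P := by
    rw [← Matrix.linearIndependent_cols_iff_isUnit]; exact hli
  obtain ⟨Pu, hPu⟩ := hP
  have hmono : ∀ g ∈ H, ∃ (π : Equiv.Perm (Fin n)) (c : Fin n → F), (∀ j, c j ≠ 0) ∧
      (∀ j, (g : Mat n F) *ᵥ b j = c j • b (π j)) ∧
      ∀ i j, ((Pu⁻¹ * g * Pu⁻¹⁻¹ : GL (Fin n) F) : Mat n F) i j = if i = π j then c j else 0 := by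
    intro g hg
    obtain ⟨π, hπ⟩ := hle hg
    have hc : ∀ j, ∃ c : F, c • b (π j) = (g : Mat n F) *ᵥ b j := fun j => by
      have h1 : (g : Mat n F) *ᵥ b j ∈ D (π j) := by
        rw [← hπ j]; exact ⟨b j, hb j ▸ Submodule.mem_span_singleton_self _, by simp⟩
      rw [hb (π j)] at h1
      exact Submodule.mem_span_singleton.mp h1
    choose c hc using hc
    refine ⟨π, c, fun j h0 => ?_, fun j => (hc j).symm, fun i j => ?_⟩
    · have h1 := hc j
      rw [h0, zero_smul] at h1
      exact hb0 j (Matrix.mulVec_injective_iff_isUnit.2 g.isUnit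
        (h1.symm.trans (Matrix.mulVec_zero _).symm))
    · have hgP : (g : Mat n F) * P = P * Matrix.of fun i j => if i = π j then c j else 0 := by
        ext a k
        rw [show ((g : Mat n F) * P) a k = ((g : Mat n F) *ᵥ b k) a from rfl, ← hc k,
          Matrix.mul_apply]
        simp [P, mul_comm]
      rw [inv_inv, Units.val_mul, Units.val_mul, mul_assoc, hPu, hgP, ← mul_assoc, ← hPu,
        Units.inv_mul, one_mul, Matrix.of_apply]
  have hcard : 2 ≤ Fintype.card F := Fintype.one_lt_card
  have hpow : ∀ a : F, a ≠ 0 → a ^ (Fintype.card F - 1) = 1 := FiniteField.pow_card_sub_one_eq_one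
  rcases (show Fintype.card F = 2 ∨ Fintype.card F = 3 ∨ Fintype.card F = 4 by omega) with
    h2 | h3 | h4
  · -- the sum of the basis vectors is fixed
    refine .inl ⟨F ∙ (∑ j, b j), ?_, ?_, le_subspaceStabilizer fun g hg v hv => ?_⟩
    · rw [Ne, Submodule.span_singleton_eq_bot]
      intro h0
      exact one_ne_zero (α := F) (Fintype.linearIndependent_iff.mp hli (fun _ => 1)
        (by simpa using h0) ⟨0, by omega⟩)
    · intro htop
      have := congrArg (fun W : Submodule F (Fin n → F) => Module.finrank F W) htop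
      simp only [finrank_top, Module.finrank_fintype_fun_eq_card, Fintype.card_fin] at this
      have h1 := (finrank_span_le_card (R := F) ({∑ j, b j} : Set (Fin n → F)))
      simp at h1
      omega
    · obtain ⟨a, rfl⟩ := Submodule.mem_span_singleton.mp hv
      obtain ⟨π, c, hc0, hc, -⟩ := hmono g hg
      have h1 : ∀ j, c j = 1 := fun j => by simpa [h2] using hpow (c j) (hc0 j)
      rw [Matrix.mulVec_smul, Matrix.mulVec_sum]
      simp only [hc, h1, one_smul]
      rw [Equiv.sum_comp π b]
      exact Submodule.smul_mem _ a (Submodule.mem_span_singleton_self _)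
  · refine .inr (.inr (.inr ?_))
    have hne2 : (2 : F) ≠ 0 := by
      intro h0
      have h30 : ((3 : ℕ) : F) = 0 := by rw [← h3]; exact Nat.cast_card_eq_zero F
      push_cast at h30
      exact one_ne_zero (α := F) (by linear_combination h30 - h0)
    set f := stdForm (RingHom.id F) Pu⁻¹
    have hpol : ∀ u v, QuadraticMap.polar (fun v => f v v) u v = 2 * f u v := by
      intro u v
      have hfc : f v u = f u v := by simp [f, stdForm, mul_comm]
      simp only [QuadraticMap.polar, f, (stdForm_sesq _ _).add_left, (stdForm_sesq _ _).add_right]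
      simp only [f] at hfc
      rw [hfc]; ring
    refine ⟨fun v => f v v, ⟨fun c v => ?_, ⟨?_, ?_, ?_, ?_⟩, fun v hv => ?_⟩, by rw [h3]; decide, hn,
      fun g hg => ?_⟩
    · simp only [f, (stdForm_sesq _ _).smul_left, (stdForm_sesq _ _).smul_right, RingHom.id_apply]
      ring
    · intro x y v; simp only [hpol, f, (stdForm_sesq _ _).add_left]; ring
    · intro c x v; simp only [hpol, f, (stdForm_sesq _ _).smul_left]; ring
    · intro v x y; simp only [hpol, f, (stdForm_sesq _ _).add_right]; ring
    · intro c v x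
      simp only [hpol, f, (stdForm_sesq _ _).smul_right, RingHom.id_apply]; ring
    · obtain ⟨⟨x, hx⟩, ⟨y, hy⟩⟩ := stdForm_nondegenerate (RingHom.id F) Pu⁻¹ v hv
      exact ⟨⟨x, by rw [hpol]; exact mul_ne_zero hne2 hx⟩,
        ⟨y, by rw [hpol]; exact mul_ne_zero hne2 hy⟩⟩
    · obtain ⟨π, c, hc0, -, hc⟩ := hmono g hg
      refine ⟨1, fun v => ?_⟩
      rw [Units.val_one, one_mul]
      refine stdForm_monomial (fun j => ?_) hc v v
      have := hpow (c j) (hc0 j)
      rw [h3] at this
      simpa [pow_two] using this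
  · have h40 : ((4 : ℕ) : F) = 0 := by rw [← h4]; exact Nat.cast_card_eq_zero F
    push_cast at h40
    haveI : CharP F 2 := CharTwo.of_one_ne_zero_of_two_eq_zero one_ne_zero
      (mul_self_eq_zero.1 (by linear_combination h40))
    haveI : ExpChar F 2 := ExpChar.prime Nat.prime_two
    haveI : PerfectRing F 2 := PerfectRing.ofFiniteOfIsReduced 2 F
    let σ : F ≃+* F := frobeniusEquiv F 2
    have hσ : ∀ a, σ a = a ^ 2 := fun a => frobeniusEquiv_def F 2 a
    have hinv : ∀ a, σ (σ a) = a := fun a => by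
      rw [hσ, hσ, ← pow_mul]
      have := FiniteField.pow_card a
      rwa [h4] at this
    have hne : σ ≠ RingEquiv.refl F := by
      intro e
      have h : ∀ a : F, a = 0 ∨ a = 1 := fun a => by
        have h1 := congrArg (fun τ : F ≃+* F => τ a) e
        simp only [hσ, RingEquiv.refl_apply] at h1
        rcases mul_eq_zero.mp (show a * (a - 1) = 0 by linear_combination h1) with h | h
        · exact .inl h
        · exact .inr (sub_eq_zero.mp h)
      have hsub : (Finset.univ : Finset F) ⊆ {0, 1} := fun a _ => by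
        rcases h a with h | h <;> simp [h]
      have := (Finset.card_le_card hsub).trans Finset.card_le_two
      rw [Finset.card_univ] at this
      omega
    refine .inr (.inr (.inl
      ⟨σ, _, stdForm_herm hinv hne Pu⁻¹, hn, fun g hg => ?_⟩))
    obtain ⟨π, c, hc0, -, hc⟩ := hmono g hg
    refine ⟨1, fun u v => ?_⟩
    rw [Units.val_one, one_mul]
    refine stdForm_monomial (fun j => ?_) hc u v
    show c j * σ (c j) = 1
    have := hpow (c j) (hc0 j)
    rw [h4] at this
    rw [hσ]
    linear_combination this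

theorem card_two_cases (hq : Fintype.card F = 2) (x : F) : x = 0 ∨ x = 1 := by
  classical
  by_contra hx
  push Not at hx
  have h : ({0, 1, x} : Finset F).card = 3 :=
    Finset.card_eq_three.2 ⟨0, 1, x, zero_ne_one, fun e => hx.1 e.symm, fun e => hx.2 e.symm, rfl⟩
  have := Finset.card_le_univ ({0, 1, x} : Finset F)
  omega

/-- The form of a decomposition into planes. -/
def blockForm (E : (Fin n → F) ≃ₗ[F] (Fin t × Fin 2 → F)) (u v : Fin n → F) : F :=
  ∑ i, (E u (i, 0) * E v (i, 1) - E u (i, 1) * E v (i, 0))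

theorem two_block_symp (hn : 3 ≤ n) {H : Subgroup (GL (Fin n) F)} (hsl : H ≤ specialLinear (Fin n) F)
    {D : Fin t → Submodule F (Fin n → F)} (hD : IsMDecomposition 2 D) (hle : H ≤ decompositionStabilizer D)
    (hq : Fintype.card F = 2 ∨ (Fintype.card F = 3 ∧ t = 2)) : InFormClass H := by
  classical
  obtain ⟨E, hE1, hE2⟩ := DecompNonMax.exists_adapted hD
  have hnt : t * 2 = n := decomp_card hD
  have heven : Even n := ⟨t, by omega⟩
  have hb : IsBilinearForm (blockForm E) :=
    ⟨fun x y v => by
      simp only [blockForm, map_add, Pi.add_apply, ← Finset.sum_add_distrib]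
      exact Finset.sum_congr rfl fun i _ => by ring,
    fun c x v => by
      simp only [blockForm, map_smul, Pi.smul_apply, smul_eq_mul, Finset.mul_sum]
      exact Finset.sum_congr rfl fun i _ => by ring,
    fun v x y => by
      simp only [blockForm, map_add, Pi.add_apply, ← Finset.sum_add_distrib]
      exact Finset.sum_congr rfl fun i _ => by ring,
    fun c v x => by
      simp only [blockForm, map_smul, Pi.smul_apply, smul_eq_mul, Finset.mul_sum]
      exact Finset.sum_congr rfl fun i _ => by ring⟩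
  have hskew : ∀ u v, blockForm E u v = -blockForm E v u := fun u v => by
    simp only [blockForm, ← Finset.sum_neg_distrib]
    exact Finset.sum_congr rfl fun i _ => by ring
  have halt : ∀ v, blockForm E v v = 0 := fun v => Finset.sum_eq_zero fun i _ => by ring
  have hnd : IsNondegenerateForm (blockForm E) := by
    intro v hv
    obtain ⟨⟨i, a⟩, hia⟩ := Function.ne_iff.mp ((LinearEquiv.map_ne_zero_iff E).mpr hv)
    have hx : ∃ x, blockForm E x v ≠ 0 := by
      refine ⟨E.symm (Pi.single (i, 1 - a) 1), ?_⟩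
      simp only [blockForm, LinearEquiv.apply_symm_apply]
      rw [Finset.sum_eq_single i (fun j _ hj => by simp [hj]) (fun h => absurd (Finset.mem_univ i) h)]
      fin_cases a <;> simpa [Pi.single_apply] using hia
    obtain ⟨x, hx⟩ := hx
    exact ⟨⟨x, hx⟩, ⟨x, by rw [hskew]; exact neg_ne_zero.mpr hx⟩⟩
  refine .inl ⟨blockForm E, ⟨hb, hskew, halt, hnd⟩, heven, by rcases heven with ⟨k, hk⟩; omega,
    fun g hg => ?_⟩
  obtain ⟨σ, hσ⟩ := hle hg
  set L : (Fin t × Fin 2 → F) →ₗ[F] (Fin t × Fin 2 → F) :=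
    (E : (Fin n → F) →ₗ[F] _) ∘ₗ Matrix.toLin' (g : Mat n F) ∘ₗ
      (E.symm : (Fin t × Fin 2 → F) →ₗ[F] _) with hL
  set M := LinearMap.toMatrix' L with hM
  have hgE : ∀ x, E ((g : Mat n F) *ᵥ x) = M *ᵥ E x := fun x => by
    rw [hM, LinearMap.toMatrix'_mulVec, hL]
    simp
  have hdetM : M.det = 1 := by
    rw [hM, LinearMap.det_toMatrix', hL, LinearMap.det_conj, LinearMap.det_toLin']
    exact mem_sl_iff.mp (hsl hg)
  have hzero : ∀ i j a b, j ≠ i → M (σ i, a) (j, b) = 0 := by
    intro i j a b hji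
    rw [hM, LinearMap.toMatrix'_apply, hL]
    simp only [LinearMap.comp_apply, LinearEquiv.coe_coe, Matrix.toLin'_apply]
    refine hE2 (σ j) _ ?_ _ _ (σ.injective.ne hji.symm)
    rw [← hσ j]
    exact ⟨E.symm (Pi.single (j, b) 1), hE1 j b, by simp [Pi.single_apply]⟩
  have hcoord : ∀ x i a, E ((g : Mat n F) *ᵥ x) (σ i, a) =
      M (σ i, a) (i, 0) * E x (i, 0) + M (σ i, a) (i, 1) * E x (i, 1) := by
    intro x i a
    rw [hgE, Matrix.mulVec, dotProduct, Fintype.sum_prod_type,
      Finset.sum_eq_single i (fun j _ hj => Finset.sum_eq_zero fun b _ => by rw [hzero i j a b hj, zero_mul])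
        (fun h => absurd (Finset.mem_univ i) h), Fin.sum_univ_two]
  set d : Fin t → F := fun i =>
    M (σ i, 0) (i, 0) * M (σ i, 1) (i, 1) - M (σ i, 0) (i, 1) * M (σ i, 1) (i, 0) with hd
  have hform : ∀ u v, blockForm E ((g : Mat n F) *ᵥ u) ((g : Mat n F) *ᵥ v) =
      ∑ i, d i * (E u (i, 0) * E v (i, 1) - E u (i, 1) * E v (i, 0)) := by
    intro u v
    rw [blockForm, ← Equiv.sum_comp σ]
    refine Finset.sum_congr rfl fun i _ => ?_
    rw [hcoord, hcoord, hcoord, hcoord, hd]
    ring
  have hd0 : ∀ i, d i ≠ 0 := by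
    intro i h0
    let N : Matrix (Fin 2) (Fin 2) F := fun a b => M (σ i, a) (i, b)
    obtain ⟨w, hw, hNw⟩ := Matrix.exists_mulVec_eq_zero_iff.mpr
      (show N.det = 0 by rw [Matrix.det_fin_two]; exact h0)
    let x := E.symm fun p => if p.1 = i then w p.2 else 0
    have hx : x ≠ 0 := fun h => hw (by
      have h1 := congrArg E h
      rw [LinearEquiv.apply_symm_apply, map_zero] at h1
      funext b
      simpa using congrFun h1 (i, b))
    refine hx (Matrix.mulVec_injective_iff_isUnit.mpr g.isUnit (E.injective ?_))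
    rw [Matrix.mulVec_zero, map_zero]
    funext p
    obtain ⟨j, a⟩ := p
    obtain ⟨j, rfl⟩ := σ.surjective j
    rw [hcoord, Pi.zero_apply]
    simp only [x, LinearEquiv.apply_symm_apply]
    by_cases hj : j = i
    · subst hj
      have := congrFun hNw a
      simpa [N, Matrix.mulVec, dotProduct, Fin.sum_univ_two] using this
    · simp [hj]
  obtain ⟨c, hc, hdc⟩ : ∃ c : F, c ≠ 0 ∧ ∀ i, d i = c := by
    rcases hq with hq | ⟨hq, rfl⟩
    · exact ⟨1, one_ne_zero, fun i => (card_two_cases hq (d i)).resolve_left (hd0 i)⟩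
    · refine ⟨d 0, hd0 0, ?_⟩
      have hσ2 : (σ 0 = 0 ∧ σ 1 = 1) ∨ (σ 0 = 1 ∧ σ 1 = 0) := by
        have h1 : σ 0 ≠ σ 1 := σ.injective.ne (by decide)
        revert h1
        generalize σ 0 = a
        generalize σ 1 = b
        revert a b
        decide
      have hprod : d 0 * d 1 = 1 := by
        rw [← hdetM, ← Matrix.det_submatrix_equiv_self (finProdFinEquiv (m := 2) (n := 2)).symm M,
          Matrix.det_succ_row_zero]
        have e0 : (finProdFinEquiv (m := 2) (n := 2)).symm 0 = (0, 0) := by decide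
        have e1 : (finProdFinEquiv (m := 2) (n := 2)).symm 1 = (0, 1) := by decide
        have e2 : (finProdFinEquiv (m := 2) (n := 2)).symm 2 = (1, 0) := by decide
        have e3 : (finProdFinEquiv (m := 2) (n := 2)).symm 3 = (1, 1) := by decide
        rcases hσ2 with ⟨s0, s1⟩ | ⟨s0, s1⟩
        · have z0 : ∀ a b, M (0, a) (1, b) = 0 := fun a b => s0 ▸ hzero 0 1 a b (by decide)
          have z1 : ∀ a b, M (1, a) (0, b) = 0 := fun a b => s1 ▸ hzero 1 0 a b (by decide)
          simp [hd, s0, s1, Matrix.det_succ_row_zero, Fin.sum_univ_succ, Fin.succAbove, e0, e1, e2, e3, z0, z1]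
          ring
        · have z0 : ∀ a b, M (1, a) (1, b) = 0 := fun a b => s0 ▸ hzero 0 1 a b (by decide)
          have z1 : ∀ a b, M (0, a) (0, b) = 0 := fun a b => s1 ▸ hzero 1 0 a b (by decide)
          simp [hd, s0, s1, Matrix.det_succ_row_zero, Fin.sum_univ_succ, Fin.succAbove, e0, e1, e2, e3, z0, z1]
          ring
      have hsq : d 0 * d 0 = 1 := by
        have := FiniteField.pow_card_sub_one_eq_one (d 0) (hd0 0)
        rw [hq] at this
        rw [← pow_two]; exact this
      intro i
      fin_cases i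
      · rfl
      · show d 1 = d 0
        linear_combination (-(d 1)) * hsq + d 0 * hprod
  refine ⟨Units.mk0 c hc, fun u v => ?_⟩
  rw [hform, Units.val_mk0, blockForm, Finset.mul_sum]
  exact Finset.sum_congr rfl fun i _ => by rw [hdc]

theorem omega_conj (hq : Fintype.card F = 2) (a : GL (Fin 2) F) :
    (a : Mat 2 F) * !![0, 1; 1, 1] = !![(0 : F), 1; 1, 1] * (a : Mat 2 F) ∨
      (a : Mat 2 F) * !![0, 1; 1, 1] = (!![(0 : F), 1; 1, 1] + 1) * (a : Mat 2 F) := by
  have hdet : (a : Mat 2 F).det ≠ 0 := ((Matrix.isUnit_iff_isUnit_det _).mp a.isUnit).ne_zero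
  rw [Matrix.det_fin_two] at hdet
  have h11 : (1 : F) + 1 = 0 := by
    have := Nat.cast_card_eq_zero F
    rw [hq] at this
    rw [← this]; norm_num
  rcases card_two_cases hq (a.1 0 0) with e0 | e0 <;> rcases card_two_cases hq (a.1 0 1) with e1 | e1 <;>
    rcases card_two_cases hq (a.1 1 0) with e2 | e2 <;> rcases card_two_cases hq (a.1 1 1) with e3 | e3 <;>
      rw [e0, e1, e2, e3] at hdet <;>
      first
        | (exfalso; exact hdet (by ring1); done)
        | (left; ext i j; fin_cases i <;> fin_cases j <;> simp [Matrix.mul_apply, e0, e1, e2, e3, h11]; done)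
        | (right; ext i j; fin_cases i <;> fin_cases j <;> simp [Matrix.mul_apply, e0, e1, e2, e3, h11]; done)

/-- Over two elements a tensor product with a plane normalises an extension field. -/
theorem tensor_two_field (hq : Fintype.card F = 2) {k : ℕ} (hk : 0 < k) (e : Fin n ≃ Fin 2 × Fin k)
    (P : GL (Fin n) F) :
    ∃ K : Subalgebra F (Mat n F), IsFieldSubalgebra 2 K ∧
      tensorProductSubgroup 2 k e P ≤ subalgebraNormalizer K := by
  classical
  set ω : Mat 2 F := !![0, 1; 1, 1] with hω
  let Ψ : Mat 2 F →ₐ[F] Mat n F :=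
    { toFun := fun X => (P : Mat n F) * stdHom e X * ((P⁻¹ : GL (Fin n) F) : Mat n F)
      map_one' := by
        rw [stdHom, Matrix.one_kronecker_one, ← Matrix.reindexAlgEquiv_apply F F, map_one, mul_one,
          Units.mul_inv]
      map_mul' := fun X Y => by
        rw [stdHom, stdHom, stdHom, ← Matrix.reindexAlgEquiv_apply F F, ← Matrix.reindexAlgEquiv_apply F F,
          ← Matrix.reindexAlgEquiv_apply F F,
          show (X * Y) ⊗ₖ (1 : Mat k F) = (X ⊗ₖ 1) * (Y ⊗ₖ 1) by rw [← Matrix.mul_kronecker_mul, one_mul],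
          map_mul]
        simp only [mul_assoc, Units.inv_mul_cancel_left]
      map_zero' := by
        rw [stdHom, Matrix.zero_kronecker, ← Matrix.reindexAlgEquiv_apply F F, map_zero, mul_zero, zero_mul]
      map_add' := fun X Y => by
        rw [stdHom, stdHom, stdHom, Matrix.add_kronecker, ← Matrix.reindexAlgEquiv_apply F F,
          ← Matrix.reindexAlgEquiv_apply F F, ← Matrix.reindexAlgEquiv_apply F F, map_add, mul_add, add_mul]
      commutes' := fun c => by
        rw [one_smul_eq, one_smul_eq, stdHom, Matrix.smul_kronecker, Matrix.one_kronecker_one,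
          ← Matrix.reindexAlgEquiv_apply F F, map_smul, map_one, Matrix.mul_smul, mul_one, Matrix.smul_mul,
          Units.mul_inv] }
  have hωω : ω * ω = ω + 1 := by
    have h11 : (1 : F) + 1 = 0 := by
      have := Nat.cast_card_eq_zero F
      rw [hq] at this
      rw [← this]; norm_num
    ext i j
    fin_cases i <;> fin_cases j <;> simp [hω, Matrix.mul_apply, Fin.sum_univ_two, h11]
  let K : Subalgebra F (Mat n F) :=
    { carrier := {M | ∃ x y : F, M = Ψ (x • 1 + y • ω)}
      mul_mem' := by
        rintro _ _ ⟨x, y, rfl⟩ ⟨x', y', rfl⟩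
        refine ⟨x * x' + y * y', x * y' + y * x' + y * y', ?_⟩
        rw [← map_mul]
        congr 1
        simp only [add_mul, mul_add, smul_mul_smul_comm, one_mul, mul_one, hωω, smul_add, add_smul]
        abel
      one_mem' := ⟨1, 0, by rw [one_smul, zero_smul, add_zero, map_one]⟩
      add_mem' := by
        rintro _ _ ⟨x, y, rfl⟩ ⟨x', y', rfl⟩
        refine ⟨x + x', y + y', ?_⟩
        rw [← map_add]
        congr 1
        simp only [add_smul]
        abel
      zero_mem' := ⟨0, 0, by rw [zero_smul, zero_smul, add_zero, map_zero]⟩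
      algebraMap_mem' := fun c => ⟨c, 0, by rw [zero_smul, add_zero, map_smul, map_one, one_smul_eq]⟩ }
  have hΨ : Function.Injective Ψ := fun X Y h => by
    refine stdHom_injective (e := e) hk ?_
    have := congrArg (fun Z => ((P⁻¹ : GL (Fin n) F) : Mat n F) * Z * (P : Mat n F)) h
    simpa [Ψ, mul_assoc] using this
  have hωind : ∀ x y : F, x • (1 : Mat 2 F) + y • ω = 0 → x = 0 ∧ y = 0 := fun x y h => by
    have h0 := congrFun (congrFun h 0) 0
    have h1 := congrFun (congrFun h 0) 1
    simp [hω] at h0 h1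
    exact ⟨h0, h1⟩
  refine ⟨K, ⟨?_, ?_, ?_⟩, ?_⟩
  · rintro _ ⟨x, y, rfl⟩ _ ⟨x', y', rfl⟩
    rw [← map_mul, ← map_mul]
    congr 1
    simp only [add_mul, mul_add, smul_mul_smul_comm, one_mul, mul_one, mul_comm x x', mul_comm x y',
      mul_comm y x', mul_comm y y']
    abel
  · rintro _ ⟨x, y, rfl⟩ hne
    have h20 : (1 : F) + 1 = 0 := by
      have := Nat.cast_card_eq_zero F
      rw [hq] at this
      rw [← this]; norm_num
    have h2ω : ω + ω = 0 := by rw [← one_smul F ω, ← add_smul, h20, zero_smul]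
    rcases card_two_cases hq x with rfl | rfl <;> rcases card_two_cases hq y with rfl | rfl
    · exact absurd (by rw [zero_smul, zero_smul, add_zero, map_zero]) hne
    · refine ⟨Ψ ((1 : F) • 1 + (1 : F) • ω), ⟨1, 1, rfl⟩, ?_⟩
      rw [← map_mul, zero_smul, zero_add, one_smul, one_smul, mul_add, mul_one, hωω]
      refine (congrArg Ψ ?_).trans (map_one Ψ)
      rw [← add_assoc, h2ω, zero_add]
    · refine ⟨Ψ ((1 : F) • 1 + (0 : F) • ω), ⟨1, 0, rfl⟩, ?_⟩
      rw [zero_smul, add_zero, one_smul, map_one, one_mul]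
    · refine ⟨Ψ ((0 : F) • 1 + (1 : F) • ω), ⟨0, 1, rfl⟩, ?_⟩
      rw [← map_mul, zero_smul, zero_add, one_smul, one_smul, add_mul, one_mul, hωω]
      refine (congrArg Ψ ?_).trans (map_one Ψ)
      rw [← add_assoc, h2ω, zero_add]
  · let L : F × F →ₗ[F] Mat n F :=
      { toFun := fun p => Ψ (p.1 • 1 + p.2 • ω)
        map_add' := fun p q => by
          rw [← map_add]; congr 1; simp only [Prod.fst_add, Prod.snd_add, add_smul]; abel
        map_smul' := fun c p => by
          rw [RingHom.id_apply, ← map_smul Ψ, smul_add, smul_smul, smul_smul]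
          rfl }
    have hrange : LinearMap.range L = Subalgebra.toSubmodule K := by
      ext M
      exact ⟨fun ⟨p, hp⟩ => ⟨p.1, p.2, hp.symm⟩, fun ⟨x, y, h⟩ => ⟨(x, y), h.symm⟩⟩
    have hinj : Function.Injective L := by
      rw [← LinearMap.ker_eq_bot, Submodule.eq_bot_iff]
      intro p hp
      obtain ⟨h0, h1⟩ := hωind _ _ (hΨ (hp.trans (map_zero Ψ).symm))
      exact Prod.ext h0 h1
    rw [← Subalgebra.finrank_toSubmodule, ← hrange, LinearMap.finrank_range_of_inj hinj,
      Module.finrank_prod, Module.finrank_self]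
  · refine le_normalizer_of_normalised ?_
    rintro g ⟨_, ⟨w, ⟨a, b, hab⟩, rfl⟩, rfl⟩ _ ⟨x, y, rfl⟩
    set g : GL (Fin n) F := (MulAut.conj P).toMonoidHom ((glReindex e.symm).toMonoidHom w) with hg
    have hgval : (g : Mat n F) = (P : Mat n F) *
        Matrix.reindexAlgEquiv F F e.symm ((a : Mat 2 F) ⊗ₖ (b : Mat k F)) *
          ((P⁻¹ : GL (Fin n) F) : Mat n F) := by
      rw [← hab]; rfl
    have hcomm : ∀ X Y : Mat 2 F, (a : Mat 2 F) * X = Y * (a : Mat 2 F) → conjHom g (Ψ X) = Ψ Y := by
      intro X Y h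
      have h1 : (g : Mat n F) * Ψ X = Ψ Y * (g : Mat n F) := by
        show (g : Mat n F) * ((P : Mat n F) * stdHom e X * _) = ((P : Mat n F) * stdHom e Y * _) * _
        rw [hgval, stdHom, stdHom, ← Matrix.reindexAlgEquiv_apply F F, ← Matrix.reindexAlgEquiv_apply F F]
        simp only [mul_assoc, Units.inv_mul_cancel_left]
        simp only [← mul_assoc _ _ ((P⁻¹ : GL (Fin n) F) : Mat n F), ← map_mul, ← Matrix.mul_kronecker_mul,
          h, one_mul, mul_one]
      rw [conjHom_apply, h1, Units.mul_inv_cancel_right]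
    rcases omega_conj hq a with h | h
    · refine ⟨x, y, hcomm _ _ ?_⟩
      rw [mul_add, add_mul, Matrix.mul_smul, mul_one, Matrix.smul_mul, one_mul, Matrix.mul_smul, h,
        Matrix.smul_mul]
    · refine ⟨x + y, y, hcomm _ _ ?_⟩
      rw [mul_add, Matrix.mul_smul, mul_one, Matrix.mul_smul, h, add_smul]
      simp only [add_mul, Matrix.smul_mul, one_mul, smul_add, hω]
      abel

end CfsgLib.Classical.AschGen
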