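import Cfsg.Agent.Lib.Classical.AschGen.Full
import Cfsg.Agent.Lib.Classical.AschPrime.Symplectic

/-!
# A minimal normal subgroup with central commutators gives a group of symplectic type
-/

set_option autoImplicit false
set_option linter.unusedSectionVars false

namespace CfsgLib.Classical.AschGen

open Matrix Cfsg Cfsg.Geo CfsgLib.Classical.AschPrime
open scoped MatrixGroups commutatorElement

variable {F : Type*} [Field F] {n : ℕ}

/-- A full group with central commutators and exponent `r * gcd 2 r`. -/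
structure SymType (r : ℕ) (R : Subgroup (GL (Fin n) F)) : Prop where
  prime : r.Prime
  comm : ∀ a ∈ R, ∀ b ∈ R, a * b * a⁻¹ * b⁻¹ ∈ scalars (Fin n) F
  pow_eq : ∀ x ∈ R, x ^ (r * Nat.gcd 2 r) = 1
  full : algOf R = ⊤
  dvd : r ∣ Nat.card F - 1
  mem_of_pow : ∀ x ∈ scalars (Fin n) F, x ^ (r * Nat.gcd 2 r) = 1 → x ∈ R

theorem scalar_unit (c : Fˣ) :
    ((Units.map (Matrix.scalar (Fin n) : F →+* Mat n F).toMonoidHom c : GL (Fin n) F) : Mat n F) =
      (c : F) • 1 := by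
  simp [Matrix.smul_one_eq_diagonal]

theorem scalar_pow_eq_one (hn : 0 < n) {z : GL (Fin n) F} {c : F} (hc : (z : Mat n F) = c • 1) {r : ℕ}
    (hz : z ^ r = 1) : c ^ r = 1 := by
  haveI : NeZero n := ⟨hn.ne'⟩
  have h := congrArg Units.val hz
  rw [Units.val_pow_eq_pow_val, hc, smul_pow, one_pow, Units.val_one] at h
  simpa using congrFun (congrFun h 0) 0

theorem sq_pow_choose {c : F} {r : ℕ} (hc : c ^ r = 1) : (c ^ r.choose 2) * (c ^ r.choose 2) = 1 := by
  rw [← pow_add, ← two_mul, Nat.choose_two_right,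
    Nat.mul_div_cancel' (Nat.two_dvd_mul_sub_one r), pow_mul, hc, one_pow]

theorem pow_choose_ext {G : Type*} [Monoid G] {z : G} {r : ℕ} (hr : r.Prime) (hz : z ^ r = 1) :
    z ^ (r * Nat.gcd 2 r).choose 2 = 1 := by
  suffices h : r ∣ (r * Nat.gcd 2 r).choose 2 by
    obtain ⟨k, hk⟩ := h; rw [hk, pow_mul, hz, one_pow]
  rcases hr.eq_two_or_odd' with rfl | hodd
  · decide
  · rw [show Nat.gcd 2 r = 1 from Nat.coprime_two_left.mpr hodd, mul_one, Nat.choose_two_right]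
    obtain ⟨k, hk⟩ := hodd
    exact ⟨k, by rw [show r - 1 = 2 * k by omega, ← mul_assoc, mul_comm r 2, mul_assoc,
      Nat.mul_div_cancel_left _ two_pos]⟩

theorem algOf_comm_false (hn : 2 ≤ n) {M : Subgroup (GL (Fin n) F)} (hfull : algOf M = ⊤)
    (hc : ∀ x ∈ M, ∀ y ∈ M, x * y = y * x) : False :=
  not_absIrred_of_comm hn hc (full_absIrred (by omega) hfull)

theorem exists_symType_data [Finite F] (hn : 2 ≤ n) {H M : Subgroup (GL (Fin n) F)}
    (hall : AllFull H) (hM : M ≤ H) (hMn : ∀ h ∈ H, ∀ x ∈ M, h * x * h⁻¹ ∈ M)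
    (hM0 : ¬ M ≤ scalars (Fin n) F)
    (hmin : ∀ L ≤ M, (∀ h ∈ H, ∀ x ∈ L, h * x * h⁻¹ ∈ L) → ¬ L ≤ scalars (Fin n) F → L = M)
    (hMM : ⁅M, M⁆ ≤ scalars (Fin n) F) :
    ∃ (r : ℕ) (R : Subgroup (GL (Fin n) F)), SymType r R ∧ R ≤ M ⊔ scalars (Fin n) F ∧
      (∀ h ∈ H, ∀ x ∈ R, h * x * h⁻¹ ∈ R) ∧
      ∀ A ≤ R, (∀ h ∈ H, ∀ x ∈ A, h * x * h⁻¹ ∈ A) → (∀ x ∈ A, ∀ y ∈ A, x * y = y * x) →
        A ≤ scalars (Fin n) F := by
  classical
  haveI : Finite (GL (Fin n) F) := inferInstance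
  have hn0 : 0 < n := by omega
  have hfull := hall M hM hMn hM0
  set π := QuotientGroup.mk' (scalars (Fin n) F) with hπ
  have hker : ∀ {x}, x ∈ scalars (Fin n) F ↔ π x = 1 := fun {x} =>
    (QuotientGroup.eq_one_iff x).symm
  have hcom : ∀ x ∈ M, ∀ y ∈ M, Commute (π x) (π y) := fun x hx y hy => by
    have := hker.mp (hMM (Subgroup.commutator_mem_commutator hx hy))
    rw [map_commutatorElement] at this
    exact commutatorElement_eq_one_iff_mul_comm.mp this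
  -- the prime
  haveI : Nontrivial (M.map π) := by
    rw [Subgroup.nontrivial_iff_ne_bot, ne_eq, Subgroup.map_eq_bot_iff, QuotientGroup.ker_mk']
    exact hM0
  set r := (Nat.card (M.map π)).minFac
  have hr : r.Prime := Nat.minFac_prime (Finite.one_lt_card).ne'
  haveI := Fact.mk hr
  have hpowr : ∀ x ∈ M, x ^ r ∈ scalars (Fin n) F := by
    let L : Subgroup (GL (Fin n) F) :=
      { carrier := {x | x ∈ M ∧ π x ^ r = 1}
        one_mem' := ⟨M.one_mem, by rw [map_one, one_pow]⟩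
        mul_mem' := fun {a b} ha hb => ⟨M.mul_mem ha.1 hb.1, by
          rw [map_mul, (hcom a ha.1 b hb.1).mul_pow, ha.2, hb.2, one_mul]⟩
        inv_mem' := fun {a} ha => ⟨M.inv_mem ha.1, by rw [map_inv, inv_pow, ha.2, inv_one]⟩ }
    have hL : L = M := hmin L (fun x hx => hx.1) (fun h hh x hx => ⟨hMn h hh x hx.1, by
      rw [map_mul, map_mul, map_inv, conj_pow, hx.2, mul_one, mul_inv_cancel]⟩) fun hsc => by
      obtain ⟨q, hq⟩ := exists_prime_orderOf_dvd_card' r (Nat.minFac_dvd (Nat.card (M.map π)))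
      obtain ⟨x, hx, hxq⟩ := Subgroup.mem_map.mp q.2
      have hmem : x ∈ L := ⟨hx, by
        rw [hxq, ← Subgroup.coe_pow, ← hq, pow_orderOf_eq_one, Subgroup.coe_one]⟩
      have h1 : q = 1 := Subtype.ext (by rw [← hxq, hker.mp (hsc hmem), Subgroup.coe_one])
      rw [h1, orderOf_one] at hq
      exact hr.one_lt.ne hq
    intro x hx
    rw [hker, map_pow]
    exact (hL.symm ▸ hx : x ∈ L).2
  -- elements of the product with the scalars
  set MS := M ⊔ scalars (Fin n) F with hMS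
  have hrep : ∀ a ∈ MS, ∃ x ∈ M, ∃ s ∈ scalars (Fin n) F, x * s = a := fun a ha =>
    Subgroup.mem_sup_of_normal_right.mp ha
  have hπMS : ∀ a ∈ MS, ∃ x ∈ M, π a = π x := fun a ha => by
    obtain ⟨x, hx, s, hs, rfl⟩ := hrep a ha
    exact ⟨x, hx, by rw [map_mul, hker.mp hs, mul_one]⟩
  have hshift : ∀ a ∈ MS, ∀ b ∈ MS, ∃ z : GL (Fin n) F, z ∈ scalars (Fin n) F ∧ z ^ r = 1 ∧
      b * a = z * a * b := by
    intro a ha b hb
    refine ⟨b * a * b⁻¹ * a⁻¹, ?_, ?_, by group⟩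
    · obtain ⟨x, hx, hxe⟩ := hπMS a ha
      obtain ⟨y, hy, hye⟩ := hπMS b hb
      rw [hker, map_mul, map_mul, map_mul, map_inv, map_inv, hxe, hye, (hcom y hy x hx).eq]
      group
    · set z := b * a * b⁻¹ * a⁻¹ with hz
      have hzs : z ∈ scalars (Fin n) F := by
        obtain ⟨x, hx, hxe⟩ := hπMS a ha
        obtain ⟨y, hy, hye⟩ := hπMS b hb
        rw [hker, map_mul, map_mul, map_mul, map_inv, map_inv, hxe, hye, (hcom y hy x hx).eq]
        group
      have har : a ^ r ∈ scalars (Fin n) F := by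
        obtain ⟨x, hx, hxe⟩ := hπMS a ha
        rw [hker, map_pow, hxe, ← map_pow, ← hker]
        exact hpowr x hx
      have e1 : (b * a * b⁻¹) ^ r = z ^ r * a ^ r := by
        rw [show b * a * b⁻¹ = z * a by rw [hz]; group]
        exact (show Commute z a from scalars_comm hzs a).mul_pow r
      rw [conj_pow, show b * a ^ r * b⁻¹ = a ^ r by
        rw [← scalars_comm har b, mul_inv_cancel_right]] at e1
      exact (mul_eq_right (b := a ^ r)).mp e1.symm
  have hmulpow : ∀ a ∈ MS, ∀ b ∈ MS, ∃ z : GL (Fin n) F, z ∈ scalars (Fin n) F ∧ z ^ r = 1 ∧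
      ∀ k, (a * b) ^ k = a ^ k * b ^ k * z ^ k.choose 2 := by
    intro a ha b hb
    obtain ⟨z, hz, hzr, h⟩ := hshift a ha b hb
    exact ⟨z, hz, hzr, mul_pow_shift (fun g => scalars_comm hz g) h⟩
  -- a non-commuting pair
  obtain ⟨x₀, hx₀, y₀, hy₀, hne₀⟩ : ∃ x ∈ M, ∃ y ∈ M, x * y ≠ y * x := by
    by_contra hall'
    push Not at hall'
    exact algOf_comm_false hn hfull hall'
  have hdvd : r ∣ Nat.card F - 1 := by
    obtain ⟨z, hz, hzr, hzb⟩ := hshift x₀ (Subgroup.mem_sup_left hx₀) y₀ (Subgroup.mem_sup_left hy₀)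
    have hz1 : z ≠ 1 := fun e => hne₀ (by rw [hzb, e, one_mul])
    obtain ⟨c, hc⟩ := (mem_scalars_iff z).mp hz
    have hcr : c ^ r = 1 := Units.ext (by
      rw [Units.val_pow_eq_pow_val, scalar_pow_eq_one hn0 hc hzr, Units.val_one])
    have hc1 : c ≠ 1 := fun e => hz1 (Units.ext (by rw [hc, e, Units.val_one, one_smul, Units.val_one]))
    have ho : orderOf c = r := orderOf_eq_prime hcr hc1
    rw [← ho, ← Nat.card_units]
    exact orderOf_dvd_natCard c
  -- the covering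
  let Pc : GL (Fin n) F → Prop := fun x =>
    ∃ b s : F, b ≠ 0 ∧ s * s = 1 ∧ ((x ^ r : GL (Fin n) F) : Mat n F) = (s * b ^ r) • 1
  let L' : Subgroup (GL (Fin n) F) :=
    { carrier := {x | x ∈ M ∧ Pc x}
      one_mem' := ⟨M.one_mem, 1, 1, one_ne_zero, one_mul 1, by simp⟩
      mul_mem' := fun {x y} hx hy => by
        refine ⟨M.mul_mem hx.1 hy.1, ?_⟩
        obtain ⟨b, s, hb, hs, hbs⟩ := hx.2
        obtain ⟨b', s', hb', hs', hbs'⟩ := hy.2
        obtain ⟨z, hz, hzr, hpow⟩ :=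
          hmulpow x (Subgroup.mem_sup_left hx.1) y (Subgroup.mem_sup_left hy.1)
        obtain ⟨c, hc⟩ := (mem_scalars_iff z).mp hz
        have hcr : (c : F) ^ r = 1 := scalar_pow_eq_one hn0 hc hzr
        refine ⟨b * b', s * s' * (c : F) ^ r.choose 2, mul_ne_zero hb hb', ?_, ?_⟩
        · have := sq_pow_choose hcr
          linear_combination (s' * s' * ((c : F) ^ r.choose 2 * (c : F) ^ r.choose 2)) * hs +
            ((c : F) ^ r.choose 2 * (c : F) ^ r.choose 2) * hs' + this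
        · rw [hpow, Units.val_mul, Units.val_mul, hbs, hbs', Units.val_pow_eq_pow_val z, hc, smul_pow,
            one_pow, smul_mul_smul_comm, one_mul, smul_mul_smul_comm, one_mul]
          congr 1
          ring
      inv_mem' := fun {x} hx => by
        refine ⟨M.inv_mem hx.1, ?_⟩
        obtain ⟨b, s, hb, hs, hbs⟩ := hx.2
        refine ⟨b⁻¹, s, inv_ne_zero hb, hs, ?_⟩
        rw [inv_pow]
        refine Units.inv_eq_of_mul_eq_one_right ?_
        rw [hbs, smul_mul_smul_comm, one_mul, show s * b ^ r * (s * b⁻¹ ^ r) = (s * s) * (b * b⁻¹) ^ r by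
          rw [mul_pow]; ring, hs, mul_inv_cancel₀ hb, one_pow, one_mul, one_smul] }
  have hL'M : L' = M := by
    refine hmin L' (fun x hx => hx.1) (fun h hh x hx => ⟨hMn h hh x hx.1, ?_⟩) fun hsc => ?_
    · obtain ⟨b, s, hb, hs, hbs⟩ := hx.2
      refine ⟨b, s, hb, hs, ?_⟩
      rw [conj_pow, Units.val_mul, Units.val_mul, hbs, Matrix.mul_smul, mul_one, Matrix.smul_mul,
        Units.mul_inv]
    · obtain ⟨g, hg⟩ := IsCyclic.exists_generator (α := Fˣ)
      have hgen : ∀ x ∈ M, ∃ i : ℕ, ((x ^ r : GL (Fin n) F) : Mat n F) = ((g : F) ^ i) • 1 := by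
        intro x hx
        obtain ⟨c, hc⟩ := (mem_scalars_iff _).mp (hpowr x hx)
        obtain ⟨i, rfl⟩ : ∃ i : ℕ, g ^ i = c := mem_powers_iff_mem_zpowers.mpr (hg c)
        exact ⟨i, by rw [hc, Units.val_pow_eq_pow_val]⟩
      have hpow_mem : ∀ x ∈ M, ∀ i : ℕ, r ∣ i → ((x ^ r : GL (Fin n) F) : Mat n F) = ((g : F) ^ i) • 1 →
          x ∈ L' := by
        rintro x hx _ ⟨k, rfl⟩ e
        refine ⟨hx, (g : F) ^ k, 1, pow_ne_zero _ g.ne_zero, one_mul 1, ?_⟩
        rw [e, one_mul, ← pow_mul, mul_comm k r]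
      obtain ⟨i, hi⟩ := hgen x₀ hx₀
      obtain ⟨j, hj⟩ := hgen y₀ hy₀
      by_cases hri : r ∣ i
      · exact hne₀ (scalars_comm (hsc (hpow_mem x₀ hx₀ i hri hi)) y₀)
      obtain ⟨k, hk⟩ : ∃ k : ℕ, r ∣ j + k * i := by
        have hi0 : (i : ZMod r) ≠ 0 := fun e => hri ((ZMod.natCast_eq_zero_iff i r).mp e)
        refine ⟨((-(j : ZMod r)) / i).val, (ZMod.natCast_eq_zero_iff _ r).mp ?_⟩
        rw [Nat.cast_add, Nat.cast_mul, ZMod.natCast_val, ZMod.cast_id, div_mul_cancel₀ _ hi0,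
          add_neg_cancel]
      have hw : x₀ ^ k * y₀ ∈ M := M.mul_mem (M.pow_mem hx₀ k) hy₀
      obtain ⟨z, hz, hzr, hpow⟩ :=
        hmulpow (x₀ ^ k) (Subgroup.mem_sup_left (M.pow_mem hx₀ k)) y₀ (Subgroup.mem_sup_left hy₀)
      obtain ⟨c, hc⟩ := (mem_scalars_iff z).mp hz
      have hcr : (c : F) ^ r = 1 := scalar_pow_eq_one hn0 hc hzr
      obtain ⟨l, hl⟩ := hk
      have hwL : x₀ ^ k * y₀ ∈ L' := by
        refine ⟨hw, (g : F) ^ l, (c : F) ^ r.choose 2, pow_ne_zero _ g.ne_zero, sq_pow_choose hcr, ?_⟩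
        rw [hpow, ← pow_mul, mul_comm k r, pow_mul, Units.val_mul, Units.val_mul,
          Units.val_pow_eq_pow_val (x₀ ^ r), hi, hj, Units.val_pow_eq_pow_val z, hc, smul_pow, one_pow,
          smul_pow, one_pow, smul_mul_smul_comm, one_mul, smul_mul_smul_comm, one_mul]
        congr 1
        rw [← pow_mul, ← pow_mul, mul_comm l r, ← hl, pow_add, mul_comm k i]
        ring
      have := scalars_comm (hsc hwL) x₀
      refine hne₀ ?_
      have e : x₀ ^ k * (x₀ * y₀) = x₀ ^ k * (y₀ * x₀) := by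
        calc x₀ ^ k * (x₀ * y₀) = x₀ * (x₀ ^ k * y₀) := by
              rw [← mul_assoc, ← mul_assoc, ← pow_succ, ← pow_succ']
          _ = _ := by rw [← this, mul_assoc]
      exact mul_left_cancel e
  -- the group
  set ε := r * Nat.gcd 2 r with hε
  let R : Subgroup (GL (Fin n) F) :=
    { carrier := {x | x ∈ MS ∧ x ^ ε = 1}
      one_mem' := ⟨MS.one_mem, one_pow _⟩
      mul_mem' := fun {x y} hx hy => by
        obtain ⟨z, -, hzr, hpow⟩ := hmulpow x hx.1 y hy.1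
        exact ⟨MS.mul_mem hx.1 hy.1, by rw [hpow, hx.2, hy.2, pow_choose_ext hr hzr, one_mul, one_mul]⟩
      inv_mem' := fun {x} hx => ⟨MS.inv_mem hx.1, by rw [inv_pow, hx.2, inv_one]⟩ }
  have hcover : ∀ x ∈ M, ∃ b : F, ∃ y ∈ R, (x : Mat n F) = b • (y : Mat n F) := by
    intro x hx
    obtain ⟨b, s, hb, hs, hbs⟩ := (hL'M.symm ▸ hx : x ∈ L').2
    have hs0 : s ≠ 0 := left_ne_zero_of_mul_eq_one hs
    set b₁ := if r = 2 then b else s * b with hb₁
    have hb₁0 : b₁ ≠ 0 := by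
      rw [hb₁]; split
      · exact hb
      · exact mul_ne_zero hs0 hb
    set u : GL (Fin n) F :=
      Units.map (Matrix.scalar (Fin n) : F →+* Mat n F).toMonoidHom (Units.mk0 b₁⁻¹ (inv_ne_zero hb₁0))
    have hu : (u : Mat n F) = b₁⁻¹ • 1 := scalar_unit _
    refine ⟨b₁, u * x, ⟨MS.mul_mem (Subgroup.mem_sup_right ⟨_, rfl⟩) (Subgroup.mem_sup_left hx), ?_⟩, ?_⟩
    · have hu' : Commute u x := scalars_comm ⟨_, rfl⟩ x
      refine Units.ext ?_
      rw [hε, pow_mul, hu'.mul_pow, Units.val_pow_eq_pow_val, Units.val_mul, hbs, Units.val_pow_eq_pow_val,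
        hu, smul_pow, one_pow, smul_mul_smul_comm, one_mul, smul_pow, one_pow, Units.val_one]
      rw [show (b₁⁻¹ ^ r * (s * b ^ r)) ^ Nat.gcd 2 r = 1 from ?_, one_smul]
      by_cases h2 : r = 2
      · rw [hb₁, if_pos h2, h2, Nat.gcd_self, inv_pow,
          show (b ^ 2)⁻¹ * (s * b ^ 2) = s by field_simp, pow_two, hs]
      · have hodd : Odd r := hr.odd_of_ne_two h2
        rw [hb₁, if_neg h2, show Nat.gcd 2 r = 1 from Nat.coprime_two_left.mpr hodd, pow_one,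
          inv_pow, mul_pow]
        obtain ⟨j, hj⟩ := hodd
        have hsr : s ^ r = s := by rw [hj, pow_succ, pow_mul, pow_two, hs, one_pow, one_mul]
        rw [hsr]
        field_simp
    · rw [Units.val_mul, hu, Matrix.smul_mul, one_mul, smul_smul, mul_inv_cancel₀ hb₁0, one_smul]
  refine ⟨r, R, ⟨hr, fun a ha b hb => ?_, fun x hx => hx.2, ?_, hdvd,
    fun x hx hxe => ⟨Subgroup.mem_sup_right hx, hxe⟩⟩, fun x hx => hx.1, fun h hh x hx => ?_, ?_⟩
  · obtain ⟨z, hz, -, e⟩ := hshift b hb.1 a ha.1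
    rw [show a * b * a⁻¹ * b⁻¹ = z by rw [e]; group]
    exact hz
  · rw [eq_top_iff, ← hfull]
    refine Algebra.adjoin_le ?_
    rintro _ ⟨x, hx, rfl⟩
    obtain ⟨b, y, hy, e⟩ := hcover x hx
    show (x : Mat n F) ∈ algOf R
    rw [e]
    exact Subalgebra.smul_mem _ (mem_algOf hy) b
  · obtain ⟨y, hy, s, hs, rfl⟩ := hrep x hx.1
    refine ⟨?_, by rw [conj_pow, hx.2, mul_one, mul_inv_cancel]⟩
    rw [show h * (y * s) * h⁻¹ = (h * y * h⁻¹) * (h * s * h⁻¹) by group]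
    exact MS.mul_mem (Subgroup.mem_sup_left (hMn h hh y hy))
      (Subgroup.mem_sup_right (scalars_normal.conj_mem s hs h))
  · intro A hAR hAn hAc
    have hrepA : ∀ a ∈ A ⊔ scalars (Fin n) F, ∃ x ∈ A, ∃ s ∈ scalars (Fin n) F, x * s = a :=
      fun a ha => Subgroup.mem_sup_of_normal_right.mp ha
    by_cases hsc : M ⊓ (A ⊔ scalars (Fin n) F) ≤ scalars (Fin n) F
    · intro a ha
      obtain ⟨x, hx, s, hs, rfl⟩ := hrep a (hAR ha).1
      refine mul_mem (hsc ⟨hx, ?_⟩) hs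
      rw [show x = x * s * s⁻¹ by group]
      exact mul_mem (Subgroup.mem_sup_left ha) (Subgroup.mem_sup_right (inv_mem hs))
    · exfalso
      have e := hmin (M ⊓ (A ⊔ scalars (Fin n) F)) inf_le_left (fun h hh x hx => ⟨hMn h hh x hx.1, by
        obtain ⟨a, ha, s, hs, rfl⟩ := hrepA x hx.2
        rw [show h * (a * s) * h⁻¹ = (h * a * h⁻¹) * (h * s * h⁻¹) by group]
        exact mul_mem (Subgroup.mem_sup_left (hAn h hh a ha))
          (Subgroup.mem_sup_right (scalars_normal.conj_mem s hs h))⟩) hsc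
      refine algOf_comm_false hn hfull fun x hx y hy => ?_
      obtain ⟨a, ha, s, hs, rfl⟩ := hrepA x (e.symm ▸ hx : x ∈ M ⊓ _).2
      obtain ⟨a', ha', s', hs', rfl⟩ := hrepA y (e.symm ▸ hy : y ∈ M ⊓ _).2
      calc a * s * (a' * s') = a * a' * (s * s') := by
            rw [mul_assoc a s, ← mul_assoc s, scalars_comm hs a']; group
        _ = a' * a * (s' * s) := by rw [hAc a ha a' ha', scalars_comm hs s']
        _ = a' * s' * (a * s) := by
            rw [mul_assoc a' s', ← mul_assoc s', scalars_comm hs' a]; group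

theorem exists_symType [Finite F] (hn : 2 ≤ n) {H M : Subgroup (GL (Fin n) F)}
    (hall : AllFull H) (hM : M ≤ H) (hMn : ∀ h ∈ H, ∀ x ∈ M, h * x * h⁻¹ ∈ M)
    (hM0 : ¬ M ≤ scalars (Fin n) F)
    (hmin : ∀ L ≤ M, (∀ h ∈ H, ∀ x ∈ L, h * x * h⁻¹ ∈ L) → ¬ L ≤ scalars (Fin n) F → L = M)
    (hMM : ⁅M, M⁆ ≤ scalars (Fin n) F) :
    ∃ (r : ℕ) (R : Subgroup (GL (Fin n) F)), SymType r R ∧
      (∀ h ∈ H, ∀ x ∈ R, h * x * h⁻¹ ∈ R) ∧
      ∀ A ≤ R, (∀ h ∈ H, ∀ x ∈ A, h * x * h⁻¹ ∈ A) → (∀ x ∈ A, ∀ y ∈ A, x * y = y * x) →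
        A ≤ scalars (Fin n) F := by
  obtain ⟨r, R, h1, -, h2, h3⟩ := exists_symType_data hn hall hM hMn hM0 hmin hMM
  exact ⟨r, R, h1, h2, h3⟩

end CfsgLib.Classical.AschGen
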