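import Cfsg.Agent.Lib.Classical.AschGen.SymType

/-!
# Orders and traces in a full group of symplectic type
-/

set_option autoImplicit false
set_option linter.unusedSectionVars false

namespace CfsgLib.Classical.AschGen

open Matrix Cfsg Cfsg.Geo CfsgLib.Classical.AschPrime
open scoped MatrixGroups

variable {F : Type*} [Field F] {n r : ℕ} {R : Subgroup (GL (Fin n) F)}

theorem SymType.natCast_ne [Finite F] (hR : SymType r R) : (r : F) ≠ 0 := by
  intro h
  haveI := Fintype.ofFinite F
  obtain ⟨k, hk⟩ := hR.dvd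
  rw [Nat.card_eq_fintype_card] at hk
  have h1 := congrArg (fun m : ℕ => (m : F)) hk
  simp only [Nat.cast_mul, h, zero_mul, Nat.cast_sub Fintype.card_pos, FiniteField.cast_card_eq_zero,
    Nat.cast_one, zero_sub, neg_eq_zero, one_ne_zero] at h1

theorem SymType.exists_noncomm (hR : SymType r R) (hn : 0 < n) {x : GL (Fin n) F}
    (hns : x ∉ scalars (Fin n) F) : ∃ y ∈ R, x * y ≠ y * x := by
  by_contra hall
  push Not at hall
  obtain ⟨c, hc⟩ := full_commutant hn hR.full (M := (x : Mat n F)) fun y hy =>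
    congrArg Units.val (hall y hy)
  exact hns (mem_scalars_of_eq hn hc)

theorem SymType.center_eq (hR : SymType r R) (hn : 0 < n) :
    Subgroup.center R = (scalars (Fin n) F).subgroupOf R := by
  ext ⟨x, hx⟩
  rw [Subgroup.mem_center_iff, Subgroup.mem_subgroupOf]
  refine ⟨fun h => ?_, fun h y => Subtype.ext (scalars_comm h y.1).symm⟩
  by_contra hns
  obtain ⟨y, hy, hne⟩ := hR.exists_noncomm hn hns
  exact hne (congrArg Subtype.val (h ⟨y, hy⟩)).symm

theorem SymType.trace_eq_zero (hR : SymType r R) (hn : 0 < n) {x : GL (Fin n) F} (hx : x ∈ R)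
    (hns : x ∉ scalars (Fin n) F) : (x : Mat n F).trace = 0 := by
  obtain ⟨y, hy, hne⟩ := hR.exists_noncomm hn hns
  obtain ⟨c, hc⟩ := (mem_scalars_iff _).mp (hR.comm y hy x hx)
  have hc1 : (c : F) ≠ 1 := fun e => by
    refine hne ?_
    have h1 : y * x * y⁻¹ * x⁻¹ = 1 := Units.ext (by rw [hc, e, one_smul, Units.val_one])
    exact ((mul_inv_eq_iff_eq_mul.mp (mul_inv_eq_one.mp h1))).symm
  have h1 : (y : Mat n F) * x * ((y⁻¹ : GL (Fin n) F) : Mat n F) = (c : F) • (x : Mat n F) := by
    rw [← Units.val_mul, ← Units.val_mul, ← inv_mul_cancel_right (y * x * y⁻¹) x, Units.val_mul, hc,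
      Matrix.smul_mul, one_mul]
  have h2 := congrArg Matrix.trace h1
  rw [Matrix.trace_units_conj, Matrix.trace_smul, smul_eq_mul] at h2
  refine (mul_eq_zero.mp (?_ : ((c : F) - 1) * (x : Mat n F).trace = 0)).resolve_left (sub_ne_zero.mpr hc1)
  rw [sub_mul, one_mul, ← h2, sub_self]

theorem SymType.scalar_pow (hR : SymType r R) (hn : 0 < n) {x : GL (Fin n) F} (hx : x ∈ R) {c : Fˣ}
    (hc : (x : Mat n F) = (c : F) • 1) : c ^ Nat.gcd (r * Nat.gcd 2 r) (Nat.card F - 1) = 1 := by
  refine pow_gcd_eq_one.mpr ⟨Units.ext ?_, ?_⟩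
  · rw [Units.val_pow_eq_pow_val, scalar_pow_eq_one hn hc (hR.pow_eq x hx), Units.val_one]
  · rw [← Nat.card_units]
    exact pow_card_eq_one'

theorem SymType.span_eq_top [Finite F] (hR : SymType r R) :
    Submodule.span F (matrixSet R) = ⊤ := by
  have hclos : (Submonoid.closure (matrixSet R) : Set (Mat n F)) = matrixSet R := by
    let S : Submonoid (Mat n F) :=
      { carrier := matrixSet R
        one_mem' := ⟨1, R.one_mem, Units.val_one⟩
        mul_mem' := by
          rintro _ _ ⟨a, ha, rfl⟩ ⟨b, hb, rfl⟩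
          exact ⟨a * b, R.mul_mem ha hb, Units.val_mul a b⟩ }
    exact congrArg SetLike.coe (Submonoid.closure_eq S)
  have h := Algebra.adjoin_eq_span F (matrixSet R)
  rw [hclos] at h
  rw [← h, ← algOf, hR.full]
  rfl

theorem trace_scalar {x : GL (Fin n) F} {c : F} (hc : (x : Mat n F) = c • 1) :
    (x : Mat n F).trace = c * n := by
  rw [hc, Matrix.trace_smul, Matrix.trace_one, Fintype.card_fin, smul_eq_mul]

theorem SymType.natCast_n_ne [Finite F] (hR : SymType r R) (hn : 0 < n) : (n : F) ≠ 0 := by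
  intro h0
  haveI : NeZero n := ⟨hn.ne'⟩
  have hle : Submodule.span F (matrixSet R) ≤ LinearMap.ker (Matrix.traceLinearMap (Fin n) F F) := by
    refine Submodule.span_le.mpr ?_
    rintro _ ⟨x, hx, rfl⟩
    show (x : Mat n F).trace = 0
    by_cases hs : x ∈ scalars (Fin n) F
    · obtain ⟨c, hc⟩ := (mem_scalars_iff x).mp hs
      rw [trace_scalar hc, h0, mul_zero]
    · exact hR.trace_eq_zero hn hx hs
  rw [hR.span_eq_top] at hle
  have := hle (Submodule.mem_top (x := Matrix.single (0 : Fin n) 0 (1 : F)))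
  simp [Matrix.trace_single_eq_same] at this

theorem SymType.card_quot [Finite F] (hR : SymType r R) (hn : 0 < n) :
    Nat.card (R ⧸ Subgroup.center R) = n * n := by
  classical
  haveI := Fintype.ofFinite (R ⧸ Subgroup.center R)
  let v : R ⧸ Subgroup.center R → Mat n F := fun q => ((q.out : R).1 : Mat n F)
  have hmem : ∀ x : R, x ∈ Subgroup.center R ↔ x.1 ∈ scalars (Fin n) F := fun x => by
    rw [hR.center_eq hn]; rfl
  have hli : LinearIndependent F v := by
    rw [Fintype.linearIndependent_iff]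
    intro g hg k
    have e := congrArg (fun X => (((k.out : R)⁻¹.1 : GL (Fin n) F) : Mat n F) * X) hg
    simp only [mul_zero, Finset.mul_sum, Matrix.mul_smul, v, ← Units.val_mul, ← Subgroup.coe_mul] at e
    have e2 := congrArg Matrix.trace e
    rw [Matrix.trace_sum, Matrix.trace_zero, Finset.sum_eq_single k] at e2
    · rw [inv_mul_cancel, Subgroup.coe_one, Units.val_one, Matrix.trace_smul, Matrix.trace_one,
        Fintype.card_fin, smul_eq_mul] at e2
      exact (mul_eq_zero.mp e2).resolve_right (hR.natCast_n_ne hn)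
    · intro j _ hjk
      rw [Matrix.trace_smul, hR.trace_eq_zero hn (SetLike.coe_mem _), smul_zero]
      intro hs
      refine hjk ?_
      have h1 := QuotientGroup.eq.mpr ((hmem ((k.out : R)⁻¹ * j.out)).mpr hs)
      rw [QuotientGroup.out_eq', QuotientGroup.out_eq'] at h1
      exact h1.symm
    · exact fun h => absurd (Finset.mem_univ k) h
  have hsp : Submodule.span F (Set.range v) = ⊤ := by
    rw [eq_top_iff, ← hR.span_eq_top]
    refine Submodule.span_le.mpr ?_
    rintro _ ⟨x, hx, rfl⟩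
    obtain ⟨s, hs⟩ := QuotientGroup.mk_out_eq_mul (Subgroup.center R) (⟨x, hx⟩ : R)
    obtain ⟨c, hc⟩ := (mem_scalars_iff _).mp ((hmem _).mp s.2)
    have e : v (QuotientGroup.mk ⟨x, hx⟩) = (c : F) • (x : Mat n F) := by
      show (((QuotientGroup.mk (⟨x, hx⟩ : R) : R ⧸ _).out : R).1 : Mat n F) = _
      rw [hs, Subgroup.coe_mul, Units.val_mul, hc, Matrix.mul_smul, mul_one]
    have e' : (x : Mat n F) = (c : F)⁻¹ • v (QuotientGroup.mk ⟨x, hx⟩) := by
      rw [e, inv_smul_smul₀ c.ne_zero]
    show (x : Mat n F) ∈ _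
    rw [e']
    exact Submodule.smul_mem _ _ (Submodule.subset_span ⟨_, rfl⟩)
  have h := finrank_span_eq_card hli
  rw [hsp, finrank_top, Module.finrank_matrix, Module.finrank_self, Fintype.card_fin, mul_one] at h
  rw [Nat.card_eq_fintype_card, h]

theorem SymType.card_eq [Finite F] (hR : SymType r R) (hn : 0 < n) :
    Nat.card R = n * n * Nat.card (Subgroup.center R) := by
  rw [← hR.card_quot hn]
  exact Subgroup.card_eq_card_quotient_mul_card_subgroup _

theorem SymType.isPGroup (hR : SymType r R) : IsPGroup r R := by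
  rcases hR.prime.eq_two_or_odd' with rfl | hodd
  · exact fun x => ⟨2, Subtype.ext (by
      rw [Subgroup.coe_pow]; simpa using hR.pow_eq x.1 x.2)⟩
  · exact fun x => ⟨1, Subtype.ext (by
      rw [Subgroup.coe_pow, pow_one]
      simpa [show Nat.gcd 2 r = 1 from Nat.coprime_two_left.mpr hodd] using hR.pow_eq x.1 x.2)⟩

theorem SymType.exists_dim [Finite F] (hR : SymType r R) (hn : 2 ≤ n) :
    ∃ m, 1 ≤ m ∧ n = r ^ m := by
  haveI := Fact.mk hR.prime
  obtain ⟨d, hd⟩ := IsPGroup.iff_card.mp hR.isPGroup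
  have hdvd : n ∣ r ^ d := ⟨n * Nat.card (Subgroup.center R), by
    rw [← hd, hR.card_eq (by omega), mul_assoc]⟩
  obtain ⟨m, -, hm⟩ := (Nat.dvd_prime_pow hR.prime).mp hdvd
  refine ⟨m, ?_, hm⟩
  by_contra h
  obtain rfl : m = 0 := by omega
  rw [pow_zero] at hm
  omega

theorem SymType.card_center [Finite F] (hR : SymType r R) (hn : 0 < n)
    (hdvd : r * Nat.gcd 2 r ∣ Nat.card F - 1) : Nat.card (Subgroup.center R) = r * Nat.gcd 2 r := by
  classical
  set ε := r * Nat.gcd 2 r with hε
  haveI : NeZero n := ⟨hn.ne'⟩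
  let φ : Fˣ →* GL (Fin n) F := Units.map (Matrix.scalar (Fin n) : F →+* Mat n F).toMonoidHom
  have hφ : Function.Injective φ := fun a b h => Units.ext (by
    have := congrArg (fun x : GL (Fin n) F => (x : Mat n F) 0 0) h
    simpa [φ] using this)
  have h1 : (Subgroup.center R).map R.subtype = (powMonoidHom ε : Fˣ →* Fˣ).ker.map φ := by
    rw [hR.center_eq hn]
    ext x
    constructor
    · rintro ⟨⟨y, hy⟩, ⟨c, hc⟩, rfl⟩
      refine ⟨c, ?_, hc⟩
      refine hφ ?_
      have hc' : φ c = y := hc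
      rw [powMonoidHom_apply, map_pow, hc', hR.pow_eq y hy, map_one]
    · rintro ⟨c, hc, rfl⟩
      refine ⟨⟨φ c, hR.mem_of_pow _ ⟨c, rfl⟩ ?_⟩, ⟨c, rfl⟩, rfl⟩
      rw [← map_pow, ← powMonoidHom_apply ε c, hc, map_one]
  have h2 := congrArg (fun S : Subgroup (GL (Fin n) F) => Nat.card S) h1
  simp only [Subgroup.card_map_of_injective R.subtype_injective, Subgroup.card_map_of_injective hφ] at h2
  rw [h2, IsCyclic.card_powMonoidHom_ker, Nat.card_units, Nat.gcd_eq_right hdvd]

theorem SymType.exponent_eq [Finite F] (hR : SymType r R) (hn : 2 ≤ n) :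
    Monoid.exponent R = r * Nat.gcd 2 r := by
  have hdvd : Monoid.exponent R ∣ r * Nat.gcd 2 r := Monoid.exponent_dvd_of_forall_pow_eq_one
    fun x => Subtype.ext (hR.pow_eq x.1 x.2)
  have hnc : ¬ ∀ a b : R, a * b = b * a := fun h =>
    algOf_comm_false hn hR.full fun x hx y hy => congrArg Subtype.val (h ⟨x, hx⟩ ⟨y, hy⟩)
  have h1 : Monoid.exponent R ≠ 1 := fun h => hnc fun a b => by
    haveI := Monoid.exp_eq_one_iff.mp h
    exact Subsingleton.elim _ _
  rcases hR.prime.eq_two_or_odd' with rfl | hodd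
  · have h2 : Monoid.exponent R ≠ 2 := fun h => hnc fun a b => by
      have h3 : ∀ x : R, x⁻¹ = x := fun x => inv_eq_of_mul_eq_one_right (by
        rw [← pow_two]; exact h ▸ Monoid.pow_exponent_eq_one x)
      calc a * b = (a * b)⁻¹ := (h3 _).symm
        _ = b * a := by rw [_root_.mul_inv_rev, h3, h3]
    have hle := Nat.le_of_dvd (by norm_num) hdvd
    have h0 : Monoid.exponent R ≠ 0 := fun h => by rw [h] at hdvd; simp at hdvd
    norm_num at hdvd hle ⊢
    interval_cases h : Monoid.exponent R <;> simp_all (config := { decide := true })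
  · rw [show Nat.gcd 2 r = 1 from Nat.coprime_two_left.mpr hodd, mul_one] at hdvd ⊢
    exact ((Nat.dvd_prime hR.prime).mp hdvd).resolve_left h1

end CfsgLib.Classical.AschGen
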