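import Cfsg.Agent.Lib.Classical.AschPrime.Basic

/-!
# Homomorphic images of matrix algebras inside a matrix algebra

A unital homomorphism of a matrix algebra into another is conjugate to `X ↦ X ⊗ 1`, and commuting
homomorphisms combine to one from the matrix algebra on the product of the index sets.
-/

set_option autoImplicit false
set_option linter.unusedSectionVars false

namespace CfsgLib.Classical.AschGen

open Matrix Cfsg Cfsg.Geo CfsgLib.Classical.AschPrime
open scoped MatrixGroups Kronecker

variable {F : Type*} [Field F] {n : ℕ}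
variable {κ : Type*} [Fintype κ] [DecidableEq κ] {μ : Type*} [Fintype μ] [DecidableEq μ]

theorem hom_eq_sum (Φ : Matrix κ κ F →ₐ[F] Mat n F) (X : Matrix κ κ F) :
    Φ X = ∑ a, ∑ b, X a b • Φ (Matrix.single a b 1) := by
  conv_lhs => rw [Matrix.matrix_eq_sum_single X]
  rw [map_sum]
  refine Finset.sum_congr rfl fun a _ => ?_
  rw [map_sum]
  refine Finset.sum_congr rfl fun b _ => ?_
  rw [← map_smul, Matrix.smul_single, smul_eq_mul, mul_one]

theorem single_mul_single_ite (a b c d : κ) :
    (Matrix.single a b (1 : F)) * Matrix.single c d 1 = if b = c then Matrix.single a d 1 else 0 := by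
  split
  · subst_vars; rw [Matrix.single_mul_single_same, mul_one]
  · rename_i h; rw [Matrix.single_mul_single_of_ne _ _ _ _ h]

theorem sum_single_diag : ∑ a, Matrix.single a a (1 : F) = (1 : Matrix κ κ F) := by
  ext i j
  rw [Matrix.sum_apply, Matrix.one_apply]
  by_cases h : i = j
  · subst h; simp [Matrix.single_apply]
  · rw [if_neg h, Finset.sum_eq_zero fun a _ => ?_]
    simp only [Matrix.single_apply]
    rw [if_neg]
    rintro ⟨rfl, rfl⟩
    exact h rfl

/-- The change of coordinates of `X ⊗ 1` along a bijection. -/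
noncomputable def stdHom {k : ℕ} (e : Fin n ≃ κ × Fin k) (X : Matrix κ κ F) : Mat n F :=
  Matrix.reindex e.symm e.symm (X ⊗ₖ (1 : Matrix (Fin k) (Fin k) F))

theorem stdHom_apply {k : ℕ} (e : Fin n ≃ κ × Fin k) (X : Matrix κ κ F) (i j : Fin n) :
    stdHom e X i j = X (e i).1 (e j).1 * (1 : Matrix (Fin k) (Fin k) F) (e i).2 (e j).2 := rfl

theorem stdHom_symm {k : ℕ} (e : Fin n ≃ κ × Fin k) (X : Matrix κ κ F) (p q : κ × Fin k) :
    stdHom e X (e.symm p) (e.symm q) = X p.1 q.1 * (1 : Matrix (Fin k) (Fin k) F) p.2 q.2 := by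
  rw [stdHom_apply, e.apply_symm_apply, e.apply_symm_apply]

/-- A unital homomorphism of a matrix algebra is conjugate to the standard one. -/
theorem exists_std (Φ : Matrix κ κ F →ₐ[F] Mat n F) [Nonempty κ] :
    ∃ (k : ℕ) (e : Fin n ≃ κ × Fin k) (P : GL (Fin n) F),
      ∀ X, Φ X = (P : Mat n F) * stdHom e X * ((P⁻¹ : GL (Fin n) F) : Mat n F) := by
  classical
  obtain ⟨c⟩ := ‹Nonempty κ›
  set U : κ → κ → Mat n F := fun a b => Φ (Matrix.single a b 1) with hU
  have hmul : ∀ a b a' b', U a b * U a' b' = if b = a' then U a b' else 0 := fun a b a' b' => by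
    rw [hU, ← map_mul, single_mul_single_ite]
    split <;> simp
  have hone : ∑ a, U a a = 1 := by rw [hU, ← map_sum, sum_single_diag, map_one]
  set W : Submodule F (Fin n → F) := LinearMap.range (Matrix.toLin' (U c c))
  let k := Module.finrank F W
  let bW : Module.Basis (Fin k) F W := Module.finBasis F W
  let w : κ × Fin k → (Fin n → F) := fun p => U p.1 c *ᵥ (bW p.2 : Fin n → F)
  have hfix : ∀ x : W, U c c *ᵥ (x : Fin n → F) = x := fun x => by
    obtain ⟨y, hy⟩ := x.2
    rw [← hy, Matrix.toLin'_apply, Matrix.mulVec_mulVec, hmul, if_pos rfl]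
  have hUw : ∀ a b p, U a b *ᵥ w p = if b = p.1 then w (a, p.2) else 0 := fun a b p => by
    show U a b *ᵥ (U p.1 c *ᵥ _) = _
    rw [Matrix.mulVec_mulVec, hmul]
    split
    · rfl
    · rw [Matrix.zero_mulVec]
  have hspan : ⊤ ≤ Submodule.span F (Set.range w) := by
    intro v _
    have hv : v = ∑ a, U a c *ᵥ (U c a *ᵥ v) := by
      simp only [Matrix.mulVec_mulVec, hmul, if_true, ← Matrix.sum_mulVec, hone, Matrix.one_mulVec]
    rw [hv]
    refine Submodule.sum_mem _ fun a _ => ?_
    have hmem : U c a *ᵥ v ∈ W := ⟨U c a *ᵥ v, by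
      rw [Matrix.toLin'_apply, Matrix.mulVec_mulVec, hmul, if_pos rfl]⟩
    have e := congrArg (fun x : W => U a c *ᵥ (x : Fin n → F)) (bW.sum_repr ⟨_, hmem⟩).symm
    simp only at e
    rw [e, Submodule.coe_sum, Matrix.mulVec_sum]
    refine Submodule.sum_mem _ fun j _ => ?_
    rw [Submodule.coe_smul, Matrix.mulVec_smul]
    exact Submodule.smul_mem _ _ (Submodule.subset_span ⟨(a, j), rfl⟩)
  have hli : LinearIndependent F w := by
    rw [Fintype.linearIndependent_iff]
    intro g hg p
    obtain ⟨a, j⟩ := p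
    have e := congrArg (fun v => U c a *ᵥ v) hg
    simp only [Matrix.mulVec_sum, Matrix.mulVec_smul, Matrix.mulVec_zero, hUw, smul_ite, smul_zero,
      Fintype.sum_prod_type] at e
    rw [Finset.sum_eq_single a (fun b _ hb => Finset.sum_eq_zero fun i _ => if_neg (Ne.symm hb))
      (fun h => absurd (Finset.mem_univ a) h)] at e
    simp only [if_pos] at e
    have hwc : ∀ i, w (c, i) = (bW i : Fin n → F) := fun i => hfix (bW i)
    simp only [hwc, ← Submodule.coe_smul, ← Submodule.coe_sum] at e
    have e' : ∑ i, g (a, i) • bW i = 0 := Subtype.ext e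
    exact Fintype.linearIndependent_iff.mp bW.linearIndependent _ e' j
  let B : Module.Basis (κ × Fin k) F (Fin n → F) := Module.Basis.mk hli hspan
  have hcard : Fintype.card (κ × Fin k) = n := by
    have := Module.finrank_eq_card_basis B
    rw [Module.finrank_fintype_fun_eq_card, Fintype.card_fin] at this
    exact this.symm
  let e : Fin n ≃ κ × Fin k := (Fintype.equivFinOfCardEq hcard).symm
  obtain ⟨P, hP⟩ : IsUnit (Matrix.of fun i j => w (e j) i : Mat n F) := by
    rw [← Matrix.linearIndependent_cols_iff_isUnit]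
    exact hli.comp _ e.injective
  refine ⟨k, e, P, fun X => ?_⟩
  have key : Φ X * (P : Mat n F) = (P : Mat n F) * stdHom e X := by
    ext i j
    have hl : (Φ X * (P : Mat n F)) i j = (Φ X *ᵥ w (e j)) i := by rw [hP]; rfl
    rw [hl, hom_eq_sum]
    simp only [Matrix.sum_mulVec, Matrix.smul_mulVec]
    change (∑ a, ∑ b, X a b • (U a b *ᵥ w (e j))) i = _
    simp only [hUw, smul_ite, smul_zero, Finset.sum_ite_eq', Finset.mem_univ, if_true]
    rw [Finset.sum_apply, Matrix.mul_apply, ← e.symm.sum_comp, Fintype.sum_prod_type, hP]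
    refine Finset.sum_congr rfl fun a _ => ?_
    rw [Finset.sum_eq_single (e j).2]
    · simp only [stdHom_apply, Matrix.of_apply, Equiv.apply_symm_apply, Matrix.one_apply_eq, mul_one,
        Pi.smul_apply, smul_eq_mul]
      rw [show (e (e.symm (a, (e j).2))).2 = (e j).2 by rw [e.apply_symm_apply],
        Matrix.one_apply_eq, mul_one]
      exact mul_comm _ _
    · intro b _ hb
      simp [stdHom_apply, hb]
    · exact fun h => absurd (Finset.mem_univ _) h
  rw [← key, mul_assoc, Units.mul_inv, mul_one]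

/-- Commuting homomorphisms of two matrix algebras combine. -/
theorem exists_prod (φ : Matrix κ κ F →ₐ[F] Mat n F) (ψ : Matrix μ μ F →ₐ[F] Mat n F)
    (hc : ∀ X Y, Commute (φ X) (ψ Y)) :
    ∃ Φ : Matrix (κ × μ) (κ × μ) F →ₐ[F] Mat n F,
      (∀ X, Φ (X ⊗ₖ 1) = φ X) ∧ ∀ Y, Φ (1 ⊗ₖ Y) = ψ Y := by
  classical
  set U : κ × μ → κ × μ → Mat n F := fun p q =>
    φ (Matrix.single p.1 q.1 1) * ψ (Matrix.single p.2 q.2 1)
  have hmul : ∀ p q r s, U p q * U r s = if q = r then U p s else 0 := fun p q r s => by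
    show φ _ * ψ _ * (φ _ * ψ _) = _
    rw [(hc _ _).symm.mul_mul_mul_comm, ← map_mul, ← map_mul, single_mul_single_ite,
      single_mul_single_ite]
    by_cases h1 : q.1 = r.1
    · by_cases h2 : q.2 = r.2
      · rw [if_pos h1, if_pos h2, if_pos (Prod.ext h1 h2)]
      · rw [if_neg h2, map_zero, mul_zero, if_neg fun e => h2 (congrArg Prod.snd e)]
    · rw [if_neg h1, map_zero, zero_mul, if_neg fun e => h1 (congrArg Prod.fst e)]
  have hone : ∑ p, U p p = 1 := by
    rw [Fintype.sum_prod_type]
    simp only [U]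
    simp only [← Finset.mul_sum, ← map_sum, sum_single_diag, map_one, mul_one]
  let L : Matrix (κ × μ) (κ × μ) F →ₗ[F] Mat n F :=
    { toFun := fun X => ∑ p, ∑ q, X p q • U p q
      map_add' := fun X Y => by simp [add_smul, Finset.sum_add_distrib]
      map_smul' := fun c X => by simp [Finset.smul_sum, smul_smul] }
  have hL : ∀ X, L X = ∑ p, ∑ q, X p q • U p q := fun X => rfl
  have hL1 : L 1 = 1 := by
    rw [hL, ← hone]
    refine Finset.sum_congr rfl fun p _ => ?_
    rw [Finset.sum_eq_single p (fun q _ hq => by rw [Matrix.one_apply_ne hq.symm, zero_smul])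
      (fun h => absurd (Finset.mem_univ p) h), Matrix.one_apply_eq, one_smul]
  have hUL : ∀ p q Y, U p q * L Y = ∑ s, Y q s • U p s := fun p q Y => by
    rw [hL, Finset.mul_sum]
    rw [Finset.sum_eq_single q (fun r _ hr => ?_) (fun h => absurd (Finset.mem_univ q) h)]
    · rw [Finset.mul_sum]
      exact Finset.sum_congr rfl fun s _ => by rw [mul_smul_comm, hmul, if_pos rfl]
    · rw [Finset.mul_sum]
      exact Finset.sum_eq_zero fun s _ => by rw [mul_smul_comm, hmul, if_neg (Ne.symm hr), smul_zero]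
  have hLmul : ∀ X Y, L (X * Y) = L X * L Y := fun X Y => by
    rw [hL, hL X, Finset.sum_mul]
    refine Finset.sum_congr rfl fun p _ => ?_
    rw [Finset.sum_mul]
    simp only [smul_mul_assoc, hUL, Finset.smul_sum, smul_smul, Matrix.mul_apply, Finset.sum_smul]
    exact Finset.sum_comm
  refine ⟨AlgHom.ofLinearMap L hL1 hLmul, fun X => ?_, fun Y => ?_⟩
  · show L _ = _
    rw [hL, Fintype.sum_prod_type, hom_eq_sum φ X]
    refine Finset.sum_congr rfl fun a _ => ?_
    simp only [U, Fintype.sum_prod_type, Matrix.kroneckerMap_apply, Matrix.one_apply, mul_ite,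
      mul_one, mul_zero, ite_smul, zero_smul, Finset.sum_ite_eq, Finset.mem_univ, if_true]
    rw [Finset.sum_comm]
    refine Finset.sum_congr rfl fun b _ => ?_
    rw [← Finset.smul_sum, ← Finset.mul_sum, ← map_sum, sum_single_diag, map_one, mul_one]
  · show L _ = _
    rw [hL, Fintype.sum_prod_type, hom_eq_sum ψ Y, Finset.sum_comm]
    refine Finset.sum_congr rfl fun a _ => ?_
    simp only [U, Fintype.sum_prod_type, Matrix.kroneckerMap_apply, Matrix.one_apply, ite_mul,
      one_mul, zero_mul, ite_smul, zero_smul, Finset.sum_ite_irrel, Finset.sum_const_zero,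
      Finset.sum_ite_eq, Finset.mem_univ, if_true]
    rw [Finset.sum_comm]
    refine Finset.sum_congr rfl fun b _ => ?_
    rw [← Finset.smul_sum, ← Finset.sum_mul, ← map_sum, sum_single_diag, map_one, one_mul]

end CfsgLib.Classical.AschGen
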